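import Groth.Agent.PerfB.KoszulMod
import Groth.Agent.Fga.HShift

/-!
# Vanishing of cohomology through Koszul complexes on an arbitrary scheme

* `first_of_exact_complex`: `H^q` of the first term of an exact complex.
* `koszul_last`, `koszul_first`: vanishing for the last / first term of the Koszul complex on commuting operators
  `T j i : M i ⟶ M (i + 1)` one of which is locally bijective.
-/

set_option autoImplicit false
universe u

open CategoryTheory CategoryTheory.Limits AlgebraicGeometry Opposite TopologicalSpace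

namespace K700.KosVan

open Groth.Agent.Fga.HShift Groth.Agent.PerfB.KoszulMod

variable {X : Scheme.{u}}

/-- `H^0` of a submodule. -/
theorem subsingleton_zero_of_mono {M N : X.Modules} (f : M ⟶ N) [Mono f]
    (h : Subsingleton (Coh.HH X N 0)) : Subsingleton (Coh.HH X M 0) := by
  have hS : (ShortComplex.mk f (cokernel.π f) (cokernel.condition f)).ShortExact :=
    { exact := ShortComplex.exact_cokernel f
      mono_f := inferInstance
      epi_g := by dsimp; infer_instance }
  have hS' := map_shortExact hS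
  have : Mono ((shAb X).map f) := hS'.mono_f
  refine subsingleton_of_forall_eq 0 fun x => ?_
  obtain ⟨g, rfl⟩ : ∃ g, x = Abelian.Ext.mk₀ g := ⟨_, (Abelian.Ext.mk₀_homEquiv₀_apply x).symm⟩
  have h1 : (Abelian.Ext.mk₀ (g ≫ (shAb X).map f)) = (0 : Abelian.Ext (zSh X) ((shAb X).obj N) 0) :=
    h.elim _ _
  have h2 : g ≫ (shAb X).map f = 0 := by
    apply Abelian.Ext.homEquiv₀.symm.injective
    change Abelian.Ext.mk₀ _ = Abelian.Ext.mk₀ _
    rw [Abelian.Ext.mk₀_zero]
    exact h1
  have h3 : g = 0 := by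
    refine (cancel_mono ((shAb X).map f)).1 ?_
    exact h2.trans zero_comp.symm
  rw [h3, Abelian.Ext.mk₀_zero]

section Complex

variable (K : CochainComplex X.Modules ℤ) (hK : ∀ i, K.ExactAt i)

include hK in
theorem cyc_vanish (q : ℕ) (i : ℤ)
    (h : ∀ j : ℕ, j ≤ q → Subsingleton (Coh.HH X (K.X (i + j)) (q - j))) :
    Subsingleton (Coh.HH X (kernel (K.d i (i + 1))) q) := by
  induction q generalizing i with
  | zero =>
    refine subsingleton_zero_of_mono (kernel.ι (K.d i (i + 1))) ?_
    have := h 0 le_rfl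
    simpa using this
  | succ q ih =>
    refine subsingleton₁ (cycSeq_shortExact K hK i) q ?_ ?_
    · refine ih (i + 1) fun j hj => ?_
      have := h (j + 1) (by omega)
      have e : i + ((j + 1 : ℕ) : ℤ) = i + 1 + j := by push_cast; ring
      rw [e] at this
      have e2 : q + 1 - (j + 1) = q - j := by omega
      rwa [e2] at this
    · have := h 0 (by omega)
      simpa using this

include hK in
/-- `H^q` of the first term of an exact complex `0 ⟶ K 0 ⟶ K 1 ⟶ ⋯`. -/
theorem first_of_exact_complex (hneg : ∀ i : ℤ, i < 0 → IsZero (K.X i)) (q : ℕ)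
    (h : ∀ j : ℕ, j ≤ q → Subsingleton (Coh.HH X (K.X (1 + j)) (q - j))) :
    Subsingleton (Coh.HH X (K.X 0) q) := by
  have hS := cycSeq_shortExact K hK 0
  have hz : IsZero (kernel (K.d (0 : ℤ) (0 + 1))) := by
    have h1 := cycSeq_shortExact K hK (-1)
    have : Epi (cycSeq K (-1)).g := h1.epi_g
    exact (hneg (-1) (by simp)).of_epi (cycSeq K (-1)).g
  refine subsingleton₂ hS q (subsingleton_of_isZero hz q) ?_
  exact cyc_vanish K hK q (0 + 1) h

end Complex

theorem subsingleton_kTerm {N : ℕ} (M : ℤ → X.Modules) (i : ℤ) (q : ℕ)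
    (h : Subsingleton (Coh.HH X (M i) q)) : Subsingleton (Coh.HH X (kTerm (N := N) M i) q) :=
  subsingleton_of_iso (biproduct.isoCoproduct _).symm q (subsingleton_coproduct _ q fun _ => h)

theorem isZero_kTerm (M : ℤ → X.Modules) (N : ℕ) (i : ℤ) (h : i < 0 ∨ (N : ℤ) < i) :
    IsZero (kTerm (N := N) M i) := by
  have : IsEmpty (Idx N i) := ⟨fun S => by
    have h1 := S.2
    have h2 : S.1.card ≤ N := by simpa using Finset.card_le_univ S.1
    omega⟩
  rw [IsZero.iff_id_eq_zero]
  exact biproduct.hom_ext _ _ fun j => (this.false j).elim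

/-- `kTerm M i` in degrees `0` and `N` is `M i`. -/
noncomputable def kTermIso (M : ℤ → X.Modules) (N : ℕ) (i : ℤ) [Unique (Idx N i)] :
    kTerm (N := N) M i ≅ M i :=
  biproductUniqueIso _

instance uniqueZero (N : ℕ) : Unique (Idx N 0) where
  default := ⟨∅, by simp⟩
  uniq S := Subtype.ext (by simpa using S.2)

instance uniqueTop (N : ℕ) : Unique (Idx N (N : ℤ)) where
  default := ⟨Finset.univ, by simp⟩
  uniq S := Subtype.ext (by
    have h1 : S.1.card = N := by exact_mod_cast S.2
    exact Finset.eq_univ_of_card _ (by simpa using h1))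

variable {N : ℕ} (M : ℤ → X.Modules) (T : Fin N → ∀ i : ℤ, M i ⟶ M (i + 1))
  (hT : ∀ (k l : Fin N) (i : ℤ), T k i ≫ T l (i + 1) = T l i ≫ T k (i + 1))
  (hloc : ∀ x : X, ∃ (V : X.Opens) (_ : x ∈ V) (j : Fin N), ∀ (U : X.Opens), U ≤ V →
      ∀ i, Function.Bijective ((T j i).app U))

include hT hloc in
/-- `H^q(M N) = 0` if `H^{q+j}(M (N - 1 - j)) = 0` for `0 ≤ j ≤ N - 1`. -/
theorem koszul_last (q : ℕ)
    (h : ∀ i j : ℕ, i + j + 1 = N → Subsingleton (Coh.HH X (M i) (q + j))) :
    Subsingleton (Coh.HH X (M N) q) := by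
  have h1 : Subsingleton (Coh.HH X ((koszulCx M T hT).X N) q) := by
    refine subsingleton_of_exact_complex (koszulCx M T hT) (koszulCx_exactAt M T hT hloc) ?_ N ?_ q ?_
    · intro i hi
      exact isZero_kTerm M N i (Or.inl hi)
    · exact isZero_kTerm M N _ (Or.inr (by omega))
    · intro i j hij
      exact subsingleton_kTerm M i _ (h i j hij)
  exact subsingleton_of_iso (kTermIso M N N) q h1

include hT hloc in
/-- `H^q(M 0) = 0` if `H^{q-j}(M (1 + j)) = 0` for `0 ≤ j ≤ min q (N - 1)`. -/
theorem koszul_first (q : ℕ)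
    (h : ∀ j : ℕ, j ≤ q → j + 1 ≤ N → Subsingleton (Coh.HH X (M (1 + j)) (q - j))) :
    Subsingleton (Coh.HH X (M 0) q) := by
  have h1 : Subsingleton (Coh.HH X ((koszulCx M T hT).X 0) q) := by
    refine first_of_exact_complex (koszulCx M T hT) (koszulCx_exactAt M T hT hloc) ?_ q ?_
    · intro i hi
      exact isZero_kTerm M N i (Or.inl hi)
    · intro j hj
      by_cases hjN : j + 1 ≤ N
      · exact subsingleton_kTerm M (1 + j) _ (h j hj hjN)
      · exact subsingleton_of_isZero (isZero_kTerm M N _ (Or.inr (by omega))) _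
  exact subsingleton_of_iso (kTermIso M N 0) q h1

end K700.KosVan
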