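import Groth.Agent.Lefpen.H21.PicTwist
import Groth.Agent.PerfB.TensInv
import Groth.Agent.Ega3B.TensorIso
import Groth.Agent.VBPn.K700.KosVan

/-!
# Vanishing of `H^i(X, F ⊗ L)` for `L` in a class of the Picard group

* `Van F c i`: `H^i(X, F ⊗ L) = 0` for the invertible modules `L` of class `c`.
* `van₁`, `van₂`, `van₃`, `van_zero_of_mono`: short exact sequences.
* `van_last`, `van_first`: pulled back Koszul complexes for a morphism `g : X ⟶ P^m`.
-/

set_option autoImplicit false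
universe u

open CategoryTheory CategoryTheory.Limits AlgebraicGeometry Opposite TopologicalSpace

namespace K700.PicVan

open Groth.Agent.Fga.HShift Groth.Agent.Grpsch.PicGrp Groth.Agent.Lefpen.H21.PicTwist
open Groth.Agent.Ega2.Tens

variable {X : Scheme.{u}}

/-- `H^i(X, F ⊗ L) = 0` for `L` of class `c`. -/
def Van (F : X.Modules) (c : Pic X) (i : ℕ) : Prop :=
  ∀ (L : X.Modules) (hL : PicF.IsInvertible L), mk L hL = c → Subsingleton (Coh.HH X (CohB1.tensorMod F L) i)

theorem van_mk_iff {F L : X.Modules} (hL : PicF.IsInvertible L) {i : ℕ} :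
    Van F (mk L hL) i ↔ Subsingleton (Coh.HH X (CohB1.tensorMod F L) i) := by
  refine ⟨fun h => h L hL rfl, fun h M hM e => ?_⟩
  obtain ⟨e⟩ := (mk_eq_iff hM hL).1 e
  exact subsingleton_of_iso (mapTIso (Iso.refl F) e.symm) i h

theorem van_one_iff {F : X.Modules} {i : ℕ} : Van F 1 i ↔ Subsingleton (Coh.HH X F i) := by
  rw [one_def, van_mk_iff]
  exact ⟨fun h => subsingleton_of_iso (runit F) i h, fun h => subsingleton_of_iso (runit F).symm i h⟩

theorem van_of_iso {F G : X.Modules} (e : F ≅ G) {c : Pic X} {i : ℕ} (h : Van F c i) : Van G c i :=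
  fun L hL hc => subsingleton_of_iso (mapTIso e (Iso.refl L)) i (h L hL hc)

theorem van_iso_iff {F G : X.Modules} (e : F ≅ G) {c : Pic X} {i : ℕ} : Van F c i ↔ Van G c i :=
  ⟨van_of_iso e, van_of_iso e.symm⟩

theorem van_tensor_iff {F L : X.Modules} (hL : PicF.IsInvertible L) {c : Pic X} {i : ℕ} :
    Van (CohB1.tensorMod F L) c i ↔ Van F (mk L hL * c) i := by
  induction c using ind with | _ M hM => ?_
  rw [mk_mul_mk, van_mk_iff, van_mk_iff]
  exact ⟨fun h => subsingleton_of_iso (assoc F L M) i h,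
    fun h => subsingleton_of_iso (assoc F L M).symm i h⟩

theorem van_unit_mk_iff {L : X.Modules} (hL : PicF.IsInvertible L) {i : ℕ} :
    Van (Coh.structureModule X) (mk L hL) i ↔ Subsingleton (Coh.HH X L i) := by
  rw [van_mk_iff]
  exact ⟨fun h => subsingleton_of_iso (lunit L) i h, fun h => subsingleton_of_iso (lunit L).symm i h⟩

/-- An invertible module in place of the structure sheaf. -/
theorem van_inv_iff {L : X.Modules} (hL : PicF.IsInvertible L) {c : Pic X} {i : ℕ} :
    Van L c i ↔ Van (Coh.structureModule X) (mk L hL * c) i := by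
  rw [← van_tensor_iff, van_iso_iff (lunit L)]

section Exact

variable {S : ShortComplex X.Modules}

theorem shortExact_tensor (hS : S.ShortExact) {L : X.Modules} (hL : PicF.IsInvertible L) :
    (S.map (DCoh.tensorRightMod L)).ShortExact := by
  have h := Groth.Agent.PerfB.TensInv.preservesFiniteLimits_of_isInvertible hL
  exact hS.map_of_exact (DCoh.tensorRightMod L)

theorem van₁ (hS : S.ShortExact) {c : Pic X} (q : ℕ) (h3 : Van S.X₃ c q) (h2 : Van S.X₂ c (q + 1)) :
    Van S.X₁ c (q + 1) :=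
  fun L hL hc => subsingleton₁ (shortExact_tensor hS hL) q (h3 L hL hc) (h2 L hL hc)

theorem van₂ (hS : S.ShortExact) {c : Pic X} (q : ℕ) (h1 : Van S.X₁ c q) (h3 : Van S.X₃ c q) :
    Van S.X₂ c q :=
  fun L hL hc => subsingleton₂ (shortExact_tensor hS hL) q (h1 L hL hc) (h3 L hL hc)

theorem van₃ (hS : S.ShortExact) {c : Pic X} (q : ℕ) (h2 : Van S.X₂ c q) (h1 : Van S.X₁ c (q + 1)) :
    Van S.X₃ c q :=
  fun L hL hc => subsingleton₃ (shortExact_tensor hS hL) q (h2 L hL hc) (h1 L hL hc)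

theorem van_zero₁ (hS : S.ShortExact) {c : Pic X} (h2 : Van S.X₂ c 0) : Van S.X₁ c 0 := by
  intro L hL hc
  have h := shortExact_tensor hS hL
  exact @KosVan.subsingleton_zero_of_mono _ _ _ ((DCoh.tensorRightMod L).map S.f) h.mono_f (h2 L hL hc)

end Exact

theorem van_sigma {ι : Type} [Finite ι] (M : ι → X.Modules) {c : Pic X} {q : ℕ}
    (h : ∀ j, Van (M j) c q) : Van (∐ M) c q := by
  intro L hL hc
  have h1 : PreservesFiniteCoproducts (DCoh.tensorRightMod L) := inferInstance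
  exact subsingleton_of_iso (PreservesCoproduct.iso (DCoh.tensorRightMod L) M).symm q
    (subsingleton_coproduct (fun j => (DCoh.tensorRightMod L).obj (M j)) q fun j => h j L hL hc)

theorem van_sigma_const {n : ℕ} {F L : X.Modules} (e : F ≅ ∐ fun _ : Fin n => L) {c : Pic X} {q : ℕ}
    (h : Van L c q) : Van F c q :=
  van_of_iso e.symm (van_sigma _ fun _ => h)

theorem van_biprod {F G : X.Modules} {c : Pic X} {q : ℕ} (hF : Van F c q) (hG : Van G c q) :
    Van (F ⊞ G) c q :=
  van₂ (S := ShortComplex.mk (biprod.inl : F ⟶ F ⊞ G) (biprod.snd : F ⊞ G ⟶ G) (by simp))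
    (ShortComplex.Splitting.ofHasBinaryBiproduct F G).shortExact q hF hG

section Koszul

variable {m : ℕ} {R : Type u} [CommRing R] (g : X ⟶ CohB1.ProjSpace m R) (E : X.Modules)

/-- The family `E ⊗ g^* O(a + i)`. -/
noncomputable abbrev fam (a : ℤ) (i : ℤ) : X.Modules :=
  CohB1.tensorMod E ((Scheme.Modules.pullback g).obj (Twist.twistProjSpace m R (a + i)))

/-- Multiplication by the variable `X_j` on projective space, with a shift. -/
noncomputable def opT (m : ℕ) (R : Type u) [CommRing R] (a : ℤ) (j : Fin (m + 1)) (i : ℤ) :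
    Twist.twistProjSpace m R (a + i) ⟶ Twist.twistProjSpace m R (a + (i + 1)) :=
  Groth.Agent.PerfB.TwistMul.mulT (Groth.Agent.Ega3B.ProjTwist.var m R j) (a + i) (a + (i + 1))
    (by push_cast; ring)

theorem opT_comm (a : ℤ) (j l : Fin (m + 1)) (i : ℤ) :
    opT m R a j i ≫ opT m R a l (i + 1) = opT m R a l i ≫ opT m R a j (i + 1) :=
  Groth.Agent.PerfB.TwistMul.mulT_comm _ _ _ _ _ _ _ _ _ _

/-- Multiplication by the pulled back variable. -/
noncomputable def op (a : ℤ) (j : Fin (m + 1)) (i : ℤ) : fam g E a i ⟶ fam g E a (i + 1) :=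
  mapT (𝟙 E) ((Scheme.Modules.pullback g).map (opT m R a j i))

theorem op_comm (a : ℤ) (j l : Fin (m + 1)) (i : ℤ) :
    op g E a j i ≫ op g E a l (i + 1) = op g E a l i ≫ op g E a j (i + 1) := by
  unfold op
  rw [← mapT_comp, ← mapT_comp, ← Functor.map_comp, ← Functor.map_comp, opT_comm]

theorem op_bijective (a : ℤ) (x : X) :
    ∃ (V : X.Opens) (_ : x ∈ V) (j : Fin (m + 1)), ∀ (U : X.Opens), U ≤ V →
      ∀ i, Function.Bijective ((op g E a j i).app U) := by
  obtain ⟨j, hj⟩ := Groth.Agent.PerfB.ProjSpaceCover.exists_mem_basicOpen_X m R (g x)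
  let V : (CohB1.ProjSpace m R).Opens := Groth.Agent.Ega3B.ProjTwist.D m R j
  refine ⟨g ⁻¹ᵁ V, hj, j, fun U hU i => ?_⟩
  have h1 : IsIso ((Scheme.Modules.restrictFunctor V.ι).map (opT m R a j i)) := by
    rw [Groth.Agent.Ega3B.TensorIso.isIso_restrict_iff]
    intro W hW
    exact Groth.Agent.PerfB.TwistMul.mulT_app_bijective (Groth.Agent.Ega3B.ProjTwist.var m R j) (a + i)
      (a + (i + 1)) (by push_cast; ring) W hW
  have h2 := Groth.Agent.Ega3B.TensorIso.isIso_restrict_pullback_map g V (opT m R a j i) h1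
  have h3 := Groth.Agent.Ega3B.TensorIso.isIso_restrict_mapT (F := E) _ _ h2
  exact (Groth.Agent.Ega3B.TensorIso.isIso_restrict_iff _ _).1 h3 U hU

theorem fam_iff {F L : X.Modules} (hL : PicF.IsInvertible L) (a i : ℤ) (q : ℕ) :
    Subsingleton (Coh.HH X (fam g (CohB1.tensorMod F L) a i) q) ↔ Van F (mk L hL * hyp g ^ (a + i)) q := by
  rw [← mk_pullback_twist, ← van_tensor_iff hL, van_mk_iff]

/-- `H^q(F ⊗ c) = 0` if `H^{q+j-1}(F ⊗ c ⊗ g^*O(-j)) = 0` for `1 ≤ j ≤ m + 1`. -/
theorem van_last {F : X.Modules} {c : Pic X} {q : ℕ}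
    (h : ∀ j : ℕ, 1 ≤ j → j ≤ m + 1 → Van F (c * hyp g ^ (-(j : ℤ))) (q + j - 1)) : Van F c q := by
  induction c using ind with | _ L hL => ?_
  have key := KosVan.koszul_last (fam g (CohB1.tensorMod F L) (-((m + 1 : ℕ) : ℤ)))
    (op g (CohB1.tensorMod F L) (-((m + 1 : ℕ) : ℤ))) (op_comm g _ _) (op_bijective g _ _) q ?_
  · rw [fam_iff g hL] at key
    have e : (-((m + 1 : ℕ) : ℤ)) + ((m + 1 : ℕ) : ℤ) = 0 := by ring
    rwa [e, zpow_zero, mul_one] at key
  · intro i j hij
    rw [fam_iff g hL]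
    have e : (-((m + 1 : ℕ) : ℤ)) + (i : ℤ) = -((j + 1 : ℕ) : ℤ) := by omega
    rw [e]
    have := h (j + 1) (by omega) (by omega)
    have e2 : q + (j + 1) - 1 = q + j := by omega
    rwa [e2] at this

/-- `H^q(F ⊗ c) = 0` if `H^{q+1-j}(F ⊗ c ⊗ g^*O(j)) = 0` for `1 ≤ j ≤ m + 1`, `j ≤ q + 1`. -/
theorem van_first {F : X.Modules} {c : Pic X} {q : ℕ}
    (h : ∀ j : ℕ, 1 ≤ j → j ≤ m + 1 → j ≤ q + 1 → Van F (c * hyp g ^ (j : ℤ)) (q + 1 - j)) : Van F c q := by
  induction c using ind with | _ L hL => ?_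
  have key := KosVan.koszul_first (fam g (CohB1.tensorMod F L) 0)
    (op g (CohB1.tensorMod F L) 0) (op_comm g _ _) (op_bijective g _ _) q ?_
  · rw [fam_iff g hL] at key
    rwa [zero_add, zpow_zero, mul_one] at key
  · intro j hj hjm
    rw [fam_iff g hL]
    have e : (0 : ℤ) + (1 + (j : ℤ)) = ((j + 1 : ℕ) : ℤ) := by push_cast; ring
    rw [e]
    have := h (j + 1) (by omega) (by omega) (by omega)
    have e2 : q + 1 - (j + 1) = q - j := by omega
    rwa [e2] at this

end Koszul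

end K700.PicVan
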