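import Groth.Agent.VarietyA.HHDelta
import Groth.Agent.VBPn.K700.PicVan
import Mathlib.Algebra.Category.ModuleCat.Biproducts

/-!
# Dimensions of cohomology groups

* `fr_iso`, `biprodEquiv`, `fr_biprod_const`, `fr_add`, `subsingleton_kernel`.
* `dm`: the dimension of `H^i(X, F ⊗ L)` as a function of the class of `L`.
* `dm_double`: for a morphism to `P¹`.
-/

set_option autoImplicit false
universe u

open CategoryTheory CategoryTheory.Limits AlgebraicGeometry Opposite TopologicalSpace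

namespace K700.HDim

open Groth.Agent.VarietyA.EulerLES Groth.Agent.VarietyA.HHDelta Groth.Agent.Grpsch.PicGrp
open Groth.Agent.Ega2.Tens Groth.Agent.PerfB.KoszulMod Groth.Agent.Fga.HShift
open Groth.Agent.Lefpen.H21.PicTwist
open K700.PicVan K700.KosVan

variable (k : Type u) [Field k] {X : Scheme.{u}} [X.Over (Spec (CommRingCat.of k))]

/-- The dimension of `H^i(X, F)`. -/
noncomputable abbrev fr (F : X.Modules) (i : ℕ) : ℕ := Module.finrank k (Coh.HH X F i)

theorem fr_iso {F G : X.Modules} (e : F ≅ G) (i : ℕ) : fr k F i = fr k G i :=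
  (equivA k e i).finrank_eq

theorem finite_iso {F G : X.Modules} (e : F ≅ G) (i : ℕ) (_ : Module.Finite k (Coh.HH X F i)) :
    Module.Finite k (Coh.HH X G i) :=
  Module.Finite.equiv (equivA k e i)

/-- The cohomology of a finite direct sum. -/
noncomputable def biprodEquiv {ι : Type} [Finite ι] (M : ι → X.Modules) (i : ℕ) :
    Coh.HH X (⨁ M) i ≃ₗ[k] (∀ j, Coh.HH X (M j) i) := by
  haveI := HHfun_additive k X i
  exact ((HHfun k X i).mapBiproduct M ≪≫
    ModuleCat.biproductIsoPi (fun j => (HHfun k X i).obj (M j))).toLinearEquiv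

theorem fr_biprod_const {ι : Type} [Fintype ι] (F : X.Modules) (i : ℕ)
    [Module.Finite k (Coh.HH X F i)] : fr k (⨁ fun _ : ι => F) i = Fintype.card ι * fr k F i := by
  rw [fr, (biprodEquiv k (fun _ : ι => F) i).finrank_eq, Module.finrank_pi_fintype]
  simp

theorem finite_biprod {ι : Type} [Finite ι] (M : ι → X.Modules) (i : ℕ)
    (_ : ∀ j, Module.Finite k (Coh.HH X (M j) i)) : Module.Finite k (Coh.HH X (⨁ M) i) :=
  Module.Finite.equiv (biprodEquiv k M i).symm

theorem fr_sigma_const {n : ℕ} {F L : X.Modules} (e : F ≅ ∐ fun _ : Fin n => L) (i : ℕ)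
    [Module.Finite k (Coh.HH X L i)] : fr k F i = n * fr k L i := by
  rw [fr_iso k (e ≪≫ (biproduct.isoCoproduct _).symm) i, fr_biprod_const]
  simp

theorem finite_sigma {ι : Type} [Finite ι] (M : ι → X.Modules) (i : ℕ)
    (h : ∀ j, Module.Finite k (Coh.HH X (M j) i)) : Module.Finite k (Coh.HH X (∐ M) i) :=
  finite_iso k (biproduct.isoCoproduct _) i (finite_biprod k M i h)

theorem finite_sub {S : ShortComplex X.Modules} (hS : S.ShortExact)
    (_ : Module.Finite k (Coh.HH X S.X₂ 0)) : Module.Finite k (Coh.HH X S.X₁ 0) :=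
  Module.Finite.of_injective _ (injectiveA₀ k S hS)

theorem surj_of_subsingleton {S : ShortComplex X.Modules} (hS : S.ShortExact) (i : ℕ)
    (h1 : Subsingleton (Coh.HH X S.X₁ (i + 1))) : Function.Surjective (mapA k S.g i) := by
  intro x
  exact (exactA₃ k S hS i (i + 1) rfl x).1 (h1.elim _ _)

/-- `h⁰` is additive if `H¹` of the submodule vanishes. -/
theorem fr_add {S : ShortComplex X.Modules} (hS : S.ShortExact)
    (h1 : Subsingleton (Coh.HH X S.X₁ 1)) [Module.Finite k (Coh.HH X S.X₂ 0)] :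
    fr k S.X₂ 0 = fr k S.X₁ 0 + fr k S.X₃ 0 := by
  have hs := surj_of_subsingleton k hS 0 h1
  have e := (mapA k S.g 0).finrank_range_add_finrank_ker
  rw [LinearMap.range_eq_top.2 hs, finrank_top, LinearMap.exact_iff.1 (exactA₂ k S hS 0),
    LinearMap.finrank_range_of_inj (injectiveA₀ k S hS), add_comm] at e
  exact e.symm

theorem fr_biprod {F G : X.Modules} [Module.Finite k (Coh.HH X F 0)] [Module.Finite k (Coh.HH X G 0)] :
    Module.Finite k (Coh.HH X (F ⊞ G) 0) ∧ fr k (F ⊞ G) 0 = fr k F 0 + fr k G 0 := by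
  have hS := (ShortComplex.Splitting.ofHasBinaryBiproduct F G).shortExact
  set S := ShortComplex.mk (biprod.inl : F ⟶ F ⊞ G) (biprod.snd : F ⊞ G ⟶ G) (by simp) with hSdef
  have hfin : Module.Finite k (Coh.HH X (F ⊞ G) 0) :=
    Groth.Agent.VarietyA.AbsEuler.finite_mid (mapA k S.f 0) (mapA k S.g 0) (exactA₂ k S hS 0)
  refine ⟨hfin, ?_⟩
  have hs : Function.Surjective (mapA k S.g 0) := by
    intro x
    refine ⟨mapA k (biprod.inr : G ⟶ F ⊞ G) 0 x, ?_⟩
    have : (mapA k S.g 0).comp (mapA k (biprod.inr : G ⟶ F ⊞ G) 0) = LinearMap.id := by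
      rw [← mapA_comp, ← mapA_id]
      congr 1
      exact biprod.inr_snd
    exact LinearMap.congr_fun this x
  have e := (mapA k S.g 0).finrank_range_add_finrank_ker
  rw [LinearMap.range_eq_top.2 hs, finrank_top, LinearMap.exact_iff.1 (exactA₂ k S hS 0),
    LinearMap.finrank_range_of_inj (injectiveA₀ k S hS), add_comm] at e
  exact e.symm

omit [X.Over (Spec (CommRingCat.of k))] in
theorem injective_mapΓ {M N : X.Modules} (f : M ⟶ N) [Mono f] : Function.Injective (mapΓ f 0) := by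
  have : Mono ((toAbF X).map f) := inferInstance
  exact Abelian.Ext.postcomp_mk₀_injective_of_mono _ ((toAbF X).map f)

/-- If `H⁰(m)` is onto between spaces of the same dimension, the kernel of `m` has no sections. -/
theorem subsingleton_kernel {M N : X.Modules} (m : M ⟶ N) [Module.Finite k (Coh.HH X M 0)]
    (hs : Function.Surjective (mapA k m 0)) (hd : fr k M 0 = fr k N 0) :
    Subsingleton (Coh.HH X (kernel m) 0) := by
  have hinj : Function.Injective (mapA k m 0) := by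
    have : Module.Finite k (Coh.HH X N 0) := Module.Finite.of_surjective _ hs
    exact (LinearMap.injective_iff_surjective_of_finrank_eq_finrank hd).2 hs
  refine subsingleton_of_forall_eq 0 fun x => ?_
  have h2 : (mapΓ m 0).comp (mapΓ (kernel.ι m) 0) = 0 := by
    rw [← mapΓ_comp, kernel.condition, mapΓ_zero]
  have h3 : mapΓ m 0 (mapΓ (kernel.ι m) 0 x) = 0 := LinearMap.congr_fun h2 x
  have h4 : mapΓ (kernel.ι m) 0 x = 0 := hinj (h3.trans (map_zero (mapΓ m 0)).symm)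
  exact injective_mapΓ (kernel.ι m) (h4.trans (map_zero (mapΓ (kernel.ι m) 0)).symm)

section Pic

/-- The dimension of `H^i(X, F ⊗ L)` for `L` of class `c`. -/
noncomputable def dm (F : X.Modules) (c : Pic X) (i : ℕ) : ℕ :=
  fr k (CohB1.tensorMod F (exists_mk c).choose) i

theorem dm_mk (F : X.Modules) {L : X.Modules} (hL : PicF.IsInvertible L) (i : ℕ) :
    dm k F (mk L hL) i = fr k (CohB1.tensorMod F L) i := by
  obtain ⟨h, e⟩ := (exists_mk (mk L hL)).choose_spec
  obtain ⟨e⟩ := (mk_eq_iff hL h).1 e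
  exact fr_iso k (mapTIso (Iso.refl F) e.symm) i

theorem dm_one (F : X.Modules) (i : ℕ) : dm k F 1 i = fr k F i := by
  rw [one_def, dm_mk]
  exact fr_iso k (runit F) i

theorem dm_unit_mk {L : X.Modules} (hL : PicF.IsInvertible L) (i : ℕ) :
    dm k (Coh.structureModule X) (mk L hL) i = fr k L i := by
  rw [dm_mk]
  exact fr_iso k (lunit L) i

/-- Finiteness of `H^i(X, F ⊗ L)` for `L` of class `c`. -/
def Fin' (F : X.Modules) (c : Pic X) (i : ℕ) : Prop :=
  ∀ (L : X.Modules) (hL : PicF.IsInvertible L), mk L hL = c → Module.Finite k (Coh.HH X (CohB1.tensorMod F L) i)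

theorem fin_mk_iff {F L : X.Modules} (hL : PicF.IsInvertible L) {i : ℕ} :
    Fin' k F (mk L hL) i ↔ Module.Finite k (Coh.HH X (CohB1.tensorMod F L) i) := by
  refine ⟨fun h => h L hL rfl, fun h M hM e => ?_⟩
  obtain ⟨e⟩ := (mk_eq_iff hM hL).1 e
  exact finite_iso k (mapTIso (Iso.refl F) e.symm) i h

end Pic

section Koszul

omit [X.Over (Spec (CommRingCat.of k))] in
theorem exists_two_aux (K : CochainComplex X.Modules ℤ) (hK : ∀ i, K.ExactAt i)
    (hneg : IsZero (K.X (-1))) (hpos : IsZero (K.X 3)) :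
    ∃ S : ShortComplex X.Modules, S.ShortExact ∧ Nonempty (S.X₁ ≅ K.X 0) ∧
    Nonempty (S.X₂ ≅ K.X 1) ∧ Nonempty (S.X₃ ≅ K.X 2) := by
  have hS := cycSeq_shortExact K hK 1
  have hS0 := cycSeq_shortExact K hK 0
  have hz : IsZero (kernel (K.d (0 : ℤ) (0 + 1))) := by
    have h1 := cycSeq_shortExact K hK (-1)
    have : Epi (cycSeq K (-1)).g := h1.epi_g
    exact hneg.of_epi (cycSeq K (-1)).g
  have : Mono (cycSeq K 0).g := by
    refine (hS0.exact.mono_g_iff).2 ?_
    exact hz.eq_zero_of_src _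
  have : Epi (cycSeq K 0).g := hS0.epi_g
  have : IsIso (cycSeq K 0).g := isIso_of_mono_of_epi _
  have hd : K.d (1 + 1 : ℤ) (1 + 1 + 1) = 0 := hpos.eq_zero_of_tgt _
  have h4 : IsIso (kernel.ι (K.d (1 + 1 : ℤ) (1 + 1 + 1))) := by
    rw [hd]; infer_instance
  exact ⟨cycSeq K 1, hS, ⟨(asIso (cycSeq K 0).g).symm⟩, ⟨Iso.refl _⟩,
    ⟨asIso (kernel.ι (K.d (1 + 1 : ℤ) (1 + 1 + 1)))⟩⟩

variable (M : ℤ → X.Modules) (T : Fin 2 → ∀ i : ℤ, M i ⟶ M (i + 1))
  (hT : ∀ (k l : Fin 2) (i : ℤ), T k i ≫ T l (i + 1) = T l i ≫ T k (i + 1))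
  (hloc : ∀ x : X, ∃ (V : X.Opens) (_ : x ∈ V) (j : Fin 2), ∀ (U : X.Opens), U ≤ V →
      ∀ i, Function.Bijective ((T j i).app U))

include hT hloc in
/-- The Koszul sequence `0 ⟶ M 0 ⟶ (M 1)² ⟶ M 2 ⟶ 0`. -/
theorem exists_two : ∃ S : ShortComplex X.Modules, S.ShortExact ∧ Nonempty (S.X₁ ≅ M 0) ∧
    Nonempty (S.X₂ ≅ ⨁ fun _ : Idx 2 1 => M 1) ∧ Nonempty (S.X₃ ≅ M 2) := by
  obtain ⟨S, hS, ⟨e1⟩, ⟨e2⟩, ⟨e3⟩⟩ := exists_two_aux (koszulCx M T hT) (koszulCx_exactAt M T hT hloc)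
    (isZero_kTerm M 2 (-1) (Or.inl (by norm_num))) (isZero_kTerm M 2 3 (Or.inr (by norm_num)))
  exact ⟨S, hS, ⟨e1 ≪≫ kTermIso M 2 0⟩, ⟨e2⟩, ⟨e3 ≪≫ kTermIso M 2 2⟩⟩

end Koszul

section Double

variable {R : Type u} [CommRing R] (g : X ⟶ CohB1.ProjSpace 1 R)

theorem fr_fam {F L : X.Modules} (hL : PicF.IsInvertible L) (a i : ℤ) (q : ℕ) :
    fr k (fam g (CohB1.tensorMod F L) a i) q = dm k F (mk L hL * hyp g ^ (a + i)) q := by
  rw [← mk_pullback_twist, mk_mul_mk, dm_mk]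
  exact fr_iso k (assoc _ _ _) q

theorem fin_fam {F L : X.Modules} (hL : PicF.IsInvertible L) (a i : ℤ) (q : ℕ) :
    Module.Finite k (Coh.HH X (fam g (CohB1.tensorMod F L) a i) q) ↔
      Fin' k F (mk L hL * hyp g ^ (a + i)) q := by
  rw [← mk_pullback_twist, mk_mul_mk, fin_mk_iff]
  exact ⟨fun h => finite_iso k (assoc _ _ _) q h, fun h => finite_iso k (assoc _ _ _).symm q h⟩

/-- `h⁰` doubles under a twist by `g^*O(1)` for `g : X ⟶ P¹`, if the cohomology of the twist by `g^*O(-1)`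
vanishes. -/
theorem dm_double {F : X.Modules} {c : Pic X} (h0 : Van F (c * hyp g ^ (-1 : ℤ)) 0)
    (h1 : Van F (c * hyp g ^ (-1 : ℤ)) 1) (hf : Fin' k F c 0) :
    Fin' k F (c * hyp g) 0 ∧ dm k F (c * hyp g) 0 = 2 * dm k F c 0 := by
  induction c using ind with | _ L hL => ?_
  obtain ⟨S, hS, ⟨e1⟩, ⟨e2⟩, ⟨e3⟩⟩ := exists_two (fam g (CohB1.tensorMod F L) (-1))
    (op g (CohB1.tensorMod F L) (-1)) (op_comm g _ _) (op_bijective g _ _)
  have a0 : (-1 : ℤ) + 0 = -1 := rfl
  have a1 : (-1 : ℤ) + 1 = 0 := rfl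
  have a2 : (-1 : ℤ) + 2 = 1 := rfl
  have v0 : Subsingleton (Coh.HH X S.X₁ 0) :=
    subsingleton_of_iso e1.symm 0 (by rw [fam_iff g hL, a0]; exact h0)
  have v1 : Subsingleton (Coh.HH X S.X₁ 1) :=
    subsingleton_of_iso e1.symm 1 (by rw [fam_iff g hL, a0]; exact h1)
  have f1 : Module.Finite k (Coh.HH X (fam g (CohB1.tensorMod F L) (-1) 1) 0) := by
    rw [fin_fam k g hL, a1, zpow_zero, mul_one]
    exact hf
  have f2 : Module.Finite k (Coh.HH X S.X₂ 0) :=
    finite_iso k e2.symm 0 (finite_biprod k _ 0 fun _ => f1)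
  have f3 : Module.Finite k (Coh.HH X S.X₃ 0) :=
    Module.Finite.of_surjective _ (surj_of_subsingleton k hS 0 v1)
  refine ⟨?_, ?_⟩
  · have := finite_iso k e3 0 f3
    rwa [fin_fam k g hL, a2, zpow_one] at this
  · have e := fr_add k hS v1
    have z : fr k S.X₁ 0 = 0 := Module.finrank_zero_of_subsingleton
    have c2 : Fintype.card (Idx 2 1) = 2 := by decide
    rw [z, zero_add, fr_iso k e2, fr_biprod_const, fr_iso k e3, fr_fam k g hL, fr_fam k g hL, a1, a2,
      zpow_zero, mul_one, zpow_one, c2] at e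
    exact e.symm

end Double

end K700.HDim
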