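import Groth.Agent.Ega3B.SectExact
import Groth.Agent.VBPn.K700.HDim
import Groth.Prelude.Def_KLin

/-!
# Morphisms out of invertible modules

* `hom_eq_zero`: `Hom(L, G) = 0` if `H⁰(G ⊗ L⁻¹) = 0`.
* `hom_lift`: lifting of `L ⟶ S.X₃` if `H¹(S.X₁ ⊗ L⁻¹) = 0`.
* `finite_hom`: `Hom(L, G)` is finite dimensional if `H⁰(G ⊗ L⁻¹)` is.
* the versions for finite sums of copies of `L`.
-/

set_option autoImplicit false
universe u

open CategoryTheory CategoryTheory.Limits AlgebraicGeometry Opposite TopologicalSpace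

namespace K700.HomVan

open Groth.Agent Groth.Agent.Grpsch.PicGrp Groth.Agent.VarietyA.EulerLES Groth.Agent.PerfB
open K700.PicVan K700.HDim

variable {X : Scheme.{u}}

/-- `- ⊗ A` is an equivalence of categories if `A ⊗ B ≅ O`. -/
noncomputable def equivOfInv {A B : X.Modules} (e : CohB1.tensorMod A B ≅ Coh.structureModule X) :
    X.Modules ≌ X.Modules :=
  CategoryTheory.Equivalence.mk (DCoh.tensorRightMod A) (DCoh.tensorRightMod B)
    (TensInv.tensorInvIso e).symm (TensInv.tensorInvIso (Ega2.Tens.swap B A ≪≫ e))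

theorem isEquivalence_of_inv {A B : X.Modules} (e : CohB1.tensorMod A B ≅ Coh.structureModule X) :
    (DCoh.tensorRightMod A).IsEquivalence :=
  inferInstanceAs (equivOfInv e).functor.IsEquivalence

/-- An inverse of an invertible module. -/
theorem exists_inv {L : X.Modules} (hL : PicF.IsInvertible L) :
    ∃ (A : X.Modules) (hA : PicF.IsInvertible A), mk A hA = (mk L hL)⁻¹ ∧
      Nonempty (CohB1.tensorMod A L ≅ Coh.structureModule X) := by
  refine ⟨dual L, isInvertible_dual hL, (inv_mk hL).symm, ?_⟩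
  have : IsIso (ev L) := isIso_ev hL
  exact ⟨Ega2.Tens.swap _ _ ≪≫ asIso (ev L)⟩

theorem hom_eq_zero {L G : X.Modules} (hL : PicF.IsInvertible L) (h : Van G (mk L hL)⁻¹ 0) (φ : L ⟶ G) :
    φ = 0 := by
  obtain ⟨A, hA, hm, ⟨e⟩⟩ := exists_inv hL
  have h' := h A hA hm
  have := isEquivalence_of_inv e
  apply (DCoh.tensorRightMod A).map_injective
  let e' : (DCoh.tensorRightMod A).obj L ≅ Coh.structureModule X := Ega2.Tens.swap L A ≪≫ e
  rw [← cancel_epi e'.inv]
  apply Dcoh.Restrict.unit_hom_ext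
  apply (Ega3B.SectExact.secEquiv (CohB1.tensorMod G A)).symm.injective
  exact Subsingleton.elim (α := Coh.HH X (CohB1.tensorMod G A) 0) _ _

theorem hom_lift {L : X.Modules} (hL : PicF.IsInvertible L) {S : ShortComplex X.Modules} (hS : S.ShortExact)
    (h : Van S.X₁ (mk L hL)⁻¹ 1) (y : L ⟶ S.X₃) : ∃ φ : L ⟶ S.X₂, φ ≫ S.g = y := by
  obtain ⟨A, hA, hm, ⟨e⟩⟩ := exists_inv hL
  have h' := h A hA hm
  have := isEquivalence_of_inv e
  let T := DCoh.tensorRightMod A
  let e' : T.obj L ≅ Coh.structureModule X := Ega2.Tens.swap L A ≪≫ e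
  have hT : (S.map T).ShortExact := shortExact_tensor hS hA
  obtain ⟨t, ht⟩ := Ega3B.SectExact.surjective_of_H1 hT h'
    ((e'.inv ≫ T.map y).app ⊤ (Dcoh.Restrict.one ⊤))
  obtain ⟨φ, hφ⟩ := T.map_surjective (e'.hom ≫ Dcoh.Restrict.unitHom t)
  refine ⟨φ, T.map_injective ?_⟩
  rw [Functor.map_comp, hφ, ← cancel_epi e'.inv, Category.assoc, Iso.inv_hom_id_assoc]
  apply Dcoh.Restrict.unit_hom_ext
  rw [← ht]
  have h2 := Dcoh.Restrict.unitHom_comp t (T.map S.g)
  exact (congr(($h2).app ⊤ (Dcoh.Restrict.one ⊤))).trans (Dcoh.Restrict.unitHom_app_one _)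

theorem sigma_eq_zero {ι : Type} {F L G : X.Modules} (e : F ≅ ∐ fun _ : ι => L) (hL : PicF.IsInvertible L)
    (h : Van G (mk L hL)⁻¹ 0) (φ : F ⟶ G) : φ = 0 := by
  rw [← cancel_epi e.inv, comp_zero]
  exact Sigma.hom_ext _ _ fun i => by rw [comp_zero]; exact hom_eq_zero hL h _

theorem sigma_lift {ι : Type} {F L : X.Modules} (e : F ≅ ∐ fun _ : ι => L) (hL : PicF.IsInvertible L)
    {S : ShortComplex X.Modules} (hS : S.ShortExact)
    (h : Van S.X₁ (mk L hL)⁻¹ 1) (y : F ⟶ S.X₃) : ∃ φ : F ⟶ S.X₂, φ ≫ S.g = y := by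
  choose t ht using fun i => hom_lift hL hS h (Sigma.ι (fun _ : ι => L) i ≫ e.inv ≫ y)
  refine ⟨e.hom ≫ Sigma.desc t, ?_⟩
  rw [← cancel_epi e.inv, Category.assoc, Iso.inv_hom_id_assoc]
  refine Sigma.hom_ext _ _ fun i => ?_
  rw [Sigma.ι_desc_assoc]
  exact ht i

section Lin

variable (k : Type u) [Field k] [X.Over (Spec (CommRingCat.of k))]

theorem toAb_smulMod (M : X.Modules) (a : k) :
    (toAbF X).map (Formal.smulMod k M a) = Coh.smulAb M (Coh.toGlobal (X ↘ Spec (CommRingCat.of k)) a) := rfl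

theorem mapΓ_smulMod (M : X.Modules) (a : k) (i : ℕ) (x : Coh.HH X M i) :
    mapΓ (Formal.smulMod k M a) i x = a • x := rfl

theorem mapΓ_smul {M N : X.Modules} (a : k) (f : M ⟶ N) (i : ℕ) (x : Coh.HH X M i) :
    mapΓ (a • f) i x = a • mapΓ f i x := by
  rw [KLin.smul_def, mapΓ_comp, LinearMap.comp_apply, mapΓ_smulMod]
  exact (mapA k f i).map_smul a x

/-- The section `1`. -/
noncomputable def oneH : Coh.HH X (Coh.structureModule X) 0 :=
  (Ega3B.SectExact.secEquiv (Coh.structureModule X)).symm (Dcoh.Restrict.one ⊤)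

/-- Evaluation at `1`. -/
noncomputable def evOne (G : X.Modules) : (Coh.structureModule X ⟶ G) →ₗ[k] Coh.HH X G 0 where
  toFun φ := mapΓ φ 0 oneH
  map_add' f g := by rw [mapΓ_add]; rfl
  map_smul' a f := mapΓ_smul k a f 0 _

omit [X.Over (Spec (CommRingCat.of k))] in
theorem mapΓ_oneH {G : X.Modules} (φ : Coh.structureModule X ⟶ G) :
    Ega3B.SectExact.secEquiv G (mapΓ φ 0 oneH) = φ.app ⊤ (Dcoh.Restrict.one ⊤) := by
  have := Ega3B.SectExact.secEquiv_hmap φ (oneH (X := X))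
  refine Eq.trans this ?_
  rw [oneH, AddEquiv.apply_symm_apply]

theorem evOne_injective (G : X.Modules) : Function.Injective (evOne k G) := by
  intro f g h
  apply Dcoh.Restrict.unit_hom_ext
  rw [← mapΓ_oneH, ← mapΓ_oneH]
  exact congrArg _ h

theorem finite_unit_hom {G : X.Modules} (_ : Module.Finite k (Coh.HH X G 0)) :
    Module.Finite k (Coh.structureModule X ⟶ G) :=
  Module.Finite.of_injective _ (evOne_injective k G)

theorem mapT_smul {M N A : X.Modules} (a : k) (f : M ⟶ N) :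
    Ega2.Tens.mapT (a • f) (𝟙 A) = a • Ega2.Tens.mapT f (𝟙 A) := by
  refine Ega2.Tens.hom_ext _ _ fun U m n => ?_
  rw [KLin.smul_app_apply, Ega2.Tens.mapT_tmul, Ega2.Tens.mapT_tmul, KLin.smul_app_apply, Ega2.Tens.smul_tmul]

theorem tensor_smul (A : X.Modules) {M N : X.Modules} (a : k) (f : M ⟶ N) :
    (DCoh.tensorRightMod A).map (a • f) = a • (DCoh.tensorRightMod A).map f := by
  rw [TensExact.tensorRightMod_map_eq, TensExact.tensorRightMod_map_eq]
  exact mapT_smul k a f

theorem finite_hom {L G : X.Modules} (hL : PicF.IsInvertible L) (h : Fin' k G (mk L hL)⁻¹ 0) :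
    Module.Finite k (L ⟶ G) := by
  obtain ⟨A, hA, hm, ⟨e⟩⟩ := exists_inv hL
  have h' := h A hA hm
  have := isEquivalence_of_inv e
  let T := DCoh.tensorRightMod A
  let e' : T.obj L ≅ Coh.structureModule X := Ega2.Tens.swap L A ≪≫ e
  have h2 := finite_unit_hom k h'
  have h3 : Module.Finite k (Coh.structureModule X ⟶ T.obj G) := h2
  let Φ : (L ⟶ G) →ₗ[k] (Coh.structureModule X ⟶ T.obj G) :=
    { toFun := fun f => e'.inv ≫ T.map f
      map_add' := fun f g => by rw [T.map_add, Preadditive.comp_add]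
      map_smul' := fun a f => by
        rw [RingHom.id_apply, ← Linear.comp_smul]
        congr 1
        exact tensor_smul k A a f }
  refine Module.Finite.of_injective Φ fun f g hfg => ?_
  apply T.map_injective
  exact (cancel_epi e'.inv).1 hfg

theorem finite_sigma_hom {ι : Type} [Finite ι] {F L G : X.Modules} (e : F ≅ ∐ fun _ : ι => L)
    (_ : Module.Finite k (L ⟶ G)) : Module.Finite k (F ⟶ G) := by
  let Φ : (F ⟶ G) →ₗ[k] (ι → (L ⟶ G)) :=
    { toFun := fun f i => Sigma.ι (fun _ : ι => L) i ≫ e.inv ≫ f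
      map_add' := fun f g => by ext1 i; simp
      map_smul' := fun a f => by ext1 i; simp }
  refine Module.Finite.of_injective Φ fun f g hfg => ?_
  rw [← cancel_epi e.inv]
  exact Sigma.hom_ext _ _ fun i => congrFun hfg i

end Lin

end K700.HomVan
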