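import Groth.Agent.VBPn.K700.PicVan
import Groth.Agent.Krr.H502.KosZero
import Groth.Agent.Krr.H496.ConMapSec
import Groth.Agent.VarietyB.ProjForm
import Groth.Agent.Ega2.QCohLocal
import Groth.Agent.S0012
import Groth.Agent.S0844
import Groth.Prelude.Def_FGA

/-!
# Cohomology of invertible modules on a scheme with exceptional divisors `P^{r}`

`Setup k r s X`: a morphism `π : X ⟶ P^{r+1}` and exceptional divisors `j t : P^r ⟶ X` with the classes of the blow-up
of `s` points.

* `van_push_iff`, `shortExact_seq`: the exact sequence `0 → I_E → O_X → O_E → 0` on classes.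
* `Setup.van_e₁ ... van_e₃`: the consequences for `H^i(X, c)`.
* `Setup.van_mid`, `Setup.van_neg`, `Setup.van_top`: `H^i(X, π^*O(c) ⊗ ⨂ I_t^{d_t})` for `d ≥ 0`.
-/

set_option autoImplicit false
universe u

open CategoryTheory CategoryTheory.Limits AlgebraicGeometry Opposite TopologicalSpace

namespace K700.BlVan

open Groth.Agent Groth.Agent.Grpsch.PicGrp Groth.Agent.Lefpen.H21.PicTwist Groth.Agent.Ega2.Tens
open Groth.Agent.Fga.HShift K700.PicVan

section Closed

variable {X E : Scheme.{u}} (j : E ⟶ X)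

theorem hasBases {L : X.Modules} (hL : PicF.IsInvertible L) : VarietyB.TensCoh.HasBases L :=
  VarietyB.TensCoh.HasBases.of_isFinLocFree
    (Ega2.QCohLocal.isFinLocFree_of_rank (Ega2.QCohLocal.isFinLocFreeOfRank_one_iff.2 hL))

/-- `j_* O_E ⊗ L ≅ j_* j^* L`. -/
noncomputable def pushTensorIso {L : X.Modules} (hL : PicF.IsInvertible L) :
    CohB1.tensorMod ((Scheme.Modules.pushforward j).obj (Coh.structureModule E)) L ≅
      (Scheme.Modules.pushforward j).obj ((Scheme.Modules.pullback j).obj L) :=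
  swap _ _ ≪≫ VarietyB.ProjForm.projIsoUnit j (hasBases hL)

theorem van_push_iff [IsAffineHom j] {c : Pic X} {i : ℕ} :
    Van ((Scheme.Modules.pushforward j).obj (Coh.structureModule E)) c i ↔
      Van (Coh.structureModule E) (pull j c) i := by
  induction c using ind with | _ L hL => ?_
  rw [pull_mk, van_mk_iff, van_unit_mk_iff]
  have hq : Coh.IsQCoh ((Scheme.Modules.pullback j).obj L) :=
    Ega2.QCohLocal.isQCoh_of_isInvertible (Fdesc.LocGen.isInvertible_pullback j hL)
  obtain ⟨e⟩ := S0012.result j ((Scheme.Modules.pullback j).obj L) i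
  constructor
  · intro h
    have h2 := subsingleton_of_iso (pushTensorIso j hL) i h
    exact e.toEquiv.subsingleton_congr.2 h2
  · intro h
    have h2 := e.toEquiv.subsingleton_congr.1 h
    exact subsingleton_of_iso (pushTensorIso j hL).symm i h2

/-- `0 → I_E → O_X → j_* O_E → 0`. -/
noncomputable def seq [QuasiCompact j] : ShortComplex X.Modules :=
  ShortComplex.mk (ClSub.idealModι j.ker) (ClSub.unitToPush j) (by
    rw [← Krr.H496.ConMapSec.idealModKerIso_hom_ι, Category.assoc, kernel.condition, comp_zero])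

theorem shortExact_seq [IsClosedImmersion j] : (seq j).ShortExact where
  exact := by
    refine ShortComplex.exact_of_iso (S₁ := ShortComplex.mk (kernel.ι (ClSub.unitToPush j)) (ClSub.unitToPush j)
      (kernel.condition _)) ?_ (ShortComplex.exact_of_f_is_kernel _ (kernelIsKernel _))
    exact ShortComplex.isoMk (Smoothlim.ConormalRes.idealModKerIso j).symm (Iso.refl _) (Iso.refl _)
      (by
        change (Smoothlim.ConormalRes.idealModKerIso j).inv ≫ ClSub.idealModι j.ker = _ ≫ 𝟙 _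
        rw [Krr.H496.ConMapSec.idealModKerIso_inv_ι, Category.comp_id])
      (by
        change 𝟙 _ ≫ ClSub.unitToPush j = _ ≫ 𝟙 _
        rw [Category.id_comp, Category.comp_id])
  mono_f := by
    change Mono (kernel.ι (ClSub.toSubscheme j.ker))
    infer_instance
  epi_g := Krr.H502.KosZero.epi_unitToPush j

variable [IsClosedImmersion j] (hI : PicF.IsInvertible (ClSub.idealMod j.ker))

/-- `H^{q+1}(c + e) = 0` if `H^q(E, c) = 0` and `H^{q+1}(c) = 0`. -/
theorem van_e₁ {c : Pic X} (q : ℕ) (h3 : Van (Coh.structureModule E) (pull j c) q)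
    (h2 : Van (Coh.structureModule X) c (q + 1)) :
    Van (Coh.structureModule X) (mk _ hI * c) (q + 1) :=
  (van_inv_iff hI).1 (van₁ (shortExact_seq j) q ((van_push_iff j).2 h3) h2)

theorem van_e₂ {c : Pic X} (q : ℕ) (h1 : Van (Coh.structureModule X) (mk _ hI * c) q)
    (h3 : Van (Coh.structureModule E) (pull j c) q) :
    Van (Coh.structureModule X) c q :=
  van₂ (shortExact_seq j) q ((van_inv_iff hI).2 h1) ((van_push_iff j).2 h3)

theorem van_e₃ {c : Pic X} (q : ℕ) (h2 : Van (Coh.structureModule X) c q)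
    (h1 : Van (Coh.structureModule X) (mk _ hI * c) (q + 1)) :
    Van (Coh.structureModule E) (pull j c) q :=
  (van_push_iff j).1 (van₃ (shortExact_seq j) q h2 ((van_inv_iff hI).2 h1))

theorem van_e_zero {c : Pic X} (h2 : Van (Coh.structureModule X) c 0) :
    Van (Coh.structureModule X) (mk _ hI * c) 0 :=
  (van_inv_iff hI).1 (van_zero₁ (shortExact_seq j) h2)

end Closed

section PnVan

variable (k : Type u) [Field k] (r : ℕ)

/-- Cohomology of `O(m)` on `P^r`. -/
theorem van_o (m : ℤ) (q : ℕ) (h₀ : ¬ (q = 0 ∧ 0 ≤ m)) (hn : ¬ (q = r ∧ m ≤ -((r : ℤ) + 1))) :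
    Van (Coh.structureModule (CohB1.ProjSpace r k)) (o r k m) q := by
  have h := S0844.result k r m q h₀ hn
  exact (van_unit_mk_iff _).2 h

end PnVan

/-- A morphism `π : X ⟶ P^{r+1}` with exceptional divisors `j t : P^r ⟶ X`. -/
structure Setup (k : Type u) [Field k] (r s : ℕ) (X : Scheme.{u}) where
  π : X ⟶ CohB1.ProjSpace (r + 1) k
  I : Fin s → X.IdealSheafData
  inv : ∀ t, PicF.IsInvertible (ClSub.idealMod (I t))
  j : Fin s → (CohB1.ProjSpace r k ⟶ X)
  cl : ∀ t, IsClosedImmersion (j t)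
  ker : ∀ t, (j t).ker = I t
  pull_h : ∀ t, pull (j t) (hyp π) = 1
  pull_e : ∀ t t', pull (j t) (mk (ClSub.idealMod (I t')) (inv t')) = if t = t' then o r k 1 else 1
  base : ∀ (c : ℤ) (i : ℕ), Nonempty (Coh.HH X ((Scheme.Modules.pullback π).obj (Twist.twistProjSpace (r + 1) k c)) i ≃+
    Coh.HH (CohB1.ProjSpace (r + 1) k) (Twist.twistProjSpace (r + 1) k c) i)

namespace Setup

variable {k : Type u} [Field k] {r s : ℕ} {X : Scheme.{u}} (B : Setup k r s X)

/-- The class of the hyperplanes. -/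
noncomputable def h : Pic X := hyp B.π

/-- The class of the ideal of the exceptional divisor. -/
noncomputable def e (t : Fin s) : Pic X := Grpsch.PicGrp.mk (ClSub.idealMod (B.I t)) (B.inv t)

/-- The class of `π^*O(c) ⊗ ⨂ I_t^{d_t}`. -/
noncomputable def cls (c : ℤ) (d : Fin s → ℤ) : Pic X := B.h ^ c * ∏ t, B.e t ^ d t

theorem cls_mul (c c' : ℤ) (d d' : Fin s → ℤ) : B.cls c d * B.cls c' d' = B.cls (c + c') (d + d') := by
  simp only [cls, Pi.add_apply, zpow_add, Finset.prod_mul_distrib]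
  exact mul_mul_mul_comm _ _ _ _

theorem cls_zero : B.cls 0 0 = 1 := by simp [cls]

theorem cls_inv (c : ℤ) (d : Fin s → ℤ) : (B.cls c d)⁻¹ = B.cls (-c) (-d) := by
  rw [inv_eq_iff_mul_eq_one, cls_mul, add_neg_cancel, add_neg_cancel, cls_zero]

theorem h_eq : B.h = B.cls 1 0 := by simp [cls]

theorem e_eq (t : Fin s) : B.e t = B.cls 0 (Pi.single t 1) := by
  classical
  rw [cls, zpow_zero, one_mul, Finset.prod_eq_single t]
  · simp
  · intro t' _ ht
    rw [Pi.single_eq_of_ne ht, zpow_zero]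
  · simp

theorem cls_zpow (c : ℤ) (d : Fin s → ℤ) (m : ℤ) : B.cls c d ^ m = B.cls (m * c) (m • d) := by
  simp only [cls, mul_zpow, ← zpow_mul, Pi.smul_apply, smul_eq_mul]
  congr 1
  · rw [mul_comm]
  · rw [← Finset.prod_zpow]
    exact Finset.prod_congr rfl fun t _ => by rw [← zpow_mul, mul_comm]

theorem pull_cls (t : Fin s) (c : ℤ) (d : Fin s → ℤ) : pull (B.j t) (B.cls c d) = o r k (d t) := by
  rw [cls, map_mul, map_zpow, map_prod]
  have h1 : pull (B.j t) B.h = 1 := B.pull_h t
  rw [h1, one_zpow, one_mul, Finset.prod_eq_single t]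
  · rw [map_zpow, o_eq_zpow]
    have h2 := B.pull_e t t
    rw [if_pos rfl] at h2
    exact congrArg (· ^ d t) h2
  · intro t' _ ht
    rw [map_zpow]
    have h2 := B.pull_e t t'
    rw [if_neg ht.symm] at h2
    exact (congrArg (· ^ d t') h2).trans (one_zpow _)
  · simp

/-- The cohomology of `π^*O(c)`. -/
theorem van_base (c : ℤ) (q : ℕ) (h₀ : ¬ (q = 0 ∧ 0 ≤ c)) (hn : ¬ (q = r + 1 ∧ c ≤ -((r : ℤ) + 2))) :
    Van (Coh.structureModule X) (B.cls c 0) q := by
  have h : B.cls c 0 = hyp B.π ^ c := by simp [cls, Setup.h]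
  rw [h, ← mk_pullback_twist, van_unit_mk_iff]
  obtain ⟨e⟩ := B.base c q
  have h1 := S0844.result k (r + 1) c q h₀ (by push_cast; omega)
  exact e.toEquiv.subsingleton

variable (t : Fin s) {c : ℤ} {d d' : Fin s → ℤ}

theorem e_mul (hd : d' = d + Pi.single t 1) : B.e t * B.cls c d = B.cls c d' := by
  rw [e_eq, cls_mul, zero_add, add_comm, hd]

theorem van_e₁ (hd : d' = d + Pi.single t 1) (q : ℕ)
    (h3 : Van (Coh.structureModule (CohB1.ProjSpace r k)) (o r k (d t)) q)
    (h2 : Van (Coh.structureModule X) (B.cls c d) (q + 1)) :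
    Van (Coh.structureModule X) (B.cls c d') (q + 1) := by
  have := B.cl t
  obtain ⟨I, hI, hk⟩ : ∃ I, ∃ hI : PicF.IsInvertible (ClSub.idealMod I), I = (B.j t).ker ∧ Grpsch.PicGrp.mk _ hI = B.e t :=
    ⟨B.I t, B.inv t, (B.ker t).symm, rfl⟩
  obtain ⟨rfl, he⟩ := hk
  rw [← B.e_mul t hd, ← he]
  exact BlVan.van_e₁ (B.j t) hI q (by rwa [B.pull_cls]) h2

theorem van_e₂ (hd : d' = d + Pi.single t 1) (q : ℕ)
    (h1 : Van (Coh.structureModule X) (B.cls c d') q)
    (h3 : Van (Coh.structureModule (CohB1.ProjSpace r k)) (o r k (d t)) q) :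
    Van (Coh.structureModule X) (B.cls c d) q := by
  have := B.cl t
  obtain ⟨I, hI, hk⟩ : ∃ I, ∃ hI : PicF.IsInvertible (ClSub.idealMod I), I = (B.j t).ker ∧ Grpsch.PicGrp.mk _ hI = B.e t :=
    ⟨B.I t, B.inv t, (B.ker t).symm, rfl⟩
  obtain ⟨rfl, he⟩ := hk
  rw [← B.e_mul t hd, ← he] at h1
  exact BlVan.van_e₂ (B.j t) hI q h1 (by rwa [B.pull_cls])

theorem van_e_zero (hd : d' = d + Pi.single t 1) (h2 : Van (Coh.structureModule X) (B.cls c d) 0) :
    Van (Coh.structureModule X) (B.cls c d') 0 := by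
  have := B.cl t
  obtain ⟨I, hI, hk⟩ : ∃ I, ∃ hI : PicF.IsInvertible (ClSub.idealMod I), I = (B.j t).ker ∧ Grpsch.PicGrp.mk _ hI = B.e t :=
    ⟨B.I t, B.inv t, (B.ker t).symm, rfl⟩
  obtain ⟨rfl, he⟩ := hk
  rw [← B.e_mul t hd, ← he]
  exact BlVan.van_e_zero (B.j t) hI h2

omit t in
/-- Induction on the exponents `d ≥ 0`. -/
theorem induction_nonneg {P : (Fin s → ℤ) → Prop} (h0 : P 0)
    (h1 : ∀ (d : Fin s → ℤ) (t : Fin s), (∀ t', 0 ≤ d t') → P d → P (d + Pi.single t 1))
    (d : Fin s → ℤ) (hd : ∀ t, 0 ≤ d t) : P d := by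
  classical
  obtain ⟨N, hN⟩ : ∃ N : ℕ, ∑ t, d t = N := ⟨(∑ t, d t).toNat, by
    rw [Int.toNat_of_nonneg (Finset.sum_nonneg fun t _ => hd t)]⟩
  induction N generalizing d with
  | zero =>
    have h2 : d = 0 := by
      funext t
      have h3 := (Finset.sum_eq_zero_iff_of_nonneg fun t _ => hd t).1 (by simpa using hN) t (Finset.mem_univ t)
      exact h3
    rw [h2]
    exact h0
  | succ N ih =>
    obtain ⟨t, ht⟩ : ∃ t, 0 < d t := by
      by_contra hcon
      push Not at hcon
      have : ∑ t, d t ≤ 0 := Finset.sum_nonpos fun t _ => hcon t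
      omega
    obtain ⟨d₁, rfl⟩ : ∃ d₁ : Fin s → ℤ, d = d₁ + Pi.single t 1 := ⟨d - Pi.single t 1, by abel⟩
    have h4 : ∀ t', 0 ≤ d₁ t' := by
      intro t'
      by_cases h5 : t' = t
      · subst h5
        simp at ht
        omega
      · have := hd t'
        simpa [h5] using this
    refine h1 _ t h4 (ih _ h4 ?_)
    simp only [Pi.add_apply, Finset.sum_add_distrib, Finset.sum_pi_single', Finset.mem_univ, if_true] at hN
    push_cast at hN
    omega

omit t in
/-- `H^i = 0` for `2 ≤ i ≤ n - 1`. -/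
theorem van_mid (c : ℤ) (d : Fin s → ℤ) (hd : ∀ t, 0 ≤ d t) (i : ℕ) (hi : 2 ≤ i) (hin : i ≤ r) :
    Van (Coh.structureModule X) (B.cls c d) i := by
  obtain ⟨q, rfl⟩ : ∃ q, i = q + 1 := ⟨i - 1, by omega⟩
  refine induction_nonneg (P := fun d => Van (Coh.structureModule X) (B.cls c d) (q + 1)) ?_ ?_ d hd
  · exact B.van_base c (q + 1) (by omega) (by omega)
  · intro d t hd ih
    exact B.van_e₁ t rfl q (van_o k r _ q (by omega) (by omega)) ih

omit t in
/-- `H^0 = 0` for `c < 0`. -/
theorem van_neg (c : ℤ) (hc : c < 0) (d : Fin s → ℤ) (hd : ∀ t, 0 ≤ d t) :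
    Van (Coh.structureModule X) (B.cls c d) 0 := by
  refine induction_nonneg (P := fun d => Van (Coh.structureModule X) (B.cls c d) 0) ?_ ?_ d hd
  · exact B.van_base c 0 (by omega) (by omega)
  · intro d t hd ih
    exact B.van_e_zero t rfl ih

omit t in
/-- `H^n = 0` for `c ≥ -n`. -/
theorem van_top (hr : 1 ≤ r) (c : ℤ) (hc : -((r : ℤ) + 1) ≤ c) (d : Fin s → ℤ) (hd : ∀ t, 0 ≤ d t) :
    Van (Coh.structureModule X) (B.cls c d) (r + 1) := by
  refine induction_nonneg (P := fun d => Van (Coh.structureModule X) (B.cls c d) (r + 1)) ?_ ?_ d hd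
  · exact B.van_base c (r + 1) (by omega) (by omega)
  · intro d t hd ih
    exact B.van_e₁ t rfl r (van_o k r _ r (by omega) (by have := hd t; omega)) ih

end Setup

section MultiTwist

variable {X : Scheme.{u}}

open Fdesc.LocGen in
theorem isInvertible_tensorList {l : List X.Modules} (hl : ∀ M ∈ l, PicF.IsInvertible M) :
    PicF.IsInvertible (FGA.tensorList l) := by
  induction l with
  | nil => exact isInvertible_structureModule
  | cons M l ih =>
    exact isInvertible_tensorMod (hl M (by simp)) (ih fun N hN => hl N (by simp [hN]))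

open Fdesc.LocGen in
theorem isInvertible_multiTwist {n : ℕ} {L : Fin n → X.Modules} (hL : ∀ i, PicF.IsInvertible (L i))
    (a : Fin n → ℕ) : PicF.IsInvertible (FGA.multiTwist L a) := by
  apply isInvertible_tensorList
  intro M hM
  obtain ⟨i, -, rfl⟩ := List.mem_map.1 hM
  exact isInvertible_tensorPow (hL i) _

theorem mk_tensorList {ι : Type*} (l : List ι) (M : ι → X.Modules) (hM : ∀ i, PicF.IsInvertible (M i))
    (h : PicF.IsInvertible (FGA.tensorList (l.map M))) :
    mk (FGA.tensorList (l.map M)) h = (l.map fun i => mk (M i) (hM i)).prod := by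
  induction l with
  | nil => rfl
  | cons i l ih =>
    have h' : PicF.IsInvertible (FGA.tensorList (l.map M)) := isInvertible_tensorList (by
      intro N hN
      obtain ⟨j, -, rfl⟩ := List.mem_map.1 hN
      exact hM j)
    refine Eq.trans ?_ (congrArg (fun c => Grpsch.PicGrp.mk (M i) (hM i) * c) (ih h'))
    rfl

open Fdesc.LocGen in
theorem mk_multiTwist {n : ℕ} {L : Fin n → X.Modules} (hL : ∀ i, PicF.IsInvertible (L i))
    (a : Fin n → ℕ) :
    mk (FGA.multiTwist L a) (isInvertible_multiTwist hL a) = ∏ i, mk (L i) (hL i) ^ a i := by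
  have h := mk_tensorList (List.finRange n) (fun i => CohB1.tensorPow (L i) (a i))
    (fun i => isInvertible_tensorPow (hL i) _) (isInvertible_multiTwist hL a)
  refine h.trans ?_
  rw [← List.ofFn_eq_map, List.prod_ofFn]
  exact Finset.prod_congr rfl fun i _ => mk_tensorPow (hL i) (a i)

variable {k : Type u} [Field k] {r s : ℕ} (B : Setup k r s X)

/-- The cohomology of `π^*O(c) ⊗ ⨂ I_t^{d_t}`. -/
theorem Setup.van_multiTwist_iff (c : ℤ) (d : Fin s → ℕ) (i : ℕ) :
    Subsingleton (Coh.HH X (CohB1.tensorMod ((Scheme.Modules.pullback B.π).obj (Twist.twistProjSpace (r + 1) k c))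
      (FGA.multiTwist (fun t : Fin s => ClSub.idealMod (B.I t)) d)) i) ↔
      Van (Coh.structureModule X) (B.cls c fun t => d t) i := by
  have h1 := isInvertible_pullback_twist B.π c
  have h2 := isInvertible_multiTwist B.inv d
  rw [← van_unit_mk_iff (Fdesc.LocGen.isInvertible_tensorMod h1 h2), ← mk_mul_mk h1 h2, mk_pullback_twist,
    mk_multiTwist]
  simp only [Setup.cls, zpow_natCast]
  rfl

end MultiTwist

end K700.BlVan
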