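import Groth.Agent.VBPn.K700.BlPts
import Groth.Agent.VBPn.K700.BlVan
import Groth.Agent.ArSurf.K482.Triv
import Groth.Agent.Flat2C.Admissible
import Mathlib.AlgebraicGeometry.AlgClosed.Basic

/-!
# The blow-up of `P^{r+1}` in finitely many closed points

* `exists_setup`: the blow-up of projective space in finitely many closed points carries a `BlVan.Setup`.
-/

set_option autoImplicit false
universe u

open CategoryTheory CategoryTheory.Limits AlgebraicGeometry Opposite TopologicalSpace

namespace K700.BlSetup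

open Groth.Agent Groth.Agent.Grpsch.PicGrp Groth.Agent.Lefpen.H21.PicTwist
open K700.BlBase K700.BlPts K700.BlVan BlowUp Scheme.IdealSheafData

theorem ne_bot_of_locReg {Y : Scheme.{u}} [Nonempty Y] {J : Y.IdealSheafData} (h : LocReg J) : J ≠ ⊥ := by
  rintro rfl
  obtain ⟨x⟩ := (inferInstance : Nonempty Y)
  obtain ⟨V, -, -, m, a, hm, ha, ha0, -⟩ := h x ⊤ trivial
  apply ha0 ⟨0, hm⟩
  have h1 : a ⟨0, hm⟩ ∈ Ideal.span (Set.range a) := Ideal.subset_span ⟨_, rfl⟩
  rw [← ha] at h1
  simpa using h1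

theorem comap_eq_top {X Y : Scheme.{u}} (I : X.IdealSheafData) (g : Y ⟶ X)
    (h : ∀ y : Y, g y ∉ I.support) : I.comap g = ⊤ := by
  rw [← Scheme.IdealSheafData.support_eq_bot_iff, Scheme.IdealSheafData.support_comap]
  ext x
  simp only [TopologicalSpace.Closeds.coe_preimage, Set.mem_preimage, TopologicalSpace.Closeds.coe_bot,
    Set.mem_empty_iff_false, iff_false]
  exact h x

variable {k : Type u} [Field k] [IsAlgClosed k] {r s : ℕ} {P : Fin s → ↥(CohB1.ProjSpace (r + 1) k)}
  (hP : Function.Injective P) (hPc : ∀ i, IsClosed ({P i} : Set ↥(CohB1.ProjSpace (r + 1) k)))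
  (hZ : IsClosed (Set.range P)) {X : Scheme.{u}} (π : X ⟶ CohB1.ProjSpace (r + 1) k)
  (hπ : IsBlowUp π (vanishingIdeal ⟨Set.range P, hZ⟩))

instance : IsLocallyNoetherian (CohB1.ProjSpace (r + 1) k) :=
  have := Groth.Agent.Ega3B.ProjProper.isProper_toSpec (r + 1) k
  LocallyOfFiniteType.isLocallyNoetherian (CohB1.ProjSpace.toSpec (r + 1) k)

instance : IsProper (CohB1.ProjSpace.toSpec (r + 1) k) := Groth.Agent.Ega3B.ProjProper.isProper_toSpec (r + 1) k

/-- The section with image `P t`. -/
noncomputable def sec (t : Fin s) : Spec (CommRingCat.of k) ⟶ CohB1.ProjSpace (r + 1) k :=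
  pointOfClosedPoint (CohB1.ProjSpace.toSpec (r + 1) k) (P t) (hPc t)

theorem sec_comp (t : Fin s) : sec hPc t ≫ CohB1.ProjSpace.toSpec (r + 1) k = 𝟙 _ := pointOfClosedPoint_comp _ _ _

theorem sec_apply (t : Fin s) (z) : sec hPc t z = P t := pointOfClosedPoint_apply _ _ _ _

instance (t : Fin s) : IsClosedImmersion (sec hPc t) := isClosedImmersion_section _ _ (sec_comp hPc t)

theorem ker_sec (t : Fin s) : (sec hPc t).ker = vanishingIdeal ⟨{P t}, hPc t⟩ :=
  ker_point _ _ _ (sec_apply hPc t)

include hPc in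
theorem locReg : LocReg (vanishingIdeal (⟨Set.range P, hZ⟩ : Closeds ↥(CohB1.ProjSpace (r + 1) k))) :=
  locReg_points (n := r + 1) (CohB1.ProjSpace.toSpec (r + 1) k) (by omega) P hPc hZ (sec hPc) (sec_comp hPc)
    (sec_apply hPc)

include hPc hπ in
theorem isIntegral : IsIntegral X := by
  obtain ⟨h, -⟩ := S2348.result _ (ne_bot_of_locReg (locReg hPc hZ)) π hπ
  exact h

omit [IsAlgClosed k] in
include hP hPc hπ in
theorem isEff (t : Fin s) : IsEffCartierIdeal ((vanishingIdeal (⟨{P t}, hPc t⟩ : Closeds _)).comap π) := by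
  classical
  have h := hπ.1
  rw [vanishing_eq_prod P hP hPc hZ, Flat2C.Admissible.comap_prod] at h
  rw [← Finset.mul_prod_erase _ _ (Finset.mem_univ t)] at h
  exact Divis.BlowUpFormal.isEff_of_mul h

include hP hPc hπ in
theorem exists_exc' (t : Fin s) : ∃ j : CohB1.ProjSpace r k ⟶ X,
    IsPullback j (CohB1.ProjSpace.toSpec r k) π (sec hPc t) ∧
      Nonempty ((Scheme.Modules.pullback j).obj (ClSub.idealMod ((sec hPc t).ker.comap π)) ≅
        Twist.twistProjSpace r k 1) := by
  let T : Set ↥(CohB1.ProjSpace (r + 1) k) := ⋃ t' ∈ {t' : Fin s | t' ≠ t}, {P t'}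
  have hT : IsClosed T := Set.Finite.isClosed_biUnion (Set.toFinite _) fun t' _ => hPc t'
  refine exists_exc π (CohB1.ProjSpace.toSpec (r + 1) k) (sec hPc t) (sec_comp hPc t) _ ⟨Tᶜ, hT.isOpen_compl⟩ ?_ ?_ hπ ?_
  · intro z h
    rw [sec_apply] at h
    simp only [T, Set.mem_iUnion, Set.mem_singleton_iff, Set.mem_ofPred_eq] at h
    obtain ⟨t', h1, h2⟩ := h
    exact h1 (hP h2.symm)
  · rw [ker_sec]
    refine comap_vanishing_congr _ _ _ fun y hy => ?_
    constructor
    · rintro ⟨t', rfl⟩
      by_contra h3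
      refine hy (Set.mem_biUnion (x := t') (show t' ≠ t from ?_) rfl)
      rintro rfl
      exact h3 rfl
    · intro (h3 : y = P t)
      exact ⟨t, h3.symm⟩
  · rw [ker_sec]
    exact isEff hP hPc hZ π hπ t

include hP hPc hπ in
/-- The blow-up of projective space in finitely many closed points. -/
theorem exists_setup : ∃ B : Setup k r s X, B.π = π ∧
    (∀ t, B.I t = (vanishingIdeal (⟨{P t}, hPc t⟩ : Closeds _)).comap π) ∧
    ∀ t, IsPullback (B.j t) (CohB1.ProjSpace.toSpec r k) π (sec hPc t) := by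
  choose j hj hje using exists_exc' hP hPc hZ π hπ
  have hint := isIntegral hPc hZ π hπ
  have hE := isEff hP hPc hZ π hπ
  have hinv := fun t => Dix.IdealModCartier.isInvertible_idealMod (hE t)
  refine ⟨{ π := π, I := fun t => (vanishingIdeal (⟨{P t}, hPc t⟩ : Closeds _)).comap π, inv := hinv, j := j,
            cl := fun t => ?_, ker := fun t => ?_, pull_h := fun t => ?_, pull_e := fun t t' => ?_,
            base := fun c i => ?_ }, rfl, fun t => rfl, hj⟩
  · exact MorphismProperty.of_isPullback (P := @IsClosedImmersion) (hj t).flip inferInstance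
  · rw [Sga67.BlowReg.ker_of_isPullback (hj t), ker_sec]
  · change pull (j t) (pull π (o (r + 1) k 1)) = 1
    rw [← pull_comp, (hj t).w, pull_comp, pic_spec_local k (pull (sec hPc t) (o (r + 1) k 1)), map_one]
  · rw [pull_mk]
    split_ifs with h
    · subst h
      have h2 := hje t
      rw [ker_sec] at h2
      obtain ⟨e⟩ := h2
      exact mk_congr e
    · have h1 : ((vanishingIdeal (⟨{P t'}, hPc t'⟩ : Closeds _)).comap π).comap (j t) = ⊤ := by
        rw [← comap_comp, (hj t).w, comap_comp, comap_eq_top _ (sec hPc t), comap_top]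
        intro z
        rw [sec_apply]
        intro h4
        exact h (hP h4)
      obtain ⟨e1⟩ := Dix.IdealModCartier.pullback_idealMod (j t) (hE t') (by rw [h1]; exact Divis.EffCartier.isEff_top)
      rw [h1] at e1
      obtain ⟨e2⟩ := K482.Triv.idealMod_top (X := CohB1.ProjSpace r k)
      exact mk_congr (e1 ≪≫ e2)
  · exact nonempty_equiv π hπ (locReg hPc hZ) (Ega3B.ProjTwist.isInvertible_twistProjSpace (r + 1) k c) i

end K700.BlSetup
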