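import Groth.Agent.VBPn.K700.BlQ
import Groth.Agent.S2122

/-!
# The blow-up of `P^{r+1}` in at most one point

Vanishing of `H^i(X, π^*O(c) ⊗ I_E^d)` for all `d ∈ ℤ`.
* `van_gt`: `i > dim X`;
* `van_pos`: `i ≥ 1`, `d ≥ -r`, `c ≥ d - 1`, `c ≥ -n`;
* `van_zero`: `i = 0`, `c < 0`;
* `van_midneg`, `van_lastneg`: `d ≤ 0` and `1 ≤ i ≤ n - 1`.
-/

set_option autoImplicit false
universe u

open CategoryTheory CategoryTheory.Limits AlgebraicGeometry Opposite TopologicalSpace

namespace K700.BlOne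

open Groth.Agent Groth.Agent.Grpsch.PicGrp Groth.Agent.Lefpen.H21.PicTwist
open K700.PicVan K700.BlVan K700.BlVan.Setup

variable {k : Type u} [Field k] {r s : ℕ} {X : Scheme.{u}} (B : Setup k r s X)

/-- The class of `π^*O(c) ⊗ I^d`. -/
noncomputable abbrev cc (c d : ℤ) : Pic X := B.cls c fun _ => d

theorem cc_mul (c c' d d' : ℤ) : cc B c d * cc B c' d' = cc B (c + c') (d + d') := B.cls_mul _ _ _ _

theorem cc_zpow (c d m : ℤ) : cc B c d ^ m = cc B (m * c) (m * d) := B.cls_zpow _ _ _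

theorem cc_zero : cc B 0 0 = 1 := B.cls_zero

theorem cc_inv (c d : ℤ) : (cc B c d)⁻¹ = cc B (-c) (-d) := B.cls_inv _ _

theorem fun_one (hs : s = 1) (t : Fin s) (d : ℤ) : (fun _ : Fin s => d + 1) = (fun _ : Fin s => d) + Pi.single t 1 := by
  subst hs
  funext t'
  rw [Subsingleton.elim t' t]
  simp

theorem fun_zero (hs : s = 0) (d : ℤ) : (fun _ : Fin s => d) = 0 := by
  subst hs
  exact Subsingleton.elim _ _

/-- Upward induction on `d`. -/
theorem up (hs : s ≤ 1) (c : ℤ) (q : ℕ) {a b : ℤ} (hab : a ≤ b)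
    (hE : ∀ d, a ≤ d → d < b → Van (Coh.structureModule (CohB1.ProjSpace r k)) (o r k d) q)
    (h : Van (Coh.structureModule X) (cc B c a) (q + 1)) : Van (Coh.structureModule X) (cc B c b) (q + 1) := by
  rcases Nat.lt_or_ge 0 s with h1 | h1
  · have hs1 : s = 1 := by omega
    induction b, hab using Int.leInduction with
    | base => exact h
    | succ b hb ih =>
      exact B.van_e₁ ⟨0, h1⟩ (fun_one hs1 _ b) q (hE b hb (by omega)) (ih fun d h2 h3 => hE d h2 (by omega))
  · rw [cc, fun_zero (by omega)] at h ⊢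
    exact h

/-- Downward induction on `d`. -/
theorem down (hs : s ≤ 1) (c : ℤ) (q : ℕ) {a b : ℤ} (hab : a ≤ b)
    (hE : ∀ d, a ≤ d → d < b → Van (Coh.structureModule (CohB1.ProjSpace r k)) (o r k d) q)
    (h : Van (Coh.structureModule X) (cc B c b) q) : Van (Coh.structureModule X) (cc B c a) q := by
  rcases Nat.lt_or_ge 0 s with h1 | h1
  · have hs1 : s = 1 := by omega
    induction b, hab using Int.leInduction with
    | base => exact h
    | succ b hb ih =>
      exact ih (fun d h2 h3 => hE d h2 (by omega)) (B.van_e₂ ⟨0, h1⟩ (fun_one hs1 _ b) q h (hE b hb (by omega)))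
  · rw [cc, fun_zero (by omega)] at h ⊢
    exact h

theorem up_zero (hs : s ≤ 1) (c : ℤ) {a b : ℤ} (hab : a ≤ b)
    (h : Van (Coh.structureModule X) (cc B c a) 0) : Van (Coh.structureModule X) (cc B c b) 0 := by
  rcases Nat.lt_or_ge 0 s with h1 | h1
  · have hs1 : s = 1 := by omega
    induction b, hab using Int.leInduction with
    | base => exact h
    | succ b hb ih => exact B.van_e_zero ⟨0, h1⟩ (fun_one hs1 _ b) ih
  · rw [cc, fun_zero (by omega)] at h ⊢
    exact h

theorem base (c : ℤ) (q : ℕ) (h₀ : ¬ (q = 0 ∧ 0 ≤ c)) (hn : ¬ (q = r + 1 ∧ c ≤ -((r : ℤ) + 2))) :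
    Van (Coh.structureModule X) (cc B c 0) q := B.van_base c q h₀ hn

/-- `H^i = 0` for `i > dim X`. -/
theorem van_gt (hs : s ≤ 1) (c d : ℤ) (i : ℕ) (hi : r + 1 < i) : Van (Coh.structureModule X) (cc B c d) i := by
  have h := base B c i (by omega) (by omega)
  rcases le_total 0 d with hd | hd
  · obtain ⟨q, rfl⟩ : ∃ q, i = q + 1 := ⟨i - 1, by omega⟩
    exact up B hs c q hd (fun d _ _ => van_o k r d q (by omega) (by omega)) h
  · exact down B hs c i hd (fun d _ _ => van_o k r d i (by omega) (by omega)) h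

/-- `H^i(c, d)` for `-r ≤ d ≤ 0`. -/
theorem van_range (hs : s ≤ 1) (c d : ℤ) (i : ℕ) (hd : d ≤ 0) (hd' : -(r : ℤ) ≤ d)
    (h : Van (Coh.structureModule X) (cc B c 0) i) : Van (Coh.structureModule X) (cc B c d) i :=
  down B hs c i hd (fun d _ _ => van_o k r d i (by omega) (by omega)) h

/-- `H^0 = 0` for `c < 0`. -/
theorem van_zero (hs : s ≤ 1) (hr : 1 ≤ r) (c d : ℤ) (hc : c < 0) : Van (Coh.structureModule X) (cc B c d) 0 := by
  have h := base B c 0 (by omega) (by omega)
  rcases le_total 0 d with hd | hd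
  · exact up_zero B hs c hd h
  · exact down B hs c 0 hd (fun d _ _ => van_o k r d 0 (by omega) (by omega)) h

/-- Negative twists, `1 ≤ i ≤ n - 2`. -/
theorem van_midneg (hs : s ≤ 1) (c d : ℤ) (hd : d ≤ 0) (i : ℕ) (hi : 1 ≤ i) (hir : i < r) :
    Van (Coh.structureModule X) (cc B c d) i :=
  down B hs c i hd (fun d _ _ => van_o k r d i (by omega) (by omega)) (base B c i (by omega) (by omega))

section Q

/-- The class of the lines. -/
def HasQ : Prop := ∀ t : Fin s, ∃ (m : ℕ) (q : X ⟶ CohB1.ProjSpace m k), hyp q = B.h * B.e t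

variable (hq : HasQ B)

include hq

theorem exists_q (hs : s = 1) : ∃ (m : ℕ) (q : X ⟶ CohB1.ProjSpace m k), hyp q = cc B 1 1 := by
  subst hs
  obtain ⟨m, q, h⟩ := hq 0
  refine ⟨m, q, h.trans ?_⟩
  rw [B.h_eq, B.e_eq, B.cls_mul, add_zero, zero_add]
  congr 1
  funext t
  rw [Subsingleton.elim t 0]
  simp

/-- `i ≥ 1`, `d ≥ -r`, `c ≥ d - 1`, `c ≥ -n`. -/
theorem van_pos (hs : s ≤ 1) (c d : ℤ) (hd : -(r : ℤ) ≤ d) (hc : d - 1 ≤ c) (hc' : -((r : ℤ) + 1) ≤ c) (i : ℕ) (hi : 1 ≤ i) :
    Van (Coh.structureModule X) (cc B c d) i := by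
  rcases Nat.lt_or_ge 0 s with h1 | h1
  · have hs1 : s = 1 := by omega
    obtain ⟨m, q, hqq⟩ := exists_q B hq hs1
    obtain ⟨N, hN⟩ : ∃ N : ℕ, d ≤ N := ⟨d.toNat, Int.self_le_toNat d⟩
    induction N generalizing c d i with
    | zero => exact van_range B hs c d i hN hd (base B c i (by omega) (by omega))
    | succ N ih =>
      rcases le_or_gt d N with h2 | h2
      · exact ih c d hd hc hc' i hi h2
      · refine van_last q fun j hj1 hj2 => ?_
        rw [hqq, cc_zpow, cc_mul]
        rcases Nat.lt_or_ge (r + 1) j with h3 | h3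
        · exact van_gt B hs _ _ _ (by omega)
        · exact ih _ _ (by push_cast at hN; omega) (by push_cast at hN; omega) (by push_cast at hN; omega) _ (by omega)
            (by push_cast at hN; omega)
  · rw [cc, fun_zero (by omega)]
    exact base B c i (by omega) (by omega)

/-- Negative twists, `i = n - 1`. -/
theorem van_lastneg (hs : s ≤ 1) (hr : 1 ≤ r) (c : ℤ) (δ : ℕ) (hc : c + δ < 0) :
    Van (Coh.structureModule X) (cc B c (-δ)) r := by
  rcases Nat.lt_or_ge 0 s with h1 | h1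
  · have hs1 : s = 1 := by omega
    obtain ⟨m, q, hqq⟩ := exists_q B hq hs1
    induction δ generalizing c with
    | zero => exact van_range B hs c _ r (by omega) (by omega) (base B c r (by omega) (by omega))
    | succ δ ih =>
      rcases Nat.lt_or_ge δ r with h2 | h2
      · exact van_range B hs c _ r (by omega) (by omega) (base B c r (by omega) (by omega))
      · refine van_first q fun j hj1 hj2 hj3 => ?_
        rw [hqq, cc_zpow, cc_mul]
        rcases Nat.lt_or_ge 1 j with h3 | h3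
        · rcases Nat.lt_or_ge j (r + 1) with h4 | h4
          · exact van_midneg B hs _ _ (by push_cast; omega) _ (by omega) (by omega)
          · obtain rfl : j = r + 1 := by omega
            rw [Nat.sub_self]
            exact van_zero B hs hr _ _ (by push_cast at hc ⊢; omega)
        · obtain rfl : j = 1 := by omega
          have e := ih (c + 1) (by push_cast at hc; omega)
          have e1 : (-((δ + 1 : ℕ) : ℤ) + ((1 : ℕ) : ℤ) * 1) = -(δ : ℤ) := by push_cast; ring
          have e2 : c + ((1 : ℕ) : ℤ) * 1 = c + 1 := by push_cast; ring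
          rw [e1, e2, Nat.add_sub_cancel]
          exact e
  · rw [cc, fun_zero (by omega)]
    exact base B c r (by omega) (by omega)

end Q

section Class

open Divis.EffCartier BlowUp

/-- The class of the ideal of a product of effective Cartier divisors. -/
theorem mk_idealMod_prod {ι : Type*} (T : Finset ι) (I : ι → X.IdealSheafData) (hE : ∀ t, IsEffCartierIdeal (I t))
    (hI : ∀ t, PicF.IsInvertible (ClSub.idealMod (I t)))
    (hT : PicF.IsInvertible (ClSub.idealMod (∏ t ∈ T, I t))) :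
    IsEffCartierIdeal (∏ t ∈ T, I t) ∧
      Grpsch.PicGrp.mk _ hT = ∏ t ∈ T, Grpsch.PicGrp.mk (ClSub.idealMod (I t)) (hI t) := by
  classical
  induction T using Finset.induction_on with
  | empty =>
    refine ⟨isEff_top, ?_⟩
    have h1 : (∏ t ∈ (∅ : Finset ι), I t) = ⊤ := Finset.prod_empty
    refine Eq.trans ?_ Finset.prod_empty.symm
    rw [mk_eq_one_iff, h1]
    exact K482.Triv.idealMod_top
  | insert a T ha ih =>
    have e : ∏ t ∈ insert a T, I t = I a * ∏ t ∈ T, I t := Finset.prod_insert ha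
    have hET : IsEffCartierIdeal (∏ t ∈ T, I t) := by
      clear ih hT e
      induction T using Finset.induction_on with
      | empty => exact isEff_top
      | insert b T hb ih =>
        rw [Finset.prod_insert hb]
        exact isEff_mul (hE b) (ih fun h => ha (Finset.mem_insert_of_mem h))
    have hIT := Dix.IdealModCartier.isInvertible_idealMod hET
    refine ⟨by rw [e]; exact isEff_mul (hE a) hET, ?_⟩
    refine Eq.trans ?_ (Finset.prod_insert ha).symm
    rw [← (ih hIT).2, mk_mul_mk (hI a) hIT]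
    obtain ⟨e1⟩ := Dix.IdealModCartier.idealMod_mul (hE a) hET
    rw [← e] at e1
    exact mk_congr e1.symm

end Class

section Main

open K700.BlSetup BlowUp Scheme.IdealSheafData

variable {k : Type u} [Field k] [IsAlgClosed k] {r s : ℕ} {P : Fin s → ↥(CohB1.ProjSpace (r + 1) k)}
  (hP : Function.Injective P) (hPc : ∀ i, IsClosed ({P i} : Set ↥(CohB1.ProjSpace (r + 1) k)))
  (hZ : IsClosed (Set.range P)) {X : Scheme.{u}} (π : X ⟶ CohB1.ProjSpace (r + 1) k)
  (hπ : BlowUp.IsBlowUp π (vanishingIdeal ⟨Set.range P, hZ⟩))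

include hP hPc hπ in
/-- The setup together with the class of the exceptional ideal. -/
theorem exists_setup_exc : ∃ B : Setup k r s X, B.π = π ∧
    (∀ t, B.I t = (vanishingIdeal (⟨{P t}, hPc t⟩ : Closeds _)).comap π) ∧
    (∀ t, IsPullback (B.j t) (CohB1.ProjSpace.toSpec r k) π (sec hPc t)) ∧ HasQ B ∧
    ∃ hI : PicF.IsInvertible (ClSub.idealMod (exceptional π (vanishingIdeal (⟨Set.range P, hZ⟩ : Closeds _)))),
      Grpsch.PicGrp.mk _ hI = cc B 0 1 := by
  obtain ⟨B, rfl, hI, hj, hq⟩ := BlQ.exists_setup' hP hPc hZ π hπ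
  have h1 := Dix.IdealModCartier.isInvertible_idealMod hπ.1
  refine ⟨B, rfl, hI, hj, fun t => ?_, h1, ?_⟩
  · obtain ⟨m, q, -, h⟩ := hq t
    exact ⟨m, q, h⟩
  · have e : (vanishingIdeal (⟨Set.range P, hZ⟩ : Closeds _)).comap B.π = ∏ t, B.I t := by
      rw [BlPts.vanishing_eq_prod P hP hPc hZ, Flat2C.Admissible.comap_prod]
      exact Finset.prod_congr rfl fun t _ => (hI t).symm
    have h2 : PicF.IsInvertible (ClSub.idealMod (∏ t, B.I t)) := e ▸ h1
    have h3 := (mk_idealMod_prod Finset.univ B.I (fun t => by rw [hI]; exact isEff hP hPc hZ B.π hπ t) B.inv h2).2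
    have h4 : Grpsch.PicGrp.mk _ h1 = Grpsch.PicGrp.mk _ h2 := by
      rw [mk_eq_iff]
      exact ⟨eqToIso (congrArg ClSub.idealMod e)⟩
    refine h4.trans (h3.trans ?_)
    simp [cc, Setup.cls, Setup.e]

theorem isInvertible_of_iso {X : Scheme.{u}} {L M : X.Modules} (e : L ≅ M) (hM : PicF.IsInvertible M) :
    PicF.IsInvertible L := by
  obtain ⟨N, -, ⟨e'⟩⟩ := exists_inverse hM
  exact S2122.result L N (Ega2.Tens.mapTIso e (Iso.refl N) ≪≫ e')

include hP hPc hπ in
/-- The setup together with the class of `H ≅ π^*O(a) ⊗ I_E^b`. -/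
theorem exists_setup_H (a : ℤ) (b : ℕ) (Hm : X.Modules)
    (hHm : Nonempty (Hm ≅ CohB1.tensorMod ((Scheme.Modules.pullback π).obj (Twist.twistProjSpace (r + 1) k a))
      (CohB1.tensorPow (ClSub.idealMod (exceptional π (vanishingIdeal ⟨Set.range P, hZ⟩))) b))) :
    ∃ B : Setup k r s X, B.π = π ∧ HasQ B ∧ ∃ (hH : PicF.IsInvertible Hm), Grpsch.PicGrp.mk _ hH = cc B a b := by
  obtain ⟨B, rfl, -, -, hq, hI, he⟩ := exists_setup_exc hP hPc hZ π hπ
  obtain ⟨e1⟩ := hHm
  have h1 := isInvertible_pullback_twist B.π a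
  have h2 := Fdesc.LocGen.isInvertible_tensorPow hI b
  have h3 : PicF.IsInvertible Hm := isInvertible_of_iso e1 (Fdesc.LocGen.isInvertible_tensorMod h1 h2)
  refine ⟨B, rfl, hq, h3, ?_⟩
  rw [(mk_eq_iff h3 (Fdesc.LocGen.isInvertible_tensorMod h1 h2)).2 ⟨e1⟩, ← mk_mul_mk h1 h2, mk_pullback_twist,
    mk_tensorPow hI, he]
  have h6 : hyp B.π = cc B 1 0 := B.h_eq
  rw [h6, cc_zpow, ← zpow_natCast, cc_zpow, cc_mul]
  congr 1 <;> ring_nf

theorem exists_mk_inverse {X : Scheme.{u}} {Hm Hi : X.Modules} (hH : PicF.IsInvertible Hm)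
    (hHi : ClSub.IsInverseOf Hi Hm) : ∃ hI : PicF.IsInvertible Hi,
      Grpsch.PicGrp.mk _ hI = (Grpsch.PicGrp.mk _ hH)⁻¹ := by
  obtain ⟨e2⟩ := hHi
  refine ⟨S2122.result Hi Hm e2, ?_⟩
  rw [eq_inv_iff_mul_eq_one, mk_mul_mk, mk_eq_one_iff]
  exact ⟨e2⟩

theorem van_pow_iff {X : Scheme.{u}} {F L : X.Modules} (hL : PicF.IsInvertible L) (t i : ℕ) :
    Van F (Grpsch.PicGrp.mk _ hL ^ t) i ↔ Subsingleton (Coh.HH X (CohB1.tensorMod F (CohB1.tensorPow L t)) i) := by
  rw [← mk_tensorPow, van_mk_iff]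

theorem van_unit_pow_iff {X : Scheme.{u}} {L : X.Modules} (hL : PicF.IsInvertible L) (t i : ℕ) :
    Van (Coh.structureModule X) (Grpsch.PicGrp.mk _ hL ^ t) i ↔ Subsingleton (Coh.HH X (CohB1.tensorPow L t) i) := by
  rw [← mk_tensorPow, van_unit_mk_iff]

end Main

end K700.BlOne
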