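import Groth.Agent.VBPn.K700.BlOne
import Groth.Agent.Variety.K434.DimQF
import Groth.Agent.CohqA.ProjDim
import Groth.Agent.S0458

/-!
# Kernels of `O(1)^b ⟶ O(2)^a` on the blow-up of `P^n` in at most one point

* `dim_le`: the dimension of the blow-up of `P^{r+1}` in finitely many closed points is at most `r + 1`;
* `van_dim`: Grothendieck vanishing;
* `main`: the kernel of `O(1)^b ⟶ O(2)^a` has no intermediate cohomology in the twists by `H^t` and `H^{-t}`.
-/

set_option autoImplicit false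
universe u

open CategoryTheory CategoryTheory.Limits AlgebraicGeometry Opposite TopologicalSpace

namespace K700.BlKer

open Groth.Agent Groth.Agent.Grpsch.PicGrp Groth.Agent.Lefpen.H21.PicTwist
open Groth.Agent.CohqB.HSeqMod
open K700.PicVan K700.BlVan K700.BlVan.Setup K700.BlOne

section Dim

open K700.BlSetup K700.BlBase Scheme.IdealSheafData

variable {k : Type u} [Field k] [IsAlgClosed k] {r s : ℕ} {P : Fin s → ↥(CohB1.ProjSpace (r + 1) k)}
  (hPc : ∀ i, IsClosed ({P i} : Set ↥(CohB1.ProjSpace (r + 1) k)))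
  (hZ : IsClosed (Set.range P)) {X : Scheme.{u}} (π : X ⟶ CohB1.ProjSpace (r + 1) k)
  (hπ : BlowUp.IsBlowUp π (vanishingIdeal ⟨Set.range P, hZ⟩))

include hPc hπ in
theorem dim_le : topologicalKrullDim X ≤ ((r + 1 : ℕ) : WithBot ℕ∞) := by
  have hint := isIntegral hPc hZ π hπ
  have hpr := BlQ.isProper hZ π hπ
  have hne := ne_bot_of_locReg (locReg hPc hZ)
  have hgen : π.base (genericPoint X) = genericPoint ↥(CohB1.ProjSpace (r + 1) k) := by
    obtain ⟨h0, h1, h2⟩ := S2348.result _ hne π hπ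
    exact h1
  let U : (CohB1.ProjSpace (r + 1) k).Opens := ⟨(Set.range P)ᶜ, hZ.isOpen_compl⟩
  have hiso : IsIso (π ∣_ U) := Divis.BlowUpFormal.isIso_morphismRestrict_compl_support hπ U
    (Set.disjoint_left.2 fun y hy hy' => hy hy')
  have hU : genericPoint ↥(CohB1.ProjSpace (r + 1) k) ∈ U := by
    by_contra hcon
    apply hne
    rw [← Scheme.IdealSheafData.support_eq_top_iff]
    rw [eq_top_iff]
    intro y _
    have h1 : genericPoint ↥(CohB1.ProjSpace (r + 1) k) ∈ Set.range P := not_not.1 hcon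
    exact (genericPoint_specializes y).mem_closed hZ h1
  have hx : genericPoint X ∈ π ⁻¹ᵁ U := by
    change π.base (genericPoint X) ∈ U
    rw [hgen]
    exact hU
  have h2 : ((π ⁻¹ᵁ U).ι ≫ π).QuasiFiniteAt ⟨genericPoint X, hx⟩ := by
    rw [← morphismRestrict_ι]
    exact Scheme.Hom.quasiFiniteAt _ _
  have h3 := K434.DimQF.topologicalKrullDim_le π hgen
    ((Scheme.Hom.quasiFiniteAt_comp_iff_of_isOpenImmersion (f := (π ⁻¹ᵁ U).ι) (g := π)).1 h2)
  exact h3.trans (CohqA.ProjDim.topologicalKrullDim_le k (r + 1))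

include hPc hπ in
theorem van_dim (F : X.Modules) (c : Pic X) (i : ℕ) (hi : r + 1 < i) : Van F c i := by
  have hint := isIntegral hPc hZ π hπ
  have hpr := BlQ.isProper hZ π hπ
  have hln : IsLocallyNoetherian X := LocallyOfFiniteType.isLocallyNoetherian π
  have hc0 : CompactSpace (CohB1.ProjSpace (r + 1) k) :=
    QuasiCompact.compactSpace_of_compactSpace (CohB1.ProjSpace.toSpec (r + 1) k)
  have hc : CompactSpace X := QuasiCompact.compactSpace_of_compactSpace π
  have hn : IsNoetherian X := {}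
  have : NoetherianSpace (X.toTopCat) := inferInstanceAs (NoetherianSpace X)
  intro L hL _
  exact S0458.result (X := X.toTopCat) (r + 1) (dim_le hPc hZ π hπ) _ i hi

end Dim

variable {k : Type u} [Field k] {r s : ℕ} {X : Scheme.{u}} (B : Setup k r s X) (hq : HasQ B) (hs : s ≤ 1)
  (hr : 1 ≤ r) {a b : ℕ} {Q P : X.Modules}
  (eQ : Q ≅ ∐ fun _ : Fin b => (Scheme.Modules.pullback B.π).obj (Twist.twistProjSpace (r + 1) k 1))
  (eP : P ≅ ∐ fun _ : Fin a => (Scheme.Modules.pullback B.π).obj (Twist.twistProjSpace (r + 1) k 2))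
  (g : Q ⟶ P) [Epi g]

theorem mk_pull (e : ℤ) : Grpsch.PicGrp.mk _ (isInvertible_pullback_twist B.π e) = cc B e 0 := by
  rw [mk_pullback_twist]
  have h6 : hyp B.π = cc B 1 0 := B.h_eq
  rw [h6, cc_zpow, mul_one, mul_zero]

include eQ in
omit [Epi g] in
theorem van_Q (c d : ℤ) (i : ℕ) (h : Van (Coh.structureModule X) (cc B (c + 1) d) i) : Van Q (cc B c d) i := by
  refine van_sigma_const eQ ((van_inv_iff (isInvertible_pullback_twist B.π 1)).2 ?_)
  rw [mk_pull, cc_mul, zero_add, add_comm]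
  exact h

include eP in
omit [Epi g] in
theorem van_P (c d : ℤ) (i : ℕ) (h : Van (Coh.structureModule X) (cc B (c + 2) d) i) : Van P (cc B c d) i := by
  refine van_sigma_const eP ((van_inv_iff (isInvertible_pullback_twist B.π 2)).2 ?_)
  rw [mk_pull, cc_mul, zero_add, add_comm]
  exact h

theorem shortExact : (ShortComplex.mk (kernel.ι g) g (kernel.condition g)).ShortExact :=
  { exact := ShortComplex.exact_kernel g }

include eQ eP in
theorem van_ker (c d : ℤ) (i : ℕ) (h1 : Van (Coh.structureModule X) (cc B (c + 2) d) i)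
    (h2 : Van (Coh.structureModule X) (cc B (c + 1) d) (i + 1)) : Van (kernel g) (cc B c d) (i + 1) :=
  van₁ (shortExact g) i (van_P B eP c d i h1) (van_Q B eQ c d (i + 1) h2)

include eQ in
theorem one (hg0 : Function.Surjective (hmap g 0)) (hr : 1 ≤ r) : Van (kernel g) (cc B 0 0) 1 := by
  have hS := shortExact g
  have hQ : Subsingleton (Coh.HH X Q 1) := by
    rw [← van_one_iff, ← cc_zero B]
    exact van_Q B eQ 0 0 1 (base B _ 1 (by omega) (by omega))
  rw [cc_zero, van_one_iff]
  refine subsingleton_of_forall_eq 0 fun x => ?_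
  obtain ⟨y, rfl⟩ := exact₁ hS 0 x (Subsingleton.elim _ _)
  obtain ⟨z, rfl⟩ := hg0 y
  exact δ_hmap hS 0 z

include hq hs in
theorem van_pos' (c d : ℤ) (hd : -(r : ℤ) ≤ d) (hc : d ≤ 0 ∨ d - 1 ≤ c) (hc' : -((r : ℤ) + 1) ≤ c) (i : ℕ)
    (hi : 1 ≤ i) : Van (Coh.structureModule X) (cc B c d) i := by
  rcases hc with hc | hc
  · exact van_range B hs c d i hc hd (base B c i (by omega) (by omega))
  · exact BlOne.van_pos B hq hs c d hd hc hc' i hi

include hq hs eQ eP in
theorem van_pos_ker (i : ℕ) (hi : 2 ≤ i) (c d : ℤ) (hd : -(r : ℤ) ≤ d) (hc : d ≤ 0 ∨ d - 1 ≤ c + 1)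
    (hc' : -((r : ℤ) + 1) ≤ c + 1) : Van (kernel g) (cc B c d) i := by
  obtain ⟨i, rfl⟩ : ∃ j, i = j + 1 := ⟨i - 1, by omega⟩
  exact van_ker B eQ eP g c d i (van_pos' B hq hs _ _ hd (by omega) (by omega) i (by omega))
    (van_pos' B hq hs _ _ hd (by omega) (by omega) _ (by omega))

include hq hs eQ eP in
theorem one_h (hg0 : Function.Surjective (hmap g 0)) (hr : 1 ≤ r) (c : ℕ) : Van (kernel g) (cc B c 0) 1 := by
  induction c with
  | zero => exact one B eQ g hg0 hr
  | succ c ih =>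
    refine van_last B.π fun j hj1 hj2 => ?_
    have h6 : hyp B.π = cc B 1 0 := B.h_eq
    rw [h6, cc_zpow, cc_mul]
    rcases Nat.lt_or_ge 1 j with h3 | h3
    · refine van_pos_ker B hq hs eQ eP g _ (by omega) _ _ (by omega) (by push_cast; omega) (by push_cast; omega)
    · obtain rfl : j = 1 := by omega
      have e1 : ((c + 1 : ℕ) : ℤ) + -((1 : ℕ) : ℤ) * 1 = c := by push_cast; ring
      have e2 : (0 : ℤ) + -((1 : ℕ) : ℤ) * 0 = 0 := by ring
      rw [e1, e2]
      exact ih

include hq hs eQ eP in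
theorem one_pos (hdim : ∀ (c : Pic X) (i : ℕ), r + 1 < i → Van (kernel g) c i)
    (hg0 : Function.Surjective (hmap g 0)) (hr : 1 ≤ r) (c d : ℕ) (hcd : d ≤ c) :
    Van (kernel g) (cc B c d) 1 := by
  rcases Nat.lt_or_ge 0 s with h1 | h1
  · obtain ⟨m, q, hqq⟩ := exists_q B hq (by omega)
    induction d generalizing c with
    | zero => exact one_h B hq hs eQ eP g hg0 hr c
    | succ d ih =>
      obtain ⟨c, rfl⟩ : ∃ c', c = c' + 1 := ⟨c - 1, by omega⟩
      refine van_last q fun j hj1 hj2 => ?_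
      rw [hqq, cc_zpow, cc_mul]
      rcases Nat.lt_or_ge 1 j with h3 | h3
      · rcases Nat.lt_or_ge (r + 1) j with h4 | h4
        · exact hdim _ _ (by omega)
        · refine van_pos_ker B hq hs eQ eP g _ (by omega) _ _ (by push_cast; omega) (by push_cast; omega) (by push_cast; omega)
      · obtain rfl : j = 1 := by omega
        have e1 : ((c + 1 : ℕ) : ℤ) + -((1 : ℕ) : ℤ) * 1 = c := by push_cast; ring
        have e2 : ((d + 1 : ℕ) : ℤ) + -((1 : ℕ) : ℤ) * 1 = d := by push_cast; ring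
        rw [e1, e2]
        exact ih c (by omega)
  · have h := one_h B hq hs eQ eP g hg0 hr c
    rw [cc, fun_zero (by omega)] at h ⊢
    exact h

include hq hs eQ eP in
/-- The kernel has no intermediate cohomology. -/
theorem main (hdim : ∀ (c : Pic X) (i : ℕ), r + 1 < i → Van (kernel g) c i)
    (hg0 : Function.Surjective (hmap g 0)) (hr : 2 ≤ r) (i t : ℕ) (hi : 1 ≤ i) (hir : i ≤ r) :
    Van (kernel g) (cc B ((t : ℤ) * ((r : ℤ) + 1 + 1)) ((t : ℤ) * r)) i ∧
      Van (kernel g) (cc B ((t : ℤ) * -((r : ℤ) + 1 + 1)) ((t : ℤ) * -r)) i := by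
  have htr : (0 : ℤ) ≤ t * r := mul_nonneg (Int.natCast_nonneg t) (Int.natCast_nonneg r)
  have ht0 : (0 : ℤ) ≤ t := Int.natCast_nonneg t
  constructor
  · rcases Nat.lt_or_ge 1 i with h1 | h1
    · exact van_pos_ker B hq hs eQ eP g i h1 _ _ (by nlinarith) (Or.inr (by nlinarith)) (by nlinarith)
    · obtain rfl : i = 1 := by omega
      have h2 := one_pos B hq hs eQ eP g hdim hg0 (by omega) (t * (r + 1 + 1)) (t * r) (by nlinarith)
      push_cast at h2
      exact h2
  · rcases Nat.eq_zero_or_pos t with rfl | ht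
    · simp only [Nat.cast_zero, zero_mul]
      rcases Nat.lt_or_ge 1 i with h1 | h1
      · exact van_pos_ker B hq hs eQ eP g i h1 _ _ (by omega) (Or.inl le_rfl) (by omega)
      · obtain rfl : i = 1 := by omega
        exact one B eQ g hg0 (by omega)
    · have ht1 : (1 : ℤ) ≤ t := by exact_mod_cast ht
      obtain ⟨i, rfl⟩ : ∃ j, i = j + 1 := ⟨i - 1, by omega⟩
      refine van_ker B eQ eP g _ _ i ?_ ?_
      · rcases Nat.eq_zero_or_pos i with rfl | h1
        · exact van_zero B hs (by omega) _ _ (by nlinarith)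
        · exact van_midneg B hs _ _ (by nlinarith) i h1 (by omega)
      · rcases Nat.lt_or_ge (i + 1) r with h1 | h1
        · exact van_midneg B hs _ _ (by nlinarith) _ (by omega) h1
        · obtain rfl : r = i + 1 := by omega
          have h2 := van_lastneg B hq hs (by omega) ((t : ℤ) * -(((i + 1 : ℕ) : ℤ) + 1 + 1) + 1) (t * (i + 1)) (by
            push_cast
            nlinarith)
          have e2 : (-((t * (i + 1) : ℕ) : ℤ)) = (t : ℤ) * -((i + 1 : ℕ) : ℤ) := by push_cast; ring
          rwa [e2] at h2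

end K700.BlKer
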