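import Groth.Agent.S0844
import Groth.Agent.S2443
import Groth.Agent.Ega3B.ProjProper
import Groth.Agent.VBPn.K700.PicVan

/-!
# Cohomology of `O(a, b)` on `P¹ × P¹`

* `van_quad`: vanishing of `H^i(P¹ × P¹, O(a, b))`.
-/

set_option autoImplicit false
universe u

open CategoryTheory CategoryTheory.Limits AlgebraicGeometry Opposite TopologicalSpace

namespace K700.Quad

open Groth.Agent.Grpsch.PicGrp Groth.Agent.Lefpen.H21.PicTwist Groth.Agent.Fdesc.LocGen
open K700.PicVan

set_option backward.isDefEq.respectTransparency false in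
/-- everything is flat over a field -/
theorem flat_over_field {K : Type u} [Field K] {Y : Scheme.{u}} (q : Y ⟶ Spec (CommRingCat.of K))
    (M : Y.Modules) : FlatMod.IsFlatOver q M := by
  intro x
  unfold FlatMod.IsFlatOverAt
  let _ := FlatMod.moduleStalkOver q M x
  let _ : Algebra K ((Spec (CommRingCat.of K)).presheaf.stalk (q.base x)) :=
    StructureSheaf.stalkAlgebra (R := K) (q.base x)
  have : IsLocalization.AtPrime ((Spec (CommRingCat.of K)).presheaf.stalk (q.base x)) (q.base x).asIdeal :=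
    StructureSheaf.IsLocalization.to_stalk K (q.base x)
  let _ : Module K (M.presheaf.stalk x) :=
    Module.compHom _ (algebraMap K ((Spec (CommRingCat.of K)).presheaf.stalk (q.base x)))
  have : IsScalarTower K ((Spec (CommRingCat.of K)).presheaf.stalk (q.base x)) (M.presheaf.stalk x) :=
    IsScalarTower.of_algebraMap_smul fun _ _ => rfl
  rw [Module.flat_iff_of_isLocalization (R := K) ((Spec (CommRingCat.of K)).presheaf.stalk (q.base x))
    (q.base x).asIdeal.primeCompl]
  infer_instance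

variable (k : Type u) [Field k]

/-- `P¹ × P¹`. -/
noncomputable abbrev QQ : Scheme.{u} := pullback (CohB1.ProjSpace.toSpec 1 k) (CohB1.ProjSpace.toSpec 1 k)

/-- the first projection -/
noncomputable abbrev p₁ : QQ k ⟶ CohB1.ProjSpace 1 k :=
  pullback.fst (CohB1.ProjSpace.toSpec 1 k) (CohB1.ProjSpace.toSpec 1 k)

/-- the second projection -/
noncomputable abbrev p₂ : QQ k ⟶ CohB1.ProjSpace 1 k :=
  pullback.snd (CohB1.ProjSpace.toSpec 1 k) (CohB1.ProjSpace.toSpec 1 k)

/-- `O(a, b)`. -/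
noncomputable abbrev OO (a b : ℤ) : (QQ k).Modules :=
  CohB1.tensorMod ((Scheme.Modules.pullback (p₁ k)).obj (Twist.twistProjSpace 1 k a))
    ((Scheme.Modules.pullback (p₂ k)).obj (Twist.twistProjSpace 1 k b))

/-- The class of `O(a, b)`. -/
noncomputable abbrev qc (a b : ℤ) : Pic (QQ k) := hyp (p₁ k) ^ a * hyp (p₂ k) ^ b

theorem isInvertible_OO (a b : ℤ) : PicF.IsInvertible (OO k a b) :=
  isInvertible_tensorMod (isInvertible_pullback_twist _ a) (isInvertible_pullback_twist _ b)

theorem mk_OO (a b : ℤ) : mk (OO k a b) (isInvertible_OO k a b) = qc k a b := by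
  rw [qc, ← mk_pullback_twist, ← mk_pullback_twist, mk_mul_mk]

/-- The degrees `(p, a)` with `H^p(P¹, O(a)) ≠ 0`. -/
def NZ (p : ℕ) (a : ℤ) : Prop := (p = 0 ∧ 0 ≤ a) ∨ (p = 1 ∧ a ≤ -2)

theorem subsingleton_P1 (a : ℤ) (p : ℕ) (h : ¬ NZ p a) :
    Subsingleton (Coh.HH (CohB1.ProjSpace 1 k) (Twist.twistProjSpace 1 k a) p) := by
  refine Groth.Agent.S0844.result k 1 a p (fun h' => h (Or.inl h')) (fun h' => h (Or.inr ?_))
  obtain ⟨h1, h2⟩ := h'
  exact ⟨h1, by push_cast at h2; omega⟩

theorem subsingleton_OO (a b : ℤ) (n : ℕ) (h : ∀ p q : ℕ, p + q = n → ¬ (NZ p a ∧ NZ q b)) :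
    Subsingleton (Coh.HH (QQ k) (OO k a b) n) := by
  have hp : IsProper (CohB1.ProjSpace.toSpec 1 k) := Groth.Agent.Ega3B.ProjProper.isProper_toSpec 1 k
  have hp' : IsProper ((CohB1.ProjSpace 1 k) ↘ Spec (CommRingCat.of k)) := hp
  have hq : ∀ a : ℤ, Coh.IsQCoh (Twist.twistProjSpace 1 k a) := fun a =>
    Groth.Agent.PerfB.TensInv.isQCoh_of_isInvertible
      (Groth.Agent.Ega3B.ProjTwist.isInvertible_twistProjSpace 1 k a)
  have hqa := hq a
  have hqb := hq b
  obtain ⟨e⟩ := Groth.Agent.S2443.result k (CohB1.ProjSpace 1 k) (CohB1.ProjSpace 1 k)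
    (Twist.twistProjSpace 1 k a) (Twist.twistProjSpace 1 k b) (flat_over_field _ _)
    (fun p => inferInstance) n
  have h0 : Subsingleton (DirectSum (Finset.antidiagonal n) fun pq =>
      TensorProduct k (Coh.HH (CohB1.ProjSpace 1 k) (Twist.twistProjSpace 1 k a) pq.1.1)
        (Coh.HH (CohB1.ProjSpace 1 k) (Twist.twistProjSpace 1 k b) pq.1.2)) := by
    have h1 : ∀ pq : Finset.antidiagonal n, Subsingleton
        (TensorProduct k (Coh.HH (CohB1.ProjSpace 1 k) (Twist.twistProjSpace 1 k a) pq.1.1)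
        (Coh.HH (CohB1.ProjSpace 1 k) (Twist.twistProjSpace 1 k b) pq.1.2)) := by
      intro pq
      have h2 := h pq.1.1 pq.1.2 (Finset.mem_antidiagonal.1 pq.2)
      rw [not_and_or] at h2
      rcases h2 with h2 | h2
      · have := subsingleton_P1 k a pq.1.1 h2
        infer_instance
      · have := subsingleton_P1 k b pq.1.2 h2
        infer_instance
    infer_instance
  exact e.toEquiv.subsingleton

/-- Vanishing of the cohomology of `O(a, b)`. -/
theorem van_quad (a b : ℤ) (n : ℕ) (h : ∀ p q : ℕ, p + q = n → ¬ (NZ p a ∧ NZ q b)) :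
    Van (Coh.structureModule (QQ k)) (qc k a b) n := by
  rw [← mk_OO, van_unit_mk_iff]
  exact subsingleton_OO k a b n h

/-- No higher cohomology for `a, b ≥ -1`. -/
theorem van_nonneg (a b : ℤ) (n : ℕ) (hn : 1 ≤ n) (ha : -1 ≤ a) (hb : -1 ≤ b) :
    Van (Coh.structureModule (QQ k)) (qc k a b) n := by
  refine van_quad k a b n fun p q hpq h => ?_
  obtain ⟨h1, h2⟩ := h
  rcases h1 with h1 | h1 <;> rcases h2 with h2 | h2 <;> omega

/-- No cohomology if one of the twists is `-1`. -/
theorem van_left (b : ℤ) (n : ℕ) : Van (Coh.structureModule (QQ k)) (qc k (-1) b) n := by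
  refine van_quad k (-1) b n fun p q hpq h => ?_
  obtain ⟨h1, h2⟩ := h
  rcases h1 with h1 | h1 <;> omega

theorem van_right (a : ℤ) (n : ℕ) : Van (Coh.structureModule (QQ k)) (qc k a (-1)) n := by
  refine van_quad k a (-1) n fun p q hpq h => ?_
  obtain ⟨h1, h2⟩ := h
  rcases h2 with h2 | h2 <;> omega

theorem qc_mul (a b c d : ℤ) : qc k a b * qc k c d = qc k (a + c) (b + d) := by
  simp only [qc, zpow_add]
  exact mul_mul_mul_comm _ _ _ _

theorem van_OO_iff {a b : ℤ} {c : Pic (QQ k)} {i : ℕ} :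
    Van (OO k a b) c i ↔ Van (Coh.structureModule (QQ k)) (qc k a b * c) i := by
  rw [van_inv_iff (isInvertible_OO k a b), mk_OO]

end K700.Quad
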