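import Groth.Agent.S0002
import Groth.Agent.CurvesB.UnitCoh
import Groth.Agent.VBPn.K700.HDim
import Groth.Agent.VBPn.K700.Quad

/-!
# Dimensions of spaces of sections on `P¹ × P¹`

* `fin_zero`: `H^i(O)` is finite dimensional.
* `dm_right`, `dm_left`, `dm_one_one`: `h⁰(O(1,0)) = h⁰(O(0,1)) = 2 h⁰(O)`, `h⁰(O(1,1)) = 4 h⁰(O)`.
-/

set_option autoImplicit false
universe u

open CategoryTheory CategoryTheory.Limits AlgebraicGeometry Opposite TopologicalSpace

namespace K700.QuadDim

open Groth.Agent.Grpsch.PicGrp Groth.Agent.Lefpen.H21.PicTwist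
open K700.PicVan K700.HDim K700.Quad

variable (k : Type u) [Field k]

/-- `P¹ × P¹` over `k`. -/
noncomputable scoped instance overQQ : (QQ k).Over (Spec (CommRingCat.of k)) where
  hom := p₁ k ≫ CohB1.ProjSpace.toSpec 1 k

theorem over_def : (QQ k) ↘ Spec (CommRingCat.of k) = p₁ k ≫ CohB1.ProjSpace.toSpec 1 k := rfl

instance : IsProper ((QQ k) ↘ Spec (CommRingCat.of k)) := by
  have hp : IsProper (CohB1.ProjSpace.toSpec 1 k) := Groth.Agent.Ega3B.ProjProper.isProper_toSpec 1 k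
  rw [over_def]
  infer_instance

theorem fin_zero (i : ℕ) : Fin' k (Coh.structureModule (QQ k)) (qc k 0 0) i := by
  have h := Groth.Agent.S0002.result k (QQ k) (Coh.structureModule (QQ k))
    (Groth.Agent.CurvesB.UnitCoh.isCoh_structureModule _) i
  have e : qc k 0 0 = 1 := by simp [qc]
  rw [e, one_def, fin_mk_iff]
  exact finite_iso k (Groth.Agent.Ega2.Tens.lunit _).symm i h

theorem qc_hyp₁ (a b : ℤ) : qc k a b * hyp (p₁ k) = qc k (a + 1) b := by
  have := qc_mul k a b 1 0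
  simpa [qc] using this

theorem qc_hyp₂ (a b : ℤ) : qc k a b * hyp (p₂ k) = qc k a (b + 1) := by
  have := qc_mul k a b 0 1
  simpa [qc] using this

theorem qc_hyp₁_zpow (a b c : ℤ) : qc k a b * hyp (p₁ k) ^ c = qc k (a + c) b := by
  have := qc_mul k a b c 0
  simpa [qc] using this

theorem qc_hyp₂_zpow (a b c : ℤ) : qc k a b * hyp (p₂ k) ^ c = qc k a (b + c) := by
  have := qc_mul k a b 0 c
  simpa [qc] using this

theorem dm_left (b : ℤ) (h : Fin' k (Coh.structureModule (QQ k)) (qc k 0 b) 0) :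
    Fin' k (Coh.structureModule (QQ k)) (qc k 1 b) 0 ∧
      dm k (Coh.structureModule (QQ k)) (qc k 1 b) 0 = 2 * dm k (Coh.structureModule (QQ k)) (qc k 0 b) 0 := by
  have := dm_double k (p₁ k) (F := Coh.structureModule (QQ k)) (c := qc k 0 b) ?_ ?_ h
  · rw [qc_hyp₁] at this
    exact this
  · rw [qc_hyp₁_zpow]
    exact van_left k b 0
  · rw [qc_hyp₁_zpow]
    exact van_left k b 1

theorem dm_right (a : ℤ) (h : Fin' k (Coh.structureModule (QQ k)) (qc k a 0) 0) :
    Fin' k (Coh.structureModule (QQ k)) (qc k a 1) 0 ∧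
      dm k (Coh.structureModule (QQ k)) (qc k a 1) 0 = 2 * dm k (Coh.structureModule (QQ k)) (qc k a 0) 0 := by
  have := dm_double k (p₂ k) (F := Coh.structureModule (QQ k)) (c := qc k a 0) ?_ ?_ h
  · rw [qc_hyp₂] at this
    exact this
  · rw [qc_hyp₂_zpow]
    exact van_right k a 0
  · rw [qc_hyp₂_zpow]
    exact van_right k a 1

theorem finite_OO {a b : ℤ} {i : ℕ} (h : Fin' k (Coh.structureModule (QQ k)) (qc k a b) i) :
    Module.Finite k (Coh.HH (QQ k) (OO k a b) i) := by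
  rw [← mk_OO, fin_mk_iff] at h
  exact finite_iso k (Groth.Agent.Ega2.Tens.lunit _) i h

theorem fr_OO (a b : ℤ) (i : ℕ) :
    fr k (OO k a b) i = dm k (Coh.structureModule (QQ k)) (qc k a b) i := by
  rw [← mk_OO, dm_unit_mk]

end K700.QuadDim
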