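import Mathlib.CategoryTheory.Linear.Basic
import Mathlib.RingTheory.IntegralClosure.IsIntegral.Basic
import Mathlib.FieldTheory.Minpoly.Field
import Mathlib.CategoryTheory.Endomorphism

/-!
# Making endomorphisms invertible by adding a scalar
-/

set_option autoImplicit false

open CategoryTheory CategoryTheory.Limits

namespace K700.ScalarIso

variable {k : Type*} [Field k]

open Polynomial in
theorem isUnit_add {A : Type*} [Ring A] [Algebra k A] (b : A) (p : k[X]) (hp : aeval b p = 0) (c : k)
    (hc : p.eval (-c) ≠ 0) : IsUnit (b + algebraMap k A c) := by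
  obtain ⟨q, hq⟩ := X_sub_C_dvd_sub_C_eval (a := -c) (p := p)
  have h1 : (b + algebraMap k A c) * aeval b q = - algebraMap k A (p.eval (-c)) := by
    have := congrArg (aeval b) hq
    rw [map_sub, hp, aeval_C, zero_sub, map_mul, map_sub, aeval_X, aeval_C, map_neg, sub_neg_eq_add] at this
    exact this.symm
  have h2 : aeval b q * (b + algebraMap k A c) = - algebraMap k A (p.eval (-c)) := by
    have := congrArg (aeval b) (hq.trans (mul_comm _ _))
    rw [map_sub, hp, aeval_C, zero_sub, map_mul, map_sub, aeval_X, aeval_C, map_neg, sub_neg_eq_add] at this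
    exact this.symm
  let d : k := -(p.eval (-c))⁻¹
  have hd : (- algebraMap k A (p.eval (-c))) * algebraMap k A d = 1 := by
    rw [← map_neg, ← map_mul]
    simp only [d]
    rw [neg_mul_neg, mul_inv_cancel₀ hc, map_one]
  have hd' : algebraMap k A d * (- algebraMap k A (p.eval (-c))) = 1 := by
    rw [← map_neg, ← map_mul]
    simp only [d]
    rw [neg_mul_neg, inv_mul_cancel₀ hc, map_one]
  refine isUnit_iff_exists.2 ⟨aeval b q * algebraMap k A d, ?_, ?_⟩
  · rw [← mul_assoc, h1, hd]
  · rw [← Algebra.commutes, mul_assoc, h2, hd']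

theorem finite_not_isUnit {A : Type*} [Ring A] [Algebra k A] [Module.Finite k A] (b : A) :
    {c : k | ¬ IsUnit (b + algebraMap k A c)}.Finite := by
  have hb : IsIntegral k b := IsIntegral.of_finite k b
  have hp : minpoly k b ≠ 0 := minpoly.ne_zero hb
  have h1 : {x : k | (minpoly k b).eval x = 0}.Finite := by
    refine (Polynomial.finite_setOfPred_isRoot hp).subset fun x hx => hx
  refine Set.Finite.subset (h1.image fun x => -x) fun c hc => ⟨-c, ?_, neg_neg c⟩
  by_contra h
  exact hc (isUnit_add b _ (minpoly.aeval k b) c h)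

variable {C : Type*} [Category C] [Preadditive C] [Linear k C]

theorem finite_not_isIso (F : C) [h : Module.Finite k (F ⟶ F)] (β : F ⟶ F) :
    {c : k | ¬ IsIso (β + c • 𝟙 F)}.Finite := by
  have h' : Module.Finite k (End F) := h
  refine (finite_not_isUnit (k := k) (A := End F) (End.of β)).subset fun c hc hu => hc ?_
  rw [isUnit_iff_isIso] at hu
  rw [Algebra.algebraMap_eq_smul_one] at hu
  exact hu

end K700.ScalarIso
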