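import Groth.Agent.VBPn.K700.HomVan
import Groth.Agent.VBPn.K700.ScalarIso
import Groth.Agent.VBPn.K700.QuadDim

/-!
# Simplicity of cokernels of `O(-1,-1)^r ⟶ O(-1,0)^r ⊞ O(0,-1)^r`
-/

set_option autoImplicit false
universe u

open CategoryTheory CategoryTheory.Limits AlgebraicGeometry Opposite TopologicalSpace

namespace K700.QuadSimple

open Groth.Agent.Grpsch.PicGrp Groth.Agent.Lefpen.H21.PicTwist Groth.Agent.VarietyA.EulerLES
open K700.PicVan K700.HDim K700.Quad K700.QuadDim K700.HomVan K700.ScalarIso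

section Gen

variable (k : Type u) [Field k] {X : Scheme.{u}} [X.Over (Spec (CommRingCat.of k))]

theorem fin_of_iso {F G : X.Modules} (e : F ≅ G) {c : Pic X} {i : ℕ} (h : Fin' k F c i) : Fin' k G c i :=
  fun L hL hc => finite_iso k (Groth.Agent.Ega2.Tens.mapTIso e (Iso.refl L)) i (h L hL hc)

theorem fin_sigma {ι : Type} [Finite ι] (M : ι → X.Modules) {c : Pic X} {q : ℕ}
    (h : ∀ j, Fin' k (M j) c q) : Fin' k (∐ M) c q := by
  intro L hL hc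
  have h1 : PreservesFiniteCoproducts (DCoh.tensorRightMod L) := inferInstance
  exact finite_iso k (PreservesCoproduct.iso (DCoh.tensorRightMod L) M).symm q
    (finite_sigma k (fun j => (DCoh.tensorRightMod L).obj (M j)) q fun j => h j L hL hc)

theorem fin_tensor_iff {F L : X.Modules} (hL : PicF.IsInvertible L) {c : Pic X} {i : ℕ} :
    Fin' k (CohB1.tensorMod F L) c i ↔ Fin' k F (mk L hL * c) i := by
  induction c using ind with | _ M hM => ?_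
  rw [mk_mul_mk, fin_mk_iff, fin_mk_iff]
  exact ⟨fun h => finite_iso k (Groth.Agent.Ega2.Tens.assoc F L M) i h,
    fun h => finite_iso k (Groth.Agent.Ega2.Tens.assoc F L M).symm i h⟩

theorem fin_inv_iff {L : X.Modules} (hL : PicF.IsInvertible L) {c : Pic X} {i : ℕ} :
    Fin' k L c i ↔ Fin' k (Coh.structureModule X) (mk L hL * c) i := by
  rw [← fin_tensor_iff]
  exact ⟨fin_of_iso k (Groth.Agent.Ega2.Tens.lunit L).symm, fin_of_iso k (Groth.Agent.Ega2.Tens.lunit L)⟩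

/-- Endomorphisms of `L^r` form a finite dimensional space if `H⁰(X, O)` is finite dimensional. -/
theorem finite_end {r : ℕ} {F L : X.Modules} (e : F ≅ ∐ fun _ : Fin r => L) (hL : PicF.IsInvertible L)
    (h : Fin' k (Coh.structureModule X) 1 0) : Module.Finite k (F ⟶ F) := by
  refine finite_sigma_hom k e (finite_hom k hL ?_)
  refine fin_of_iso k e.symm (fin_sigma k _ fun _ => ?_)
  rw [fin_inv_iff k hL, mul_inv_cancel]
  exact h

end Gen

variable (k : Type u) [Field k]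

theorem qc_inv (a b : ℤ) : (qc k a b)⁻¹ = qc k (-a) (-b) := by
  rw [inv_eq_iff_mul_eq_one, qc_mul]
  simp [qc]

theorem fin_one : Fin' k (Coh.structureModule (QQ k)) 1 0 := by
  have := fin_zero k 0
  simpa [qc] using this

variable {r : ℕ} {P₁ Q₁ Q₂ : (QQ k).Modules}
  (hP₁ : Nonempty (P₁ ≅ ∐ fun _ : Fin r => OO k (-1) (-1)))
  (hQ₁ : Nonempty (Q₁ ≅ ∐ fun _ : Fin r => OO k (-1) 0))
  (hQ₂ : Nonempty (Q₂ ≅ ∐ fun _ : Fin r => OO k 0 (-1)))
  (f : P₁ ⟶ Q₁ ⊞ Q₂) [Mono f]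

theorem cokSeq_shortExact : (ShortComplex.mk f (cokernel.π f) (cokernel.condition f)).ShortExact :=
  { exact := ShortComplex.exact_cokernel f
    mono_f := inferInstance
    epi_g := by dsimp; infer_instance }

include hP₁ hQ₁ hQ₂ in
theorem exists_lift (φ : cokernel f ⟶ cokernel f) :
    ∃ (β₁ : Q₁ ⟶ Q₁) (β₂ : Q₂ ⟶ Q₂) (γ : P₁ ⟶ P₁), γ ≫ f = f ≫ biprod.map β₁ β₂ ∧
      biprod.map β₁ β₂ ≫ cokernel.π f = cokernel.π f ≫ φ := by
  obtain ⟨e₀⟩ := hP₁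
  obtain ⟨e₁⟩ := hQ₁
  obtain ⟨e₂⟩ := hQ₂
  have hS := cokSeq_shortExact k f
  obtain ⟨t₁, ht₁⟩ := sigma_lift e₁ (isInvertible_OO k (-1) 0) hS (by
    rw [mk_OO, qc_inv]
    refine van_sigma_const e₀ ?_
    rw [van_OO_iff, qc_mul]
    exact van_right k _ _) (biprod.inl ≫ cokernel.π f ≫ φ)
  obtain ⟨t₂, ht₂⟩ := sigma_lift e₂ (isInvertible_OO k 0 (-1)) hS (by
    rw [mk_OO, qc_inv]
    refine van_sigma_const e₀ ?_
    rw [van_OO_iff, qc_mul]
    exact van_left k _ _) (biprod.inr ≫ cokernel.π f ≫ φ)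
  have h12 : t₁ ≫ biprod.snd = 0 := sigma_eq_zero e₁ (isInvertible_OO k (-1) 0) (by
    rw [mk_OO, qc_inv]
    refine van_sigma_const e₂ ?_
    rw [van_OO_iff, qc_mul]
    exact van_right k _ _) _
  have h21 : t₂ ≫ biprod.fst = 0 := sigma_eq_zero e₂ (isInvertible_OO k 0 (-1)) (by
    rw [mk_OO, qc_inv]
    refine van_sigma_const e₁ ?_
    rw [van_OO_iff, qc_mul]
    exact van_left k _ _) _
  have hb1 : biprod.inl ≫ biprod.map (t₁ ≫ biprod.fst) (t₂ ≫ biprod.snd) = t₁ := by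
    rw [biprod.inl_map]
    refine biprod.hom_ext _ _ ?_ ?_
    · simp
    · simp [h12]
  have hb2 : biprod.inr ≫ biprod.map (t₁ ≫ biprod.fst) (t₂ ≫ biprod.snd) = t₂ := by
    rw [biprod.inr_map]
    refine biprod.hom_ext _ _ ?_ ?_
    · simp [h21]
    · simp
  have hβ : biprod.map (t₁ ≫ biprod.fst) (t₂ ≫ biprod.snd) ≫ cokernel.π f = cokernel.π f ≫ φ := by
    refine biprod.hom_ext' _ _ ?_ ?_
    · rw [← Category.assoc, hb1]; exact ht₁
    · rw [← Category.assoc, hb2]; exact ht₂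
  have h0 : (f ≫ biprod.map (t₁ ≫ biprod.fst) (t₂ ≫ biprod.snd)) ≫ cokernel.π f = 0 := by
    rw [Category.assoc, hβ, cokernel.condition_assoc, zero_comp]
  exact ⟨t₁ ≫ biprod.fst, t₂ ≫ biprod.snd, Abelian.monoLift f _ h0, Abelian.monoLift_comp f _ h0, hβ⟩

theorem add_smul_id_comp {C : Type*} [Category C] [Preadditive C] [Linear k C] {A B : C} (a : A ⟶ A) (b : B ⟶ B)
    (f : A ⟶ B) (h : a ≫ f = f ≫ b) (c : k) : (a + c • 𝟙 A) ≫ f = f ≫ (b + c • 𝟙 B) := by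
  simp [h]

include hP₁ hQ₁ hQ₂ in
theorem simple [Infinite k]
    (hstab : ∀ (β₁ : Q₁ ≅ Q₁) (β₂ : Q₂ ≅ Q₂) (γ : P₁ ≅ P₁), γ.hom ≫ f = f ≫ biprod.map β₁.hom β₂.hom →
      ∃ c : k, (toAbF _).map β₁.hom = Coh.smulAb Q₁ (Coh.toGlobal ((QQ k) ↘ Spec (CommRingCat.of k)) c) ∧
        (toAbF _).map β₂.hom = Coh.smulAb Q₂ (Coh.toGlobal ((QQ k) ↘ Spec (CommRingCat.of k)) c) ∧
        (toAbF _).map γ.hom = Coh.smulAb P₁ (Coh.toGlobal ((QQ k) ↘ Spec (CommRingCat.of k)) c))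
    (φ : cokernel f ⟶ cokernel f) : ∃ c : k, (toAbF _).map φ =
      Coh.smulAb (cokernel f) (Coh.toGlobal ((QQ k) ↘ Spec (CommRingCat.of k)) c) := by
  obtain ⟨β₁, β₂, γ, h1, h2⟩ := exists_lift k hP₁ hQ₁ hQ₂ f φ
  obtain ⟨e₀⟩ := hP₁
  obtain ⟨e₁⟩ := hQ₁
  obtain ⟨e₂⟩ := hQ₂
  have f0 := finite_end k e₀ (isInvertible_OO k _ _) (fin_one k)
  have f1 := finite_end k e₁ (isInvertible_OO k _ _) (fin_one k)
  have f2 := finite_end k e₂ (isInvertible_OO k _ _) (fin_one k)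
  obtain ⟨c, hc⟩ := (((finite_not_isIso (k := k) _ β₁).union (finite_not_isIso (k := k) _ β₂)).union
    (finite_not_isIso (k := k) _ γ)).exists_notMem
  simp only [Set.mem_union, Set.mem_ofPred_eq, not_or, not_not] at hc
  obtain ⟨⟨i1, i2⟩, i3⟩ := hc
  have hmap : biprod.map (β₁ + c • 𝟙 Q₁) (β₂ + c • 𝟙 Q₂) = biprod.map β₁ β₂ + c • 𝟙 (Q₁ ⊞ Q₂) := by
    refine biprod.hom_ext' _ _ ?_ ?_
    · simp
    · simp
  obtain ⟨d, d1, d2, d3⟩ := hstab (asIso (β₁ + c • 𝟙 Q₁)) (asIso (β₂ + c • 𝟙 Q₂)) (asIso (γ + c • 𝟙 P₁)) (by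
    rw [asIso_hom, asIso_hom, asIso_hom, hmap]
    exact add_smul_id_comp k γ (biprod.map β₁ β₂) f h1 c)
  have g1 : β₁ + c • 𝟙 Q₁ = d • 𝟙 Q₁ := by
    apply (toAbF _).map_injective
    rw [KLin.smul_id Q₁ d]
    exact d1
  have g2 : β₂ + c • 𝟙 Q₂ = d • 𝟙 Q₂ := by
    apply (toAbF _).map_injective
    rw [KLin.smul_id Q₂ d]
    exact d2
  have g3 : biprod.map β₁ β₂ = (d - c) • 𝟙 (Q₁ ⊞ Q₂) := by
    rw [eq_sub_of_add_eq g1, eq_sub_of_add_eq g2, ← sub_smul, ← sub_smul]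
    refine biprod.hom_ext' _ _ ?_ ?_
    · simp
    · simp
  refine ⟨d - c, ?_⟩
  have g4 : φ = (d - c) • 𝟙 (cokernel f) := by
    rw [← cancel_epi (cokernel.π f), ← h2, g3]
    simp
  rw [g4, KLin.smul_id]
  rfl

end K700.QuadSimple
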