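import Groth.Agent.VBPn.K700.QuadDim

/-!
# The kernel of `O(1,0)^r ⊞ O(0,1)^r ⟶ O(1,1)^r` on `P¹ × P¹`
-/

set_option autoImplicit false
universe u

open CategoryTheory CategoryTheory.Limits AlgebraicGeometry Opposite TopologicalSpace

namespace K700.QuadKer

open Groth.Agent.Grpsch.PicGrp Groth.Agent.Lefpen.H21.PicTwist Groth.Agent.VarietyA.EulerLES
open K700.PicVan K700.HDim K700.Quad K700.QuadDim

variable (k : Type u) [Field k] {r : ℕ} {Q₁ Q₂ P : (QQ k).Modules}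
  (hQ₁ : Nonempty (Q₁ ≅ ∐ fun _ : Fin r => OO k 1 0))
  (hQ₂ : Nonempty (Q₂ ≅ ∐ fun _ : Fin r => OO k 0 1))
  (hP : Nonempty (P ≅ ∐ fun _ : Fin r => OO k 1 1))

include hP in
theorem van_P (a b : ℤ) (i : ℕ) (h : Van (Coh.structureModule (QQ k)) (qc k (1 + a) (1 + b)) i) :
    Van P (qc k a b) i := by
  obtain ⟨e⟩ := hP
  refine van_sigma_const e ?_
  rw [van_OO_iff, qc_mul]
  exact h

include hQ₁ hQ₂ in
theorem van_Q (a b : ℤ) (i : ℕ) (h1 : Van (Coh.structureModule (QQ k)) (qc k (1 + a) b) i)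
    (h2 : Van (Coh.structureModule (QQ k)) (qc k a (1 + b)) i) : Van (Q₁ ⊞ Q₂) (qc k a b) i := by
  obtain ⟨e₁⟩ := hQ₁
  obtain ⟨e₂⟩ := hQ₂
  refine van_biprod (van_sigma_const e₁ ?_) (van_sigma_const e₂ ?_)
  · rw [van_OO_iff, qc_mul, zero_add]
    exact h1
  · rw [van_OO_iff, qc_mul, zero_add]
    exact h2

variable (m : Q₁ ⊞ Q₂ ⟶ P)

/-- The kernel sequence. -/
noncomputable abbrev kerSeq : ShortComplex (QQ k).Modules := ShortComplex.mk (kernel.ι m) m (kernel.condition m)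

theorem kerSeq_shortExact [Epi m] : (kerSeq k m).ShortExact :=
  { exact := ShortComplex.exact_kernel m
    mono_f := inferInstance
    epi_g := by dsimp; infer_instance }

theorem qc_zero : qc k 0 0 = 1 := by simp [qc]

include hQ₁ hQ₂ hP in
theorem zero (hm0 : Function.Surjective (mapA k m 0)) : Subsingleton (Coh.HH _ (kernel m) 0) := by
  have hf00 := fin_zero k 0
  obtain ⟨hf10, h10⟩ := dm_left k 0 hf00
  obtain ⟨hf01, h01⟩ := dm_right k 0 hf00
  obtain ⟨hf11, h11⟩ := dm_left k 1 hf01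
  have i10 := finite_OO k hf10
  have i01 := finite_OO k hf01
  have i11 := finite_OO k hf11
  obtain ⟨e₁⟩ := hQ₁
  obtain ⟨e₂⟩ := hQ₂
  obtain ⟨e₃⟩ := hP
  have j1 : Module.Finite k (Coh.HH _ Q₁ 0) :=
    finite_iso k e₁.symm 0 (finite_sigma k _ 0 fun _ => i10)
  have j2 : Module.Finite k (Coh.HH _ Q₂ 0) :=
    finite_iso k e₂.symm 0 (finite_sigma k _ 0 fun _ => i01)
  obtain ⟨j3, hd⟩ := fr_biprod k (F := Q₁) (G := Q₂)
  refine subsingleton_kernel k m hm0 ?_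
  rw [hd, fr_sigma_const k e₁, fr_sigma_const k e₂, fr_sigma_const k e₃, fr_OO, fr_OO, fr_OO, h10, h11,
    h01]
  ring

theorem van_one_zero {F : (QQ k).Modules} {i : ℕ} : Van F (qc k 0 0) i ↔ Subsingleton (Coh.HH _ F i) := by
  rw [qc_zero]
  exact van_one_iff

include hQ₁ hQ₂ in
theorem one [Epi m] (hm0 : Function.Surjective (mapA k m 0)) : Subsingleton (Coh.HH _ (kernel m) 1) := by
  have hS := kerSeq_shortExact k m
  have h1 : Subsingleton (Coh.HH _ (Q₁ ⊞ Q₂) 1) := by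
    rw [← van_one_zero k]
    exact van_Q k hQ₁ hQ₂ 0 0 1 (van_nonneg k _ _ 1 le_rfl (by norm_num) (by norm_num))
      (van_nonneg k _ _ 1 le_rfl (by norm_num) (by norm_num))
  refine subsingleton_of_forall_eq 0 fun x => ?_
  obtain ⟨y, rfl⟩ := (exactA₁ k (kerSeq k m) hS 0 1 rfl x).1 (h1.elim _ _)
  obtain ⟨z, rfl⟩ := hm0 y
  exact (exactA₃ k (kerSeq k m) hS 0 1 rfl _).2 ⟨z, rfl⟩

include hQ₁ hQ₂ hP in
theorem two [Epi m] (a b : ℤ) (ha : -1 ≤ a) (hb : -1 ≤ b) : Van (kernel m) (qc k a b) 2 :=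
  van₁ (kerSeq_shortExact k m) 1
    (van_P k hP a b 1 (van_nonneg k _ _ 1 le_rfl (by omega) (by omega)))
    (van_Q k hQ₁ hQ₂ a b 2 (van_nonneg k _ _ 2 (by omega) (by omega) (by omega))
      (van_nonneg k _ _ 2 (by omega) (by omega) (by omega)))

include hQ₁ hQ₂ hP in
theorem two_neg [Epi m] : Van (kernel m) (qc k (-2) (-2)) 2 :=
  van₁ (kerSeq_shortExact k m) 1
    (van_P k hP (-2) (-2) 1 (van_left k _ _))
    (van_Q k hQ₁ hQ₂ (-2) (-2) 2 (van_left k _ _) (van_right k _ _))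

include hQ₁ hQ₂ hP in
theorem one_nonneg [Epi m] (hm0 : Function.Surjective (mapA k m 0)) (a b : ℕ) :
    Van (kernel m) (qc k a b) 1 := by
  have hab : ∀ a : ℕ, Van (kernel m) (qc k a 0) 1 := by
    intro a
    induction a with
    | zero =>
      rw [Nat.cast_zero, van_one_zero]
      exact one k hQ₁ hQ₂ m hm0
    | succ a ih =>
      refine van_last (p₁ k) fun j h1 h2 => ?_
      rw [qc_hyp₁_zpow]
      obtain rfl | rfl : j = 1 ∨ j = 2 := by omega
      · have e : ((a + 1 : ℕ) : ℤ) + -((1 : ℕ) : ℤ) = a := by push_cast; ring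
        rw [e]
        exact ih
      · exact two k hQ₁ hQ₂ hP m _ _ (by omega) (by omega)
  induction b with
  | zero => exact hab a
  | succ b ih =>
    refine van_last (p₂ k) fun j h1 h2 => ?_
    rw [qc_hyp₂_zpow]
    obtain rfl | rfl : j = 1 ∨ j = 2 := by omega
    · have e : ((b + 1 : ℕ) : ℤ) + -((1 : ℕ) : ℤ) = b := by push_cast; ring
      rw [e]
      exact ih
    · exact two k hQ₁ hQ₂ hP m _ _ (by omega) (by omega)

include hQ₁ hQ₂ hP in
theorem one_neg [Epi m] (a : ℤ) (ha : a ≤ -2) :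
    Van (kernel m) (qc k a a) 1 := by
  refine van₁ (kerSeq_shortExact k m) 0 (van_P k hP a a 0 ?_) (van_Q k hQ₁ hQ₂ a a 1 ?_ ?_)
  · refine van_quad k _ _ _ fun p q hpq h => ?_
    obtain ⟨h1, h2⟩ := h
    rcases h1 with h1 | h1 <;> rcases h2 with h2 | h2 <;> omega
  · refine van_quad k _ _ _ fun p q hpq h => ?_
    obtain ⟨h1, h2⟩ := h
    rcases h1 with h1 | h1 <;> rcases h2 with h2 | h2 <;> omega
  · refine van_quad k _ _ _ fun p q hpq h => ?_
    obtain ⟨h1, h2⟩ := h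
    rcases h1 with h1 | h1 <;> rcases h2 with h2 | h2 <;> omega

include hQ₁ hQ₂ hP in
theorem one_all [Epi m] (hm0 : Function.Surjective (mapA k m 0)) (t : ℤ) :
    Van (kernel m) (qc k (2 * t) (2 * t)) 1 := by
  rcases le_or_gt 0 t with ht | ht
  · obtain ⟨n, rfl⟩ := Int.eq_ofNat_of_zero_le ht
    have := one_nonneg k hQ₁ hQ₂ hP m hm0 (2 * n) (2 * n)
    push_cast at this
    exact this
  · exact one_neg k hQ₁ hQ₂ hP m _ (by omega)

theorem van_kernel_iff {F : (QQ k).Modules} {a b : ℤ} {i : ℕ} :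
    Van F (qc k a b) i ↔ Subsingleton (Coh.HH _ (CohB1.tensorMod F (OO k a b)) i) := by
  rw [← mk_OO, van_mk_iff]

end K700.QuadKer
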