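import Groth.Agent.VBPn.K700.QuadGen

/-!
# An epimorphism `O(1,0)^r ⊞ O(0,1)^r ⟶ O(1,1)^r` onto on global sections
-/

set_option autoImplicit false
universe u

open CategoryTheory CategoryTheory.Limits AlgebraicGeometry Opposite TopologicalSpace

namespace K700.QuadEpi

open Groth.Agent.Grpsch.PicGrp Groth.Agent.Lefpen.H21.PicTwist Groth.Agent.VarietyA.EulerLES
open K700.PicVan K700.HDim K700.Quad K700.QuadDim K700.KosGen K700.MatEpi K700.QuadGen

section Gen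

variable {k : Type u} [Field k] {X : Scheme.{u}} [X.Over (Spec (CommRingCat.of k))] {r : ℕ}
  {O M10 M01 M11 : X.Modules} (x : Fin 2 → (O ⟶ M10)) (y : Fin 2 → (O ⟶ M01))
  (x' : Fin 2 → (M01 ⟶ M11)) (y' : Fin 2 → (M10 ⟶ M11)) (hxy : ∀ i j, x i ≫ y' j = y j ≫ x' i)
  (A B : Matrix (Fin r) (Fin r) k)

theorem mem_range_of_comp {M P Q : X.Modules} (m : P ⟶ Q) (s : M ⟶ P) (t : M ⟶ Q) (h : s ≫ m = t)
    (v : Coh.HH X M 0) : mapΓ t 0 v ∈ LinearMap.range (mapΓ m 0) := by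
  rw [← h, mapΓ_comp]
  exact ⟨_, rfl⟩

include hxy in
/-- The block matrix is onto on `H⁰` if the `x_i y_j` generate `H⁰`. -/
theorem surj_big (K : Matrix (Fin r) (Fin r) k) (hK : K * (A * B - B * A) = 1)
    (h10 : ∀ z : Coh.HH X M10 0, ∃ w : Fin 2 → Coh.HH X O 0, z = ∑ j, mapΓ (x j) 0 (w j))
    (h11 : ∀ z : Coh.HH X M11 0, ∃ w : Fin 2 → Coh.HH X M10 0, z = ∑ j, mapΓ (y' j) 0 (w j)) :
    Function.Surjective (mapΓ (big x' y' A B) 0) := by
  rw [← LinearMap.range_eq_top, eq_top_iff]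
  rintro z -
  have hz : z = ∑ l : Fin r, mapΓ (biproduct.π (fun _ : Fin r => M11) l ≫
      biproduct.ι (fun _ : Fin r => M11) l) 0 z := by
    have h1 := biproduct.total (f := fun _ : Fin r => M11)
    have h2 : mapΓ (𝟙 (⨁ fun _ : Fin r => M11)) 0 z = z := by rw [mapΓ_id]; rfl
    conv_lhs => rw [← h2, ← h1, ← mapAt_apply, map_sum]
    rfl
  rw [hz]
  refine Submodule.sum_mem _ fun l _ => ?_
  rw [mapΓ_comp, LinearMap.comp_apply]
  obtain ⟨w, hw⟩ := h11 (mapΓ (biproduct.π (fun _ : Fin r => M11) l) 0 z)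
  rw [hw, map_sum]
  refine Submodule.sum_mem _ fun j _ => ?_
  obtain ⟨v, hv⟩ := h10 (w j)
  rw [hv, map_sum, map_sum]
  refine Submodule.sum_mem _ fun i _ => ?_
  obtain ⟨s, hs⟩ := exists_lift_one x y x' y' hxy A B K hK i j
  have e : (biproduct.ι (fun _ : Fin r => O) l ≫ s) ≫ big x' y' A B =
      (x i ≫ y' j) ≫ biproduct.ι (fun _ : Fin r => M11) l := by
    rw [Category.assoc, hs, ι_mat_one]
  have := mem_range_of_comp (big x' y' A B) _ _ e (v i)
  rwa [mapΓ_comp, mapΓ_comp] at this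

end Gen

variable (k : Type u) [Field k]

theorem exists_epi [CharZero k] {r : ℕ} (hr : 2 ≤ r) :
    ∃ m : ((⨁ fun _ : Fin r => OO k 1 0) ⊞ (⨁ fun _ : Fin r => OO k 0 1)) ⟶ (⨁ fun _ : Fin r => OO k 1 1),
      Epi m ∧ Function.Surjective (mapΓ m 0) := by
  obtain ⟨A, B, K, hK⟩ := exists_mat (k := k) hr
  have hxy : ∀ i j : Fin 2, xm k i 0 1 0 (by norm_num) ≫ ym k j 1 0 1 (by norm_num) =
      ym k j 0 0 1 (by norm_num) ≫ xm k i 0 1 1 (by norm_num) := fun i j => xm_ym k i j _ _ _ _ _ _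
  refine ⟨big (fun i => xm k i 0 1 1 (by norm_num)) (fun j => ym k j 1 0 1 (by norm_num)) A B, ?_, ?_⟩
  · refine epi_big (fun i => xm k i 0 1 0 (by norm_num)) (fun j => ym k j 0 0 1 (by norm_num)) _ _ hxy A B K hK ?_
    intro Z h hh
    refine ym_jointly_epi k 1 0 1 (by norm_num) (van_right k _ _) h fun j => ?_
    refine xm_jointly_epi k 0 1 0 (by norm_num) (van_left k _ _) _ fun i => ?_
    rw [← Category.assoc]
    exact hh i j
  · refine surj_big (fun i => xm k i 0 1 0 (by norm_num)) (fun j => ym k j 0 0 1 (by norm_num)) _ _ hxy A B K hK ?_ ?_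
    · exact xm_exists_sum k 0 1 0 (by norm_num) (van_left k _ _)
    · exact ym_exists_sum k 1 0 1 (by norm_num) (van_right k _ _)

theorem exists_epi_coprod [CharZero k] {r : ℕ} (hr : 2 ≤ r) :
    ∃ m : ((∐ fun _ : Fin r => OO k 1 0) ⊞ (∐ fun _ : Fin r => OO k 0 1)) ⟶ (∐ fun _ : Fin r => OO k 1 1),
      Epi m ∧ Function.Surjective (mapΓ m 0) := by
  obtain ⟨m, hm, hs⟩ := exists_epi k hr
  let e₁ := biprod.mapIso (biproduct.isoCoproduct (fun _ : Fin r => OO k 1 0)).symm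
    (biproduct.isoCoproduct (fun _ : Fin r => OO k 0 1)).symm
  let e₂ := biproduct.isoCoproduct (fun _ : Fin r => OO k 1 1)
  refine ⟨e₁.hom ≫ m ≫ e₂.hom, inferInstance, ?_⟩
  rw [mapΓ_comp, mapΓ_comp]
  exact ((equivΓ e₂ 0).surjective.comp hs).comp (equivΓ e₁ 0).surjective

end K700.QuadEpi
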