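import Groth.Agent.VBPn.K700.PicVan
import Groth.Agent.Variety.K427.GGMor
import Groth.Agent.Pic13.H951.PresentX
import Groth.Agent.VarietyB.GGStalk
import Groth.Agent.Lef.K183.ProzeroF
import Groth.Agent.S1647
import Groth.Agent.S0012
import Groth.Agent.S4409
import Groth.Agent.S10868

/-!
# Castelnuovo–Mumford regularity with respect to an ample and globally generated module

* `exists_finite`: an ample, globally generated invertible module on a proper `k`-scheme defines a finite morphism.
* `isGloballyGenerated_of_van`: if `H^i(X, F ⊗ H^{-i}) = 0` for `i ≥ 1`, then `F` is globally generated.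
-/

set_option autoImplicit false
universe u

open CategoryTheory CategoryTheory.Limits AlgebraicGeometry Opposite TopologicalSpace

namespace K700.FinGG

open Groth.Agent Groth.Agent.Grpsch.PicGrp Groth.Agent.Lefpen.H21.PicTwist
open Groth.Agent.Fga.HShift K700.PicVan

variable (k : Type u) [Field k] {X : Scheme.{u}} [X.Over (Spec (CommRingCat.of k))]
  [IsProper (X ↘ Spec (CommRingCat.of k))]

include k in
theorem exists_finite {L : X.Modules} (hL : PicF.IsInvertible L) (hgen : Curv2.IsGloballyGenerated L)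
    (hamp : CohB1.IsAmple L) : ∃ (n : ℕ) (φ : X ⟶ CohB1.ProjSpace n k),
      φ ≫ CohB1.ProjSpace.toSpec n k = (X ↘ Spec (CommRingCat.of k)) ∧ IsFinite φ ∧
      hyp φ = Grpsch.PicGrp.mk L hL := by
  have hc : CompactSpace X := QuasiCompact.compactSpace_of_compactSpace (X ↘ Spec (CommRingCat.of k))
  obtain ⟨n, φ, V, h1, -, -, ⟨e⟩⟩ := K427.GGMor.exists_morphism k hL hgen 0
  have hφp : IsProper φ := by
    have : IsProper (φ ≫ CohB1.ProjSpace.toSpec n k) := by rw [h1]; infer_instance
    exact IsProper.of_comp φ (CohB1.ProjSpace.toSpec n k)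
  have hO1 := VarietyA.AmpleField.isAmple_twistProjSpace n k
  have hqf : LocallyQuasiFinite (φ ∣_ ⊤) := by
    by_contra hcon
    obtain ⟨C, y, hC, hd, hd', -, hyc, hr⟩ :=
      K427.GGMor.exists_ideal_of_not_quasiFinite k φ (CohB1.ProjSpace.toSpec n k) ⊤ hcon
    exact K427.GGMor.not_isAmple_of_contracted k φ hO1.1 hL e C.subschemeι hd' y hyc
      (by rw [Scheme.IdealSheafData.range_subschemeι]; exact hr) (Sga5.AmpleFib.isAmple_pullback _ hamp)
  have hqf' : LocallyQuasiFinite φ :=
    (IsZariskiLocalAtTarget.iff_of_iSup_eq_top (P := @LocallyQuasiFinite)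
      (fun _ : Unit => (⊤ : (CohB1.ProjSpace n k).Opens)) (by simp)).2 fun _ => hqf
  refine ⟨n, φ, h1, IsFinite.of_isProper_of_locallyQuasiFinite _, ?_⟩
  have h2 := mk_pullback_twist φ 1
  rw [zpow_one] at h2
  rw [← h2]
  exact mk_congr e

omit [X.Over (Spec (CommRingCat.of k))] [IsProper (X ↘ Spec (CommRingCat.of k))] in
theorem epi_counit {X Y : Scheme.{u}} (f : X ⟶ Y) [IsFinite f] (F : X.Modules) (hF : Coh.IsQCoh F) :
    Epi ((Scheme.Modules.pullbackPushforwardAdjunction f).counit.app F) :=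
  ((S4409.result f).1 ((S10868.result f).1 inferInstance).2).2 F hF

omit [X.Over (Spec (CommRingCat.of k))] [IsProper (X ↘ Spec (CommRingCat.of k))] in
theorem isGloballyGenerated_of_push {X Y : Scheme.{u}} (f : X ⟶ Y) [IsFinite f] (F : X.Modules)
    (hF : Coh.IsQCoh F) (h : Curv2.IsGloballyGenerated ((Scheme.Modules.pushforward f).obj F)) :
    Curv2.IsGloballyGenerated F := by
  obtain ⟨κ, p, hp⟩ := VarietyB.GGStalk.isGloballyGenerated_pullback f _ h
  exact ⟨κ, p ≫ (Scheme.Modules.pullbackPushforwardAdjunction f).counit.app F,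
    @epi_comp _ _ _ _ _ p hp _ (epi_counit f F hF)⟩

include k in
/-- Mumford's theorem: a `0`-regular coherent module is globally generated. -/
theorem isGloballyGenerated_of_van {L : X.Modules} (hL : PicF.IsInvertible L)
    (hgen : Curv2.IsGloballyGenerated L) (hamp : CohB1.IsAmple L) {F : X.Modules} (hF : Coh.IsCoh F)
    (h : ∀ i : ℕ, 1 ≤ i → Van F (Grpsch.PicGrp.mk L hL ^ (-(i : ℤ))) i) : Curv2.IsGloballyGenerated F := by
  obtain ⟨n, φ, h1, hfin, h2⟩ := exists_finite k hL hgen hamp
  have h3 : Curv2.IsMRegular k n ((Scheme.Modules.pushforward φ).obj F) 0 := by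
    intro i hi _
    have h4 := h i hi
    rw [← h2, ← mk_pullback_twist, van_mk_iff] at h4
    have e : (0 : ℤ) - (i : ℤ) = -(i : ℤ) := zero_sub _
    rw [e]
    refine subsingleton_of_iso (Pic13.H951.PresentX.pushTwist k φ F (-(i : ℤ))) i ?_
    have hq : Coh.IsQCoh (_root_.Pic13.twistOn k φ F (-(i : ℤ))) :=
      (Ega2.GlobGenCrit.isCoh_tensor hF (isInvertible_pullback_twist φ _)).1
    obtain ⟨e2⟩ := S0012.result φ (_root_.Pic13.twistOn k φ F (-(i : ℤ))) i
    exact e2.symm.toEquiv.subsingleton_congr.2 h4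
  have h5 := S1647.result k n _ (K183.ProzeroF.isCoh_push φ hF) 0 h3
  exact isGloballyGenerated_of_push φ F hF.1
    (Ega2.GlobGenCrit.isGloballyGenerated_of_iso (Sga67.CMReg.zeroIso _) h5)

end K700.FinGG
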