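import Groth.Agent.VBPn.K700.DPDim
import Groth.Agent.VBPn.K700.FinGG
import Groth.Agent.VBCurve.K704.Base
import Groth.Agent.CycB.CohProp

/-!
# Ulrich bundles on del Pezzo surfaces: the cohomological half of S18630

* `reg_two`, `reg_one`, `neg_zero`, `neg_one`: propagation of vanishing along the powers of `g^*O(1)`;
* `main`: the cokernel of `O(-2h)^r ⟶ O(-h)^{2r}` twisted by the ample, globally generated anticanonical module is an
  initialized Ulrich bundle.
-/

set_option autoImplicit false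
universe u

open CategoryTheory CategoryTheory.Limits AlgebraicGeometry Opposite TopologicalSpace

namespace K700.DPUlr

open Groth.Agent Groth.Agent.Grpsch.PicGrp Groth.Agent.Lefpen.H21.PicTwist Groth.Agent.VarietyA.EulerLES
open K700.PicVan K700.BlVan K700.BlVan.Setup K700.HDim K700.BlOne K700.DPDim

section Reg

variable {X : Scheme.{u}} {m : ℕ} {R : Type u} [CommRing R] (g : X ⟶ CohB1.ProjSpace m R) {E : X.Modules}
  (hdim : ∀ (c : Pic X) (i : ℕ), 3 ≤ i → Van E c i)

include hdim in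
theorem reg_two (h : Van E (hyp g ^ (-1 : ℤ)) 2) (t : ℕ) : Van E (hyp g ^ ((t : ℤ) - 1)) 2 := by
  induction t with
  | zero => simpa using h
  | succ t ih =>
    refine van_last g fun j hj1 _ => ?_
    rw [← zpow_add]
    rcases Nat.lt_or_ge 1 j with h1 | h1
    · exact hdim _ _ (by omega)
    · obtain rfl : j = 1 := by omega
      have e : ((t + 1 : ℕ) : ℤ) - 1 + -((1 : ℕ) : ℤ) = (t : ℤ) - 1 := by push_cast; ring
      rw [e]
      exact ih

include hdim in
theorem reg_one (h1 : Van E 1 1) (h : Van E (hyp g ^ (-1 : ℤ)) 2) (t : ℕ) : Van E (hyp g ^ (t : ℤ)) 1 := by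
  induction t with
  | zero => simpa using h1
  | succ t ih =>
    refine van_last g fun j hj1 _ => ?_
    rw [← zpow_add]
    rcases Nat.lt_or_ge 2 j with h2 | h2
    · exact hdim _ _ (by omega)
    · rcases Nat.lt_or_ge 1 j with h3 | h3
      · obtain rfl : j = 2 := by omega
        have e : ((t + 1 : ℕ) : ℤ) + -((2 : ℕ) : ℤ) = (t : ℤ) - 1 := by push_cast; ring
        rw [e]
        exact reg_two g hdim h t
      · obtain rfl : j = 1 := by omega
        have e : ((t + 1 : ℕ) : ℤ) + -((1 : ℕ) : ℤ) = (t : ℤ) := by push_cast; ring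
        rw [e]
        exact ih

theorem neg_zero (h0 : Van E 1 0) (t : ℕ) : Van E (hyp g ^ (-(t : ℤ))) 0 := by
  induction t with
  | zero => simpa using h0
  | succ t ih =>
    refine van_first g fun j hj1 _ hj => ?_
    rw [← zpow_add]
    obtain rfl : j = 1 := by omega
    have e : -((t + 1 : ℕ) : ℤ) + ((1 : ℕ) : ℤ) = -(t : ℤ) := by push_cast; ring
    rw [e]
    exact ih

theorem neg_one (h0 : Van E 1 0) (h1 : Van E 1 1) (h : Van E (hyp g ^ (-1 : ℤ)) 1) (t : ℕ) :
    Van E (hyp g ^ (-(t : ℤ))) 1 := by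
  match t with
  | 0 => simpa using h1
  | 1 => simpa using h
  | t + 2 =>
    refine van_first g fun j hj1 _ hj => ?_
    rw [← zpow_add]
    rcases Nat.lt_or_ge 1 j with h3 | h3
    · obtain rfl : j = 2 := by omega
      have e : -((t + 2 : ℕ) : ℤ) + ((2 : ℕ) : ℤ) = -(t : ℤ) := by push_cast; ring
      rw [e]
      exact neg_zero g h0 t
    · obtain rfl : j = 1 := by omega
      have e : -((t + 2 : ℕ) : ℤ) + ((1 : ℕ) : ℤ) = -((t + 1 : ℕ) : ℤ) := by push_cast; ring
      rw [e]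
      exact neg_one h0 h1 h (t + 1)

end Reg

section Count

variable (k : Type u) [Field k] {X : Scheme.{u}} [X.Over (Spec (CommRingCat.of k))]

/-- A dimension count. -/
theorem subsingleton_one {S : ShortComplex X.Modules} (hS : S.ShortExact)
    (h2 : Subsingleton (Coh.HH X S.X₂ 1)) (h3 : Subsingleton (Coh.HH X S.X₃ 2))
    (hf : Module.Finite k (Coh.HH X S.X₁ 2)) (hd : fr k S.X₁ 2 = fr k S.X₂ 2) :
    Subsingleton (Coh.HH X S.X₃ 1) := by
  have hs : Function.Surjective (mapA k S.f 2) := by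
    intro x
    exact (exactA₂ k S hS 2 x).1 (h3.elim _ _)
  have hinj : Function.Injective (mapA k S.f 2) := by
    have : Module.Finite k (Coh.HH X S.X₂ 2) := Module.Finite.of_surjective _ hs
    exact (LinearMap.injective_iff_surjective_of_finrank_eq_finrank hd).2 hs
  refine subsingleton_of_forall_eq 0 fun x => ?_
  have h4 : mapA k S.f 2 (deltaA k S hS 1 2 rfl x) = 0 := (exactA₁ k S hS 1 2 rfl _).2 ⟨x, rfl⟩
  have h5 : deltaA k S hS 1 2 rfl x = 0 := hinj (h4.trans (map_zero _).symm)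
  obtain ⟨y, rfl⟩ := (exactA₃ k S hS 1 2 rfl x).1 h5
  rw [h2.elim y 0, map_zero]

theorem van_one_of_count {S : ShortComplex X.Modules} (hS : S.ShortExact) {c : Pic X}
    (h2 : Van S.X₂ c 1) (h3 : Van S.X₃ c 2) (hf : Fin' k S.X₁ c 2) (hd : dm k S.X₁ c 2 = dm k S.X₂ c 2) :
    Van S.X₃ c 1 := by
  induction c using ind with | _ L hL => ?_
  rw [dm_mk, dm_mk] at hd
  rw [van_mk_iff] at h2 h3 ⊢
  exact subsingleton_one k (shortExact_tensor hS hL) h2 h3 ((fin_mk_iff k hL).1 hf) hd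

end Count

section Core

variable {k : Type u} [Field k] [IsAlgClosed k] {s : ℕ} {X : Scheme.{u}} [X.Over (Spec (CommRingCat.of k))]
  [IsProper (X ↘ Spec (CommRingCat.of k))] [IsIntegral X] (B : Setup k 1 s X)
  (hj : ∀ t, B.j t ≫ (X ↘ Spec (CommRingCat.of k)) = CohB1.ProjSpace.toSpec 1 k)
  (hd : topologicalKrullDim X ≤ (2 : ℕ))
  (hdim : ∀ (F : X.Modules) (c : Pic X) (i : ℕ), 3 ≤ i → Van F c i)
  {r : ℕ} {P Q : X.Modules}
  (eP : P ≅ ∐ fun _ : Fin r => (Scheme.Modules.pullback B.π).obj (Twist.twistProjSpace 2 k (-2)))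
  (eQ : Q ≅ ∐ fun _ : Fin (2 * r) => (Scheme.Modules.pullback B.π).obj (Twist.twistProjSpace 2 k (-1)))
  (f : P ⟶ Q) [Mono f]

omit [IsAlgClosed k] [X.Over (Spec (CommRingCat.of k))] [IsProper (X ↘ Spec (CommRingCat.of k))] [IsIntegral X] in
theorem shortExact : (ShortComplex.mk f (cokernel.π f) (cokernel.condition f)).ShortExact :=
  { exact := ShortComplex.exact_cokernel f }

include eQ in
omit [IsAlgClosed k] [X.Over (Spec (CommRingCat.of k))] [IsProper (X ↘ Spec (CommRingCat.of k))] [IsIntegral X]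
  [Mono f] in
theorem van_Q (c d : ℤ) (i : ℕ) (h : Van (Coh.structureModule X) (cc B (c - 1) d) i) : Van Q (cc B c d) i := by
  refine van_sigma_const eQ ((van_inv_iff (isInvertible_pullback_twist B.π (-1))).2 ?_)
  rw [BlKer.mk_pull, cc_mul, zero_add, neg_add_eq_sub]
  exact h

include eP in
omit [IsAlgClosed k] [X.Over (Spec (CommRingCat.of k))] [IsProper (X ↘ Spec (CommRingCat.of k))] [IsIntegral X]
  [Mono f] in
theorem van_P (c d : ℤ) (i : ℕ) (h : Van (Coh.structureModule X) (cc B (c - 2) d) i) : Van P (cc B c d) i := by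
  refine van_sigma_const eP ((van_inv_iff (isInvertible_pullback_twist B.π (-2))).2 ?_)
  rw [BlKer.mk_pull, cc_mul, zero_add, neg_add_eq_sub]
  exact h

include eP eQ in
omit [IsAlgClosed k] [X.Over (Spec (CommRingCat.of k))] [IsProper (X ↘ Spec (CommRingCat.of k))] [IsIntegral X] in
/-- The cokernel has no cohomology. -/
theorem van_E (i : ℕ) : Van (cokernel f) 1 i := by
  rw [← cc_zero B]
  exact van₃ (shortExact f) i (van_Q B eQ 0 0 i (BlOne.base B _ i (by omega) (by omega)))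
    (van_P B eP 0 0 _ (BlOne.base B _ _ (by omega) (by omega)))

include eQ hdim in
omit [IsAlgClosed k] [X.Over (Spec (CommRingCat.of k))] [IsProper (X ↘ Spec (CommRingCat.of k))] [IsIntegral X] in
theorem van_E_two : Van (cokernel f) (cc B 3 1) 2 := by
  refine van₃ (shortExact f) 2 (van_Q B eQ 3 1 2 ?_) (hdim _ _ _ (by omega))
  exact B.van_top le_rfl _ (by omega) _ fun t => by omega

omit [IsIntegral X] [IsAlgClosed k] in
include eQ in
theorem eu_Q (hdim : ∀ (F : X.Modules) (c : Pic X) (i : ℕ), 3 ≤ i → Van F c i) (c d : ℤ) :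
    eu k Q (cc B c d) = (2 * r : ℕ) * eu k (Coh.structureModule X) (cc B (c - 1) d) := by
  rw [eu_sigma_const k eQ (VarietyA.CurveFin.isCoh_of_isInvertible (isInvertible_pullback_twist B.π (-1)))
    (fun i hi => hdim _ _ i hi), eu_inv k (isInvertible_pullback_twist B.π (-1)), BlKer.mk_pull, cc_mul, zero_add,
    neg_add_eq_sub]

omit [IsIntegral X] [IsAlgClosed k] in
include eP in
theorem eu_P (hdim : ∀ (F : X.Modules) (c : Pic X) (i : ℕ), 3 ≤ i → Van F c i) (c d : ℤ) :
    eu k P (cc B c d) = (r : ℕ) * eu k (Coh.structureModule X) (cc B (c - 2) d) := by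
  rw [eu_sigma_const k eP (VarietyA.CurveFin.isCoh_of_isInvertible (isInvertible_pullback_twist B.π (-2)))
    (fun i hi => hdim _ _ i hi), eu_inv k (isInvertible_pullback_twist B.π (-2)), BlKer.mk_pull, cc_mul, zero_add,
    neg_add_eq_sub]

omit [X.Over (Spec (CommRingCat.of k))] [IsProper (X ↘ Spec (CommRingCat.of k))] [IsIntegral X] [IsAlgClosed k] in
theorem isCoh_sigma [IsLocallyNoetherian X] {n : ℕ} {F L : X.Modules} (e : F ≅ ∐ fun _ : Fin n => L) (hL : PicF.IsInvertible L) :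
    Coh.IsCoh F :=
  VarietyA.EulerFinite.isCoh_of_iso e.symm (CycB.CohProp.isCoh_finite_coproduct _
    fun _ => VarietyA.CurveFin.isCoh_of_isInvertible hL)

include hj hd hdim eP eQ in
theorem van_E_neg (h2 : Van (cokernel f) (cc B (-3) (-1)) 2) : Van (cokernel f) (cc B (-3) (-1)) 1 := by
  have hln : IsLocallyNoetherian X := LocallyOfFiniteType.isLocallyNoetherian (X ↘ Spec (CommRingCat.of k))
  have hP : Coh.IsCoh P := isCoh_sigma eP (isInvertible_pullback_twist B.π (-2))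
  refine van_one_of_count k (shortExact f) (van_Q B eQ (-3) (-1) 1 ?_) h2 (fin_of_isCoh k hP _ _) ?_
  · exact van_neg_one B (-4) 1 (BlOne.base B _ 1 (by omega) (by omega))
  · have p0 : Van P (cc B (-3) (-1)) 0 := van_P B eP (-3) (-1) 0
      (van_neg_one B _ 0 (BlOne.base B _ 0 (by omega) (by omega)))
    have p1 : Van P (cc B (-3) (-1)) 1 := van_P B eP (-3) (-1) 1
      (van_neg_one B _ 1 (BlOne.base B _ 1 (by omega) (by omega)))
    have q0 : Van Q (cc B (-3) (-1)) 0 := van_Q B eQ (-3) (-1) 0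
      (van_neg_one B _ 0 (BlOne.base B _ 0 (by omega) (by omega)))
    have q1 : Van Q (cc B (-3) (-1)) 1 := van_Q B eQ (-3) (-1) 1
      (van_neg_one B _ 1 (BlOne.base B _ 1 (by omega) (by omega)))
    have hp := eu_P B eP hdim (-3) (-1)
    have hq := eu_Q B eQ hdim (-3) (-1)
    rw [eu_eq k (hdim _ _), dm_of_van k p0, dm_of_van k p1] at hp
    rw [eu_eq k (hdim _ _), dm_of_van k q0, dm_of_van k q1] at hq
    have e5 : ((-3 : ℤ) - 2) = -5 := by norm_num
    have e4 : ((-3 : ℤ) - 1) = -4 := by norm_num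
    have g4 := g_neg_four B hd
    have g5 := g_neg_five B hd
    rw [g] at g4 g5
    rw [e5, eu_cls_neg_one B hj, g5] at hp
    rw [e4, eu_cls_neg_one B hj, g4] at hq
    change dm k P (cc B (-3) (-1)) 2 = dm k Q (cc B (-3) (-1)) 2
    have h : (dm k P (cc B (-3) (-1)) 2 : ℤ) = dm k Q (cc B (-3) (-1)) 2 := by
      push_cast at hp hq
      linarith
    exact_mod_cast h

include hj hd hdim eP eQ in
/-- The number of sections of `E ⊗ H`. -/
theorem dm_E (h1 : Van (cokernel f) (cc B 3 1) 1) : (dm k (cokernel f) (cc B 3 1) 0 : ℤ) = (9 - s) * r := by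
  have hln : IsLocallyNoetherian X := LocallyOfFiniteType.isLocallyNoetherian (X ↘ Spec (CommRingCat.of k))
  have hP : Coh.IsCoh P := isCoh_sigma eP (isInvertible_pullback_twist B.π (-2))
  have hQ : Coh.IsCoh Q := isCoh_sigma eQ (isInvertible_pullback_twist B.π (-1))
  have hE : Coh.IsCoh (cokernel f) := CycB.CohProp.isCoh_cokernel f hP hQ
  have h := eu_add k (shortExact f) hP hQ hE (cc B 3 1)
  change eu k Q (cc B 3 1) = eu k P (cc B 3 1) + eu k (cokernel f) (cc B 3 1) at h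
  rw [eu_P B eP hdim, eu_Q B eQ hdim, eu_eq k (hdim (cokernel f) _), dm_of_van k h1,
    dm_of_van k (van_E_two B hdim eQ f)] at h
  have e1 : ((3 : ℤ) - 2) = 1 := by norm_num
  have e2 : ((3 : ℤ) - 1) = 2 := by norm_num
  have g1 := g_one B hd
  have g2 := g_two B hd
  rw [g] at g1 g2
  rw [e1, e2, eu_cls_one B hj, eu_cls_one B hj, g1, g2] at h
  push_cast at h
  linarith

end Core

section Main

open BlowUp Scheme.IdealSheafData

theorem main (k : Type u) [Field k] [IsAlgClosed k]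
    (s : ℕ) (hs : s ≤ 9) (P : Fin s → ↥(CohB1.ProjSpace 2 k)) (hP : Function.Injective P)
    (hPc : ∀ i, IsClosed ({P i} : Set ↥(CohB1.ProjSpace 2 k))) (hZ : IsClosed (Set.range P))
    (X : Scheme.{u}) [X.Over (Spec (CommRingCat.of k))] (π : X ⟶ CohB1.ProjSpace 2 k)
    (hπk : π ≫ CohB1.ProjSpace.toSpec 2 k = X ↘ (Spec (CommRingCat.of k)))
    (hπ : BlowUp.IsBlowUp π (Scheme.IdealSheafData.vanishingIdeal ⟨Set.range P, hZ⟩))
    (Hm Hi : X.Modules)
    (hHm : Nonempty (Hm ≅ CohB1.tensorMod ((Scheme.Modules.pullback π).obj (Twist.twistProjSpace 2 k 3))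
      (ClSub.idealMod (BlowUp.exceptional π (Scheme.IdealSheafData.vanishingIdeal ⟨Set.range P, hZ⟩)))))
    (hHi : ClSub.IsInverseOf Hi Hm)
    (hgg : Curv2.IsGloballyGenerated Hm) (hamp : CohB1.IsAmple Hm)
    (r : ℕ) (P₁ Q₁ : X.Modules)
    (hP₁ : Nonempty (P₁ ≅ ∐ fun _ : Fin r => (Scheme.Modules.pullback π).obj (Twist.twistProjSpace 2 k (-2))))
    (hQ₁ : Nonempty (Q₁ ≅ ∐ fun _ : Fin (2 * r) => (Scheme.Modules.pullback π).obj (Twist.twistProjSpace 2 k (-1))))
    (f : P₁ ⟶ Q₁) [Mono f]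
    (hE2 : Subsingleton (Coh.HH X (CohB1.tensorMod (cokernel f) Hi) 2)) :
    Subsingleton (Coh.HH X (cokernel f) 0) ∧
    (∀ t : ℕ, Subsingleton (Coh.HH X (CohB1.tensorMod (cokernel f) (CohB1.tensorPow Hm t)) 1) ∧
      Subsingleton (Coh.HH X (CohB1.tensorMod (cokernel f) (CohB1.tensorPow Hi t)) 1)) ∧
    Module.finrank k (Coh.HH X (CohB1.tensorMod (cokernel f) Hm) 0) = (9 - s) * r ∧
    (∃ (N : ℕ) (ψ : FlatMod.freeMod X N ⟶ CohB1.tensorMod (cokernel f) Hm), Epi ψ) := by
  have hint : IsIntegral X := BlSetup.isIntegral (r := 1) hPc hZ π hπ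
  have hprπ : IsProper π := BlQ.isProper (r := 1) hZ π hπ
  have hpr2 : IsProper (CohB1.ProjSpace.toSpec 2 k) := Groth.Agent.Ega3B.ProjProper.isProper_toSpec 2 k
  have hpr : IsProper (X ↘ (Spec (CommRingCat.of k))) := by rw [← hπk]; infer_instance
  have hln : IsLocallyNoetherian X := LocallyOfFiniteType.isLocallyNoetherian (X ↘ Spec (CommRingCat.of k))
  have hd : topologicalKrullDim X ≤ (2 : ℕ) := BlKer.dim_le (r := 1) hPc hZ π hπ
  have hdim : ∀ (F : X.Modules) (c : Pic X) (i : ℕ), 3 ≤ i → Van F c i := fun F c i hi =>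
    BlKer.van_dim (r := 1) hPc hZ π hπ F c i (by omega)
  obtain ⟨B, rfl, -, hjp, -, hI, he⟩ := exists_setup_exc (r := 1) hP hPc hZ π hπ
  have hj : ∀ t, B.j t ≫ (X ↘ Spec (CommRingCat.of k)) = CohB1.ProjSpace.toSpec 1 k := by
    intro t
    have h1 := (hjp t).w
    have h2 : BlSetup.sec hPc t ≫ CohB1.ProjSpace.toSpec (1 + 1) k = 𝟙 _ := BlSetup.sec_comp hPc t
    rw [← hπk]
    change B.j t ≫ B.π ≫ CohB1.ProjSpace.toSpec (1 + 1) k = _
    rw [← Category.assoc, h1, Category.assoc, h2, Category.comp_id]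
  obtain ⟨e1⟩ := hHm
  have hT := isInvertible_pullback_twist B.π 3
  have hH : PicF.IsInvertible Hm := isInvertible_of_iso e1 (Fdesc.LocGen.isInvertible_tensorMod hT hI)
  have hm : Grpsch.PicGrp.mk _ hH = cc B 3 1 := by
    rw [(mk_eq_iff hH (Fdesc.LocGen.isInvertible_tensorMod hT hI)).2 ⟨e1⟩, ← mk_mul_mk hT hI, he, BlKer.mk_pull, cc_mul]
    norm_num
  obtain ⟨hHi', hm'⟩ := exists_mk_inverse hH hHi
  obtain ⟨n, φ, -, -, hφ⟩ := FinGG.exists_finite k hH hgg hamp
  obtain ⟨eP⟩ := hP₁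
  obtain ⟨eQ⟩ := hQ₁
  have hcP : Coh.IsCoh P₁ := isCoh_sigma eP (isInvertible_pullback_twist B.π (-2))
  have hcQ : Coh.IsCoh Q₁ := isCoh_sigma eQ (isInvertible_pullback_twist B.π (-1))
  have hcE : Coh.IsCoh (cokernel f) := CycB.CohProp.isCoh_cokernel f hcP hcQ
  have hE : ∀ i, Van (cokernel f) 1 i := van_E B eP eQ f
  rw [← van_mk_iff hHi', hm'] at hE2
  have hneg2 : Van (cokernel f) (hyp φ ^ (-1 : ℤ)) 2 := by
    rw [hφ, zpow_neg_one]
    exact hE2
  have hneg1 : Van (cokernel f) (hyp φ ^ (-1 : ℤ)) 1 := by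
    have h2 : Van (cokernel f) (cc B (-3) (-1)) 2 := by
      rw [← cc_inv, ← hm]
      exact hE2
    rw [hφ, zpow_neg_one, hm, cc_inv]
    exact van_E_neg B hj hd hdim eP eQ f h2
  have hdE := hdim (cokernel f)
  have hpos : ∀ t : ℕ, Van (cokernel f) (Grpsch.PicGrp.mk _ hH ^ t) 1 := by
    intro t
    have h := reg_one φ hdE (hE 1) hneg2 t
    rwa [hφ, zpow_natCast] at h
  have hneg : ∀ t : ℕ, Van (cokernel f) (Grpsch.PicGrp.mk _ hHi' ^ t) 1 := by
    intro t
    have h := DPUlr.neg_one φ (hE 0) (hE 1) hneg1 t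
    rwa [hφ, zpow_neg, zpow_natCast, ← inv_pow, ← hm'] at h
  refine ⟨van_one_iff.1 (hE 0), fun t => ⟨(van_pow_iff hH t 1).1 (hpos t), (van_pow_iff hHi' t 1).1 (hneg t)⟩, ?_, ?_⟩
  · have h1 := hpos 1
    rw [pow_one, hm] at h1
    have h2 := dm_E B hj hd hdim eP eQ f h1
    rw [← hm, dm_mk] at h2
    zify [hs]
    exact_mod_cast h2
  · have hgg2 := FinGG.isGloballyGenerated_of_van k hH hgg hamp (F := CohB1.tensorMod (cokernel f) Hm)
      (isCoh_tensor hcE hH) (by
        intro i hi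
        rw [van_tensor_iff hH]
        rcases Nat.lt_or_ge 2 i with h3 | h3
        · exact hdim _ _ _ h3
        · rcases Nat.lt_or_ge 1 i with h4 | h4
          · obtain rfl : i = 2 := by omega
            have e : Grpsch.PicGrp.mk Hm hH * Grpsch.PicGrp.mk Hm hH ^ (-((2 : ℕ) : ℤ)) = hyp φ ^ (-1 : ℤ) := by
              rw [hφ, ← zpow_one_add]
              norm_num
            rw [e]
            exact hneg2
          · obtain rfl : i = 1 := by omega
            have e : Grpsch.PicGrp.mk Hm hH * Grpsch.PicGrp.mk Hm hH ^ (-((1 : ℕ) : ℤ)) = 1 := by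
              rw [← zpow_one_add]
              norm_num
            rw [e]
            exact hE 1)
    have hc : CompactSpace X := QuasiCompact.compactSpace_of_compactSpace (X ↘ (Spec (CommRingCat.of k)))
    exact Sga67.SerreVB.exists_epi_freeMod (isCoh_tensor hcE hH) hgg2

end Main

end K700.DPUlr
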