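import Groth.Agent.VBPn.K700.BlBase
import Groth.Agent.Krr.H496.ExcBundle
import Groth.Agent.Krr.H484.PBCharts
import Groth.Agent.Krr.H478.SectSmooth
import Groth.Agent.Sga5.ProjSmooth
import Groth.Agent.Models.EtRadical
import Groth.Agent.Ega3B.ProjProper
import Groth.Agent.Lefpen.H717.ProjIrr
import Groth.Agent.S1680
import Groth.Agent.S2348
import Groth.Agent.Ega1.ReducedSub

/-!
# The blow-up of a smooth variety over `k` in finitely many rational points

* `locReg_points`: the ideal of the reduced finite set of points is locally generated by regular sequences;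
* `exists_exc`: the exceptional divisor over a point is `P^{n-1}`, with conormal module `O(1)`.
-/

set_option autoImplicit false
universe u

open CategoryTheory CategoryTheory.Limits AlgebraicGeometry Opposite TopologicalSpace

namespace K700.BlPts

open Groth.Agent K700.BlBase BlowUp Groth.Agent.Krr.H470.BlowMain Scheme.IdealSheafData

section Ideals

variable {Y : Scheme.{u}}

/-- Vanishing ideals agree where the closed sets agree. -/
theorem ideal_vanishing_congr (Z Z' : Closeds Y) (V : Y.affineOpens) (h : ∀ x ∈ V.1, x ∈ Z ↔ x ∈ Z') :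
    (vanishingIdeal Z).ideal V = (vanishingIdeal Z').ideal V := by
  rw [vanishingIdeal_ideal, vanishingIdeal_ideal]
  congr 1
  ext y
  have hy : V.2.fromSpec y ∈ V.1 := by
    have : V.2.fromSpec y ∈ Set.range V.2.fromSpec := ⟨y, rfl⟩
    rwa [V.2.range_fromSpec] at this
  exact h _ hy

theorem comap_vanishing_congr [IsLocallyNoetherian Y] (Z Z' : Closeds Y) (U : Y.Opens)
    (h : ∀ x ∈ U, x ∈ Z ↔ x ∈ Z') :
    (vanishingIdeal Z).comap U.ι = (vanishingIdeal Z').comap U.ι := by
  rw [Models.EtRadical.comap_vanishingIdeal, Models.EtRadical.comap_vanishingIdeal]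
  congr 1
  ext y
  exact h _ y.2

/-- The kernel of a section with image a closed point. -/
theorem ker_point {K : Type u} [Field K] (σ : Spec (CommRingCat.of K) ⟶ Y) [QuasiCompact σ] (x : Y) (hx : IsClosed ({x} : Set Y))
    (hσ : ∀ z, σ z = x) : σ.ker = vanishingIdeal ⟨{x}, hx⟩ := by
  rw [Ega1.ReducedSub.ker_eq_vanishingIdeal]
  congr 1
  ext1
  have h1 : Set.range σ = {x} := by
    ext y
    constructor
    · rintro ⟨z, rfl⟩
      exact hσ z
    · rintro rfl
      exact ⟨IsLocalRing.closedPoint K, hσ _⟩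
  change closure (Set.range σ) = {x}
  rw [h1, hx.closure_eq]

end Ideals

section Points

variable {K : Type u} [Field K] {Y : Scheme.{u}} {n : ℕ} (p : Y ⟶ Spec (CommRingCat.of K))
  [SmoothOfRelativeDimension n p] [IsSeparated p]

omit [SmoothOfRelativeDimension n p] in
theorem isClosedImmersion_section (σ : Spec (CommRingCat.of K) ⟶ Y) (hσ : σ ≫ p = 𝟙 _) :
    IsClosedImmersion σ := by
  have : IsClosedImmersion (σ ≫ p) := by rw [hσ]; infer_instance
  exact IsClosedImmersion.of_comp σ p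

/-- The ideal of finitely many rational points is locally generated by regular sequences. -/
theorem locReg_points [IsIntegral Y] (hn : 1 ≤ n) {s : ℕ} (P : Fin s → Y) (hPc : ∀ i, IsClosed ({P i} : Set Y))
    (hZ : IsClosed (Set.range P)) (σ : Fin s → (Spec (CommRingCat.of K) ⟶ Y)) (hσ : ∀ t, σ t ≫ p = 𝟙 _)
    (hP : ∀ t z, σ t z = P t) : LocReg (vanishingIdeal (⟨Set.range P, hZ⟩ : Closeds Y)) := by
  intro x W hx
  by_cases hxP : x ∈ Set.range P
  · obtain ⟨t, rfl⟩ := hxP
    let T : Set Y := ⋃ t' ∈ {t' : Fin s | P t' ≠ P t}, {P t'}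
    have hT : IsClosed T := Set.Finite.isClosed_biUnion (Set.toFinite _) fun t' _ => hPc t'
    let U : Y.Opens := ⟨Tᶜ, hT.isOpen_compl⟩
    have hxU : P t ∈ U := by
      intro h
      simp only [T, Set.mem_iUnion, Set.mem_singleton_iff, Set.mem_ofPred_eq] at h
      obtain ⟨t', h1, h2⟩ := h
      exact h1 h2.symm
    have hci := isClosedImmersion_section p (σ t) (hσ t)
    have hreg := Krr.H478.SectSmooth.isRegularClosedImmersion n p (σ t) (hσ t)
    have hC := Krr.H478.SectSmooth.isFinLocFreeOfRank_conormal n p (σ t) (hσ t)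
    obtain ⟨V, hxV, hVW, m, a, hm, ha, ha0, hr⟩ := exists_adapted (σ t) hreg hn hC (P t) (W ⊓ U) ⟨hx, hxU⟩
    refine ⟨V, hxV, hVW.trans inf_le_left, m, a, hm, ?_, ha0, hr⟩
    rw [← ha, ker_point (σ t) (P t) (hPc t) (hP t)]
    refine ideal_vanishing_congr _ _ V fun y hy => ?_
    constructor
    · rintro ⟨t', rfl⟩
      by_contra h3
      exact (hVW hy).2 (Set.mem_biUnion (x := t') h3 rfl)
    · intro (h3 : y = P t)
      exact ⟨t, h3.symm⟩
  · let W' : Y.Opens := ⟨(Set.range P)ᶜ, hZ.isOpen_compl⟩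
    obtain ⟨V, hxV, hVW', hVW⟩ := Divis.CartierBasic.exists_affine_le W' W hxP hx
    have hVne : Nonempty V.1 := ⟨⟨x, hxV⟩⟩
    refine ⟨V, hxV, hVW, 1, fun _ => 1, Nat.one_pos, ?_, fun _ => one_ne_zero, ?_⟩
    · rw [Flat2C.EtaleCentre.ideal_eq_top_of_disjoint (vanishingIdeal (⟨Set.range P, hZ⟩ : Closeds Y)) V
        fun x hxV' hxs => hVW' hxV' hxs]
      rw [Set.range_const, Ideal.span_singleton_one]
    · have : List.ofFn (fun _ : Fin 1 => (1 : Γ(Y, V.1))) = [1] := by simp
      rw [this, RingTheory.Sequence.isWeaklyRegular_singleton_iff]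
      exact IsSMulRegular.one _

variable {r : ℕ} {X : Scheme.{u}} (b : X ⟶ Y) (p' : Y ⟶ Spec (CommRingCat.of K))
  [SmoothOfRelativeDimension (r + 1) p'] [IsSeparated p']

/-- The exceptional divisor over a rational point, for the blow-up of the reduced point. -/
theorem exists_exc_aux (σ : Spec (CommRingCat.of K) ⟶ Y) (hσ : σ ≫ p' = 𝟙 _) (hb : IsBlowUp b σ.ker) :
    ∃ j : CohB1.ProjSpace r K ⟶ X, IsPullback j (CohB1.ProjSpace.toSpec r K) b σ ∧
      Nonempty ((Scheme.Modules.pullback j).obj (ClSub.idealMod (σ.ker.comap b)) ≅ Twist.twistProjSpace r K 1) := by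
  have hci := isClosedImmersion_section p' σ hσ
  have hreg := Krr.H478.SectSmooth.isRegularClosedImmersion (r + 1) p' σ hσ
  have hsq : IsPullback (pullback.fst b σ) (pullback.snd b σ) b σ := IsPullback.of_hasPullback b σ
  have B := Krr.H496.ExcBundle.isProjBundle_exc hreg hb hsq
  let y : (Spec (CommRingCat.of K) : Scheme.{u}) := IsLocalRing.closedPoint K
  obtain ⟨c, hc, hcl⟩ := Krr.H478.SectSmooth.exists_chart_of_section (r + 1) p' σ hσ y
  have hy : ∀ z : (Spec (CommRingCat.of K) : Scheme.{u}), z = y := fun z =>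
    Subsingleton.elim (α := PrimeSpectrum K) z y
  have hV : c.V = ⊤ := by
    rw [eq_top_iff]
    intro z _
    rw [hy z]
    exact hc
  have hbasis := Sga67.KosConormal.isLocBasis_fN c
  have key : ∀ (V : (Spec (CommRingCat.of K) : Scheme.{u}).Opens) (hV : V = ⊤)
      (b : Fin c.l.length → Sga67.Sec.Sec (Omega.conormal σ) V), Sga67.LocBasis.IsLocBasis b →
      Nonempty (Omega.conormal σ ≅ FlatMod.freeMod (Spec (CommRingCat.of K)) c.l.length) := by
    rintro V rfl b hb
    exact Sga67.LocBasis.nonempty_iso_free hb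
  obtain ⟨e⟩ := key _ hV _ hbasis
  rw [hcl] at e
  obtain ⟨j, hj, ⟨ej⟩⟩ := Krr.H484.PBCharts.exists_chart B (𝟙 (Spec (CommRingCat.of K)))
    ((Scheme.Modules.pullbackId _).app _ ≪≫ e)
  have h5 := hj.paste_horiz hsq
  rw [Category.id_comp] at h5
  refine ⟨j ≫ pullback.fst b σ, h5, ⟨?_⟩⟩
  rw [← Sga67.BlowReg.ker_of_isPullback hsq]
  exact ((Scheme.Modules.pullbackComp j (pullback.fst b σ)).app _).symm ≪≫ ej

theorem exists_exc [IsLocallyNoetherian Y] (σ : Spec (CommRingCat.of K) ⟶ Y) (hσ : σ ≫ p' = 𝟙 _)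
    (J : Y.IdealSheafData) (U : Y.Opens) (hU : ∀ z, σ z ∈ U) (hJ : J.comap U.ι = σ.ker.comap U.ι)
    (hb : IsBlowUp b J) (hI : IsEffCartierIdeal (σ.ker.comap b)) :
    ∃ j : CohB1.ProjSpace r K ⟶ X, IsPullback j (CohB1.ProjSpace.toSpec r K) b σ ∧
      Nonempty ((Scheme.Modules.pullback j).obj (ClSub.idealMod (σ.ker.comap b)) ≅ Twist.twistProjSpace r K 1) := by
  have hci := isClosedImmersion_section p' σ hσ
  have hr : Set.range σ ⊆ Set.range U.ι := by
    rintro _ ⟨z, rfl⟩
    rw [Scheme.Opens.range_ι]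
    exact hU z
  let σ' : Spec (CommRingCat.of K) ⟶ U.toScheme := IsOpenImmersion.lift U.ι σ hr
  have hσ' : σ' ≫ U.ι = σ := IsOpenImmersion.lift_fac _ _ _
  have hsq : IsPullback σ' (𝟙 _) U.ι σ := by
    refine IsPullback.of_isLimit' ⟨by rw [hσ', Category.id_comp]⟩ (PullbackCone.IsLimit.mk _ (fun c => c.snd)
      (fun c => ?_) (fun c => Category.comp_id _) (fun c m h1 h2 => ?_))
    · rw [← cancel_mono U.ι, Category.assoc, hσ']
      exact c.condition.symm
    · rw [← h2]
      exact (Category.comp_id _).symm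
  have hker : σ'.ker = σ.ker.comap U.ι := Sga67.BlowReg.ker_of_isPullback hsq
  have hb' : IsBlowUp (pullback.fst U.ι b) σ'.ker := by
    rw [hker, ← hJ]
    exact S1680.result U.ι J b hb
  have hsm : SmoothOfRelativeDimension (r + 1) (U.ι ≫ p') := by
    have h : SmoothOfRelativeDimension (0 + (r + 1)) (U.ι ≫ p') := inferInstance
    rwa [zero_add] at h
  obtain ⟨j, hj, ⟨e⟩⟩ := exists_exc_aux (r := r) (pullback.fst U.ι b) (U.ι ≫ p') σ'
    (by rw [← Category.assoc, hσ', hσ]) hb'
  have h1 : IsPullback (j ≫ pullback.snd U.ι b) (CohB1.ProjSpace.toSpec r K) b (σ' ≫ U.ι) :=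
    hj.paste_horiz (IsPullback.of_hasPullback U.ι b).flip
  rw [hσ'] at h1
  refine ⟨_, h1, ?_⟩
  have hc : (σ.ker.comap b).comap (pullback.snd U.ι b) = σ'.ker.comap (pullback.fst U.ι b) := by
    rw [hker, ← comap_comp, ← comap_comp, pullback.condition]
  have hE : IsEffCartierIdeal ((σ.ker.comap b).comap (pullback.snd U.ι b)) := by
    rw [hc]
    exact hb'.1
  obtain ⟨e2⟩ := Dix.IdealModCartier.pullback_idealMod (pullback.snd U.ι b) hI hE
  rw [hc] at e2
  exact ⟨((Scheme.Modules.pullbackComp j (pullback.snd U.ι b)).app _).symm ≪≫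
    (Scheme.Modules.pullback j).mapIso e2 ≪≫ e⟩

end Points

section Product

open Divis.CartierBasic

variable {Y : Scheme.{u}}

theorem stalkIdeal_prod {ι : Type*} (s : Finset ι) (I : ι → Y.IdealSheafData) (x : Y) :
    stalkIdeal (∏ i ∈ s, I i) x = ∏ i ∈ s, stalkIdeal (I i) x := by
  classical
  induction s using Finset.induction_on with
  | empty =>
    rw [Finset.prod_empty, Finset.prod_empty, Ideal.one_eq_top]
    exact stalkIdeal_top x
  | insert a s ha ih => rw [Finset.prod_insert ha, Finset.prod_insert ha, stalkIdeal_mul, ih]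

theorem mem_support_vanishingIdeal {Z : Closeds Y} {x : Y} : x ∈ (vanishingIdeal Z).support ↔ x ∈ Z := Iff.rfl

theorem vanishing_eq_prod {s : ℕ} (P : Fin s → Y) (hP : Function.Injective P) (hPc : ∀ i, IsClosed ({P i} : Set Y))
    (hZ : IsClosed (Set.range P)) :
    vanishingIdeal (⟨Set.range P, hZ⟩ : Closeds Y) = ∏ t, vanishingIdeal (⟨{P t}, hPc t⟩ : Closeds Y) := by
  refine ext_stalkIdeal fun x => ?_
  rw [stalkIdeal_prod]
  have htop : ∀ t, x ≠ P t → stalkIdeal (vanishingIdeal (⟨{P t}, hPc t⟩ : Closeds Y)) x = 1 := by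
    intro t ht
    rw [Ideal.one_eq_top, ← notMem_support_iff_stalkIdeal_eq_top]
    exact ht
  by_cases hx : x ∈ Set.range P
  · obtain ⟨t, rfl⟩ := hx
    rw [Finset.prod_eq_single t (fun t' _ ht => htop t' fun h => ht (hP h).symm) (by simp)]
    let T : Set Y := ⋃ t' ∈ {t' : Fin s | t' ≠ t}, {P t'}
    have hT : IsClosed T := Set.Finite.isClosed_biUnion (Set.toFinite _) fun t' _ => hPc t'
    have hxU : P t ∉ T := by
      intro h
      simp only [T, Set.mem_iUnion, Set.mem_singleton_iff, Set.mem_ofPred_eq] at h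
      obtain ⟨t', h1, h2⟩ := h
      exact h1 (hP h2.symm)
    obtain ⟨V, hxV, hVT, -⟩ := exists_affine_le (⟨Tᶜ, hT.isOpen_compl⟩ : Y.Opens) ⊤ (x := P t) hxU trivial
    rw [stalkIdeal_eq _ V hxV, stalkIdeal_eq _ V hxV, ideal_vanishing_congr _ ⟨{P t}, hPc t⟩ V fun y hy => ?_]
    constructor
    · rintro ⟨t', rfl⟩
      by_contra h3
      refine hVT hy (Set.mem_biUnion (x := t') (show t' ≠ t from ?_) rfl)
      rintro rfl
      exact h3 rfl
    · intro (h3 : y = P t)
      exact ⟨t, h3.symm⟩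
  · rw [Finset.prod_eq_one fun t _ => htop t fun h => hx ⟨t, h.symm⟩, Ideal.one_eq_top,
      ← notMem_support_iff_stalkIdeal_eq_top]
    exact hx

end Product

end K700.BlPts
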