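import Groth.Agent.Krr.H470.BlowMain
import Groth.Agent.CohqA.LerayBasis
import Groth.Agent.CohqA.HOpen
import Groth.Agent.VarietyB.ProjForm
import Groth.Agent.Fdesc.LocGenPullback
import Groth.Agent.Fdesc.LocGenTensor
import Groth.Agent.VarietyA.EulerLES
import Groth.Agent.Fga.HShift
import Groth.Agent.Ega2.QCohLocal

/-!
# Cohomology of pulled back invertible modules on a blow-up

`nonempty_equiv`: `H^i(X', b^*L) ≃+ H^i(X, L)` for the blow-up `b : X' ⟶ X` of an integral scheme in an ideal which is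
locally generated by regular sequences.
-/

set_option autoImplicit false
universe u

open CategoryTheory CategoryTheory.Limits AlgebraicGeometry Opposite TopologicalSpace

namespace K700.BlBase

open Groth.Agent Groth.Agent.Fdesc.LocGen Groth.Agent.Krr.H470.BlowMain BlowUp

variable {X : Scheme.{u}}

theorem restrict_triv {M : X.Modules} {U : X.Opens} (e : Γ(M, U)) (he : IsGen e) :
    Nonempty (M.restrict U.ι ≅ Coh.structureModule U.toScheme) := by
  have hU : U.ι ''ᵁ ⊤ ≤ U := by simp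
  have h1 : IsGen (toRestrict (M := M) U.ι (U := ⊤) (res M hU e)) :=
    (isGen_toRestrict_iff _ _).mpr (he.res hU)
  have : IsIso (homOf (toRestrict (M := M) U.ι (U := ⊤) (res M hU e))) := by
    rw [isIso_iff_isGen, sec_homOf]
    simpa using h1
  exact ⟨(asIso (homOf (toRestrict (M := M) U.ι (U := ⊤) (res M hU e)))).symm⟩

/-- The cohomology over `U` of a module with a generator over `U`. -/
theorem subsingleton_HU_of_isGen {M : X.Modules} {U : X.Opens} (e : Γ(M, U)) (he : IsGen e) (n : ℕ)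
    (h : Subsingleton (CohTop.HU (X := X.toTopCat) (Coh.toAb (Coh.structureModule X)) n U)) :
    Subsingleton (CohTop.HU (X := X.toTopCat) (Coh.toAb M) n U) := by
  obtain ⟨e1⟩ := restrict_triv e he
  obtain ⟨e2⟩ := restrict_triv (one (X := X) U) (isGen_one U)
  have h1 : Subsingleton (Coh.HH U.toScheme ((Coh.structureModule X).restrict U.ι) n) :=
    (CohqA.HOpen.HHEquiv U.ι (Coh.structureModule X) U (by simp) n).symm.toEquiv.subsingleton
  have h2 : Subsingleton (Coh.HH U.toScheme (M.restrict U.ι) n) :=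
    Fga.HShift.subsingleton_of_iso (e2 ≪≫ e1.symm) n h1
  exact (CohqA.HOpen.HHEquiv U.ι M U (by simp) n).toEquiv.subsingleton

theorem hasBases_of_isInvertible {E : X.Modules} (hE : PicF.IsInvertible E) :
    VarietyB.TensCoh.HasBases E :=
  VarietyB.TensCoh.HasBases.of_isFinLocFree
    (Ega2.QCohLocal.isFinLocFree_of_rank (Ega2.QCohLocal.isFinLocFreeOfRank_one_iff.2 hE))

/-- The ideal `J` is locally generated by (nonempty, weakly) regular sequences. -/
def LocReg (J : X.IdealSheafData) : Prop :=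
  ∀ (x : X) (W : X.Opens), x ∈ W → ∃ V : X.affineOpens, x ∈ V.1 ∧ V.1 ≤ W ∧ Adapted J V

variable {X' : Scheme.{u}} [IsIntegral X] [IsIntegral X'] (b : X' ⟶ X) {J : X.IdealSheafData}

theorem isIso_unitToPush (hb : IsBlowUp b J) (hJ : LocReg J) :
    IsIso (Fga.UnitRestrict.unitToPush b) := by
  refine Sga67.LocBasis.isIso_of_bijective _ fun x U hx => ?_
  obtain ⟨V, hxV, hVU, ⟨n, a, hn, ha, ha0, hreg⟩⟩ := hJ x U hx
  exact ⟨V.1, hVU, hxV, (Krr.H470.BlowAff.affine_case b J V hb ⟨x, hxV⟩ a hn ha ha0 hreg).2⟩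

theorem nonempty_equiv (hb : IsBlowUp b J) (hJ : LocReg J) {L : X.Modules} (hL : PicF.IsInvertible L) (i : ℕ) :
    Nonempty (Coh.HH X' ((Scheme.Modules.pullback b).obj L) i ≃+ Coh.HH X L i) := by
  have hiso := isIso_unitToPush b hb hJ
  let e : (Scheme.Modules.pushforward b).obj ((Scheme.Modules.pullback b).obj L) ≅ L :=
    (VarietyB.ProjForm.projIsoUnit b (hasBases_of_isInvertible hL)).symm ≪≫
      Ega2.Tens.mapTIso (Iso.refl L) (asIso (Fga.UnitRestrict.unitToPush b)).symm ≪≫ Ega2.Tens.runit L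
  let B : Set (Opens X) := {V | ∃ V' : X.affineOpens, (V'.1 : Set X).Nonempty ∧ Adapted J V' ∧
    (∃ s : Γ(L, V'.1), IsGen s) ∧ V = V'.1}
  have hB : Opens.IsBasis B := by
    rw [TopologicalSpace.Opens.isBasis_iff_nbhd]
    intro W x hx
    obtain ⟨U, s, hxU, hs⟩ := (isInvertible_iff L).1 hL x
    obtain ⟨V, hxV, hVW, hV⟩ := hJ x (W ⊓ U) ⟨hx, hxU⟩
    exact ⟨V.1, ⟨V, ⟨x, hxV⟩, hV, ⟨_, hs.res (hVW.trans inf_le_right)⟩, rfl⟩, hxV, hVW.trans inf_le_left⟩
  have hF : ∀ V ∈ B, ∀ q : ℕ, 0 < q → Subsingleton (CohTop.HU (X := X'.toTopCat)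
      (Coh.toAb ((Scheme.Modules.pullback b).obj L)) q ((Opens.map b.base).obj V)) := by
    rintro _ ⟨V, hVne, ⟨n, a, hn, ha, ha0, hreg⟩, ⟨s, hs⟩, rfl⟩ q hq
    obtain ⟨q, rfl⟩ : ∃ p, q = p + 1 := ⟨q - 1, by omega⟩
    exact subsingleton_HU_of_isGen (pullSec b s) (hs.pullSec b) (q + 1)
      ((Krr.H470.BlowAff.affine_case b J V hb hVne a hn ha ha0 hreg).1 q)
  obtain ⟨e1⟩ := CohqA.LerayBasis.nonempty_equiv (Y := X.toTopCat) (X := X'.toTopCat) b.base B hB
    (Coh.toAb ((Scheme.Modules.pullback b).obj L)) hF i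
  exact ⟨e1.trans (VarietyA.EulerLES.equivΓ e i).toAddEquiv⟩

end K700.BlBase
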