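import Groth.Agent.Krr.H478.ImIdeal
import Groth.Agent.Fga.UnitRestrict
import Groth.Agent.Flat2E.FormalLift418
import Groth.Agent.FormalA.PullbackQC
import Groth.Agent.Sga67.CohBasic
import Groth.Agent.Fdesc.StructMod
import Groth.Agent.Ega1.GlobGenPt
import Groth.Agent.Ega2.H18.PnExist
import Groth.Agent.S1647
import Groth.Agent.Ega3B.SectExact
import Groth.Agent.CohqB.QC7
import Groth.Agent.Flat2C.BlowProper
import Groth.Agent.VBPn.K700.BlSetup

/-!
# The ideal of an exceptional divisor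

* `exists_epi_pullback`: an epimorphism `N ⟶ idealMod J` pulls back to an epimorphism onto `idealMod (J.comap g)`.
-/

set_option autoImplicit false
universe u

open CategoryTheory CategoryTheory.Limits AlgebraicGeometry Opposite TopologicalSpace

namespace K700.BlQ

open Groth.Agent Groth.Agent.Krr.H478.ImIdeal Scheme.IdealSheafData

section ImIdeal

variable {X Y : Scheme.{u}}

theorem ideal_ext {I J : Y.IdealSheafData} (h : ∀ {T : Scheme.{u}} (f : T ⟶ Y), I ≤ f.ker ↔ J ≤ f.ker) : I = J := by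
  apply le_antisymm
  · have := (h J.subschemeι).2
    rw [ker_subschemeι] at this
    exact this le_rfl
  · have := (h I.subschemeι).1
    rw [ker_subschemeι] at this
    exact this le_rfl

theorem ideal_eq_rg (J : Y.IdealSheafData) (U : Y.affineOpens) : J.ideal U = rg (ClSub.idealModι J) U.1 := by
  apply le_antisymm
  · intro a ha
    obtain ⟨x, hx⟩ := PerfA.IdealModule.exists_val_eq J U ha
    exact ⟨x, hx⟩
  · rintro _ ⟨s, rfl⟩
    exact PerfA.IdealModule.val_mem J U s

theorem imIdeal_idealModι (J : Y.IdealSheafData) (h : Coh.IsQCoh (ClSub.idealMod J)) :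
    imIdeal h (ClSub.idealModι J) = J := by
  apply Scheme.IdealSheafData.ext
  funext U
  exact (ideal_eq_rg J U).symm

theorem imIdeal_epi {N : Y.Modules} (hN : Coh.IsQCoh N) (J : Y.IdealSheafData) (p : N ⟶ ClSub.idealMod J) [Epi p] :
    imIdeal hN (p ≫ ClSub.idealModι J) = J := by
  refine ideal_ext fun {T} f => ?_
  have hJ : Coh.IsQCoh (ClSub.idealMod J) := inferInstance
  conv_rhs => rw [← imIdeal_idealModι J hJ]
  rw [imIdeal_le_ker_iff, imIdeal_le_ker_iff, Functor.map_comp]
  constructor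
  · intro h
    exact (cancel_epi ((Scheme.Modules.pullback f).map p)).1 (by rw [h, comp_zero])
  · intro h
    rw [h, comp_zero]

/-- The pullback of a cosection. -/
noncomputable def pullCo (g : X ⟶ Y) {N : Y.Modules} (t : N ⟶ Coh.structureModule Y) :
    (Scheme.Modules.pullback g).obj N ⟶ Coh.structureModule X :=
  (Scheme.Modules.pullback g).map t ≫ Fga.UnitRestrict.pullbackUnitHom g

theorem imIdeal_pullCo (g : X ⟶ Y) {N : Y.Modules} (hN : Coh.IsQCoh N)
    (hN' : Coh.IsQCoh ((Scheme.Modules.pullback g).obj N)) (t : N ⟶ Coh.structureModule Y) :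
    imIdeal hN' (pullCo g t) = (imIdeal hN t).comap g := by
  refine ideal_ext fun {T} f => ?_
  have h1 : (imIdeal hN t).comap g ≤ f.ker ↔ imIdeal hN t ≤ (f ≫ g).ker := by
    rw [← le_map_iff_comap_le, Scheme.IdealSheafData.map_ker]
  rw [h1, imIdeal_le_ker_iff, imIdeal_le_ker_iff, pullCo, Functor.map_comp]
  have h2 := (Scheme.Modules.pullbackComp f g).hom.naturality t
  constructor
  · intro h
    have h3 : (Scheme.Modules.pullback f).map ((Scheme.Modules.pullback g).map t) = 0 := by
      rw [← cancel_mono ((Scheme.Modules.pullback f).map (Fga.UnitRestrict.pullbackUnitHom g)), h, zero_comp]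
    have h4 : ((Scheme.Modules.pullbackComp f g).hom.app N) ≫ (Scheme.Modules.pullback (f ≫ g)).map t = 0 := by
      rw [← h2]
      refine (congrArg (· ≫ _) h3).trans zero_comp
    exact (cancel_epi ((Scheme.Modules.pullbackComp f g).hom.app N)).1 (by rw [h4, comp_zero])
  · intro h
    have h4 : (Scheme.Modules.pullback f).map ((Scheme.Modules.pullback g).map t) ≫
        ((Scheme.Modules.pullbackComp f g).hom.app _) = 0 := by
      refine h2.trans ?_
      rw [h, comp_zero]
    have h5 : (Scheme.Modules.pullback f).map ((Scheme.Modules.pullback g).map t) = 0 :=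
      (cancel_mono ((Scheme.Modules.pullbackComp f g).hom.app _)).1 (by rw [h4, zero_comp])
    rw [h5, zero_comp]

theorem exists_epi_pullback (g : X ⟶ Y) {N : Y.Modules} (hN : Coh.IsQCoh N) (J : Y.IdealSheafData)
    (hN' : Coh.IsQCoh ((Scheme.Modules.pullback g).obj N)) (p : N ⟶ ClSub.idealMod J) [Epi p] :
    ∃ l : (Scheme.Modules.pullback g).obj N ⟶ ClSub.idealMod (J.comap g), Epi l := by
  have h := imIdeal_pullCo g hN hN' (p ≫ ClSub.idealModι J)
  rw [imIdeal_epi hN J p] at h
  obtain ⟨l, hl, -⟩ := exists_factor (pullCo g (p ≫ ClSub.idealModι J)) (J.comap g) (fun U => by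
    rw [← h]
    rfl)
  exact ⟨l, hl⟩

end ImIdeal

section Reg

open Groth.Agent.Grpsch.PicGrp Groth.Agent.Lefpen.H21.PicTwist K700.PicVan K700.BlVan
open Groth.Agent.CohqB.HSeqMod Groth.Agent.Ega3B.SectExact

theorem h1_of_surj {X : Scheme.{u}} {S : ShortComplex X.Modules} (hS : S.ShortExact)
    (hg : ∀ s : Γ(S.X₃, ⊤), ∃ t : Γ(S.X₂, ⊤), S.g.app ⊤ t = s) (h : Subsingleton (Coh.HH X S.X₂ 1)) :
    Subsingleton (Coh.HH X S.X₁ 1) := by
  refine subsingleton_of_forall_eq 0 fun x => ?_
  obtain ⟨y, rfl⟩ := exact₁ hS 0 x (Subsingleton.elim _ _)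
  obtain ⟨t, ht⟩ := hg (secEquiv S.X₃ y)
  have h1 : y = hmap S.g 0 ((secEquiv S.X₂).symm t) := by
    apply (secEquiv S.X₃).injective
    rw [secEquiv_hmap, AddEquiv.apply_symm_apply, ht]
  rw [h1, δ_hmap]

theorem isCoh_idealMod {X : Scheme.{u}} [IsLocallyNoetherian X] (D : X.IdealSheafData) :
    Coh.IsCoh (ClSub.idealMod D) :=
  Sga67.CohBasic.isCoh_of_mono (ClSub.idealModι D) (Fdesc.StructMod.isCoh_structureModule X) inferInstance

variable {k : Type u} [Field k] {n : ℕ} (σ : Spec (CommRingCat.of k) ⟶ CohB1.ProjSpace n k)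
  (hσ : σ ≫ CohB1.ProjSpace.toSpec n k = 𝟙 _)

include hσ in
/-- The ideal of a rational point of projective space is `1`-regular. -/
theorem isMRegular [IsClosedImmersion σ] : Curv2.IsMRegular k n (ClSub.idealMod σ.ker) 1 := by
  intro i hi hin
  have hpt : ∀ (c : Pic (Spec (CommRingCat.of k))) (q : ℕ), 1 ≤ q →
      Van (Coh.structureModule (Spec (CommRingCat.of k))) c q := by
    intro c q hq
    rw [pic_spec_local k c, van_one_iff]
    have : Coh.IsQCoh (Coh.structureModule (Spec (CommRingCat.of k))) := Ega2.QCohLocal.isQCoh_structureModule _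
    exact CohqA.AffineVanish.HH_subsingleton _ _ q hq
  have h : Van (ClSub.idealMod σ.ker) (o n k (1 - i)) i := by
    obtain rfl | ⟨q, rfl⟩ : i = 1 ∨ ∃ q, i = q + 2 := by
      rcases Nat.lt_or_ge i 2 with h | h
      · left; omega
      · right; exact ⟨i - 2, by omega⟩
    · have e : (1 - (1 : ℕ) : ℤ) = 0 := by norm_num
      rw [e, o_zero, van_one_iff]
      refine h1_of_surj (shortExact_seq σ) (fun s => ?_) ?_
      · have h1 : ∀ s : Γ(Spec (CommRingCat.of k), ⊤),
            σ.appTop ((CohB1.ProjSpace.toSpec n k).appTop s) = s := by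
          intro s
          rw [← CommRingCat.comp_apply, ← Scheme.Hom.comp_appTop, hσ]
          simp
        exact ⟨_, h1 s⟩
      · have h2 := van_o k n 0 1 (by omega) (by omega)
        rwa [o_zero, van_one_iff] at h2
    · exact van₁ (shortExact_seq σ) (q + 1) ((van_push_iff σ).2 (hpt _ _ (by omega)))
        (van_o k n _ _ (by omega) (by push_cast; omega))
  exact (van_mk_iff _).1 h

section Gen

variable {X : Scheme.{u}} (π : X ⟶ CohB1.ProjSpace n k) [IsLocallyNoetherian (CohB1.ProjSpace n k)]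

include hσ in
/-- The ideal of the inverse image of a rational point is a quotient of a sum of copies of `π^*O(-1)`. -/
theorem exists_epi_comap [IsClosedImmersion σ] : ∃ (κ : Type u) (_ : Finite κ)
    (p : (∐ fun _ : κ => (Scheme.Modules.pullback π).obj (Twist.twistProjSpace n k (-1))) ⟶
      ClSub.idealMod (σ.ker.comap π)), Epi p := by
  have hg := S1647.result k n (ClSub.idealMod σ.ker) (isCoh_idealMod _) 1 (isMRegular σ hσ)
  have hm : Ega3B.ProjTwist.isInvertible_twistProjSpace n k (-1) = Ega3B.ProjTwist.isInvertible_twistProjSpace n k (-1) := rfl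
  obtain ⟨e⟩ : Nonempty (CohB1.tensorMod (Twist.twistProjSpace n k (-1)) (Twist.twistProjSpace n k 1) ≅
      Coh.structureModule (CohB1.ProjSpace n k)) := by
    rw [← mk_eq_one_iff (Fdesc.LocGen.isInvertible_tensorMod (Ega3B.ProjTwist.isInvertible_twistProjSpace n k (-1))
      (Ega3B.ProjTwist.isInvertible_twistProjSpace n k 1)), ← mk_mul_mk]
    change o n k (-1) * o n k 1 = 1
    rw [← o_add, neg_add_cancel, o_zero]
  have hc : CompactSpace (CohB1.ProjSpace n k) := by
    have := Ega3B.ProjProper.isProper_toSpec n k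
    exact QuasiCompact.compactSpace_of_compactSpace (CohB1.ProjSpace.toSpec n k)
  obtain ⟨κ, hκ, p, hp⟩ := Flat2E.FormalLift418.exists_epi (Ega3B.ProjTwist.isInvertible_twistProjSpace n k 1) e
    (isCoh_idealMod σ.ker) hg
  have hN : Coh.IsQCoh (∐ fun _ : κ => Twist.twistProjSpace n k (-1)) :=
    CohqB.QC7.isQCoh_coproduct _ fun _ =>
      Ega2.QCohLocal.isQCoh_of_isInvertible (Ega3B.ProjTwist.isInvertible_twistProjSpace n k (-1))
  obtain ⟨l, hl⟩ := exists_epi_pullback π hN σ.ker (FormalA.PullbackQC.isQCoh_pullback π _ hN) p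
  refine ⟨κ, hκ, (PreservesCoproduct.iso (Scheme.Modules.pullback π) fun _ : κ => Twist.twistProjSpace n k (-1)).inv ≫ l,
    ?_⟩
  exact epi_comp _ _

/-- `L ⊗ P` is globally generated if `L` is a quotient of a finite sum of copies of `N` with `N ⊗ P ≅ O`. -/
theorem isGloballyGenerated_tensor {N P L : X.Modules} (e : CohB1.tensorMod N P ≅ Coh.structureModule X)
    {κ : Type u} [Finite κ] (p : (∐ fun _ : κ => N) ⟶ L) [Epi p] :
    Curv2.IsGloballyGenerated (CohB1.tensorMod L P) := by
  have h1 : PreservesFiniteCoproducts (DCoh.tensorRightMod P) := inferInstance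
  have h2 : PreservesFiniteColimits (DCoh.tensorRightMod P) := inferInstance
  have h3 : Epi ((DCoh.tensorRightMod P).map p) := inferInstance
  let e1 : (∐ fun _ : κ => Coh.structureModule X) ≅ (DCoh.tensorRightMod P).obj (∐ fun _ : κ => N) :=
    Limits.Sigma.mapIso (fun _ => e.symm) ≪≫ (PreservesCoproduct.iso (DCoh.tensorRightMod P) fun _ : κ => N).symm
  have h4 : Epi e1.hom := inferInstance
  have h5 : Epi (e1.hom ≫ (DCoh.tensorRightMod P).map p) := epi_comp _ _
  exact ⟨κ, _, h5⟩

/-- Finitely many sections generate. -/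
theorem exists_sections [CompactSpace X] [Nonempty X] {L : X.Modules} (hL : PicF.IsInvertible L)
    (hg : Curv2.IsGloballyGenerated L) :
    ∃ (r : ℕ) (s : Fin (r + 1) → (Coh.structureModule X ⟶ L)), ⨆ i, CohB1.genLocus L (s i) = ⊤ := by
  choose s hs using fun x : X => Groth.Agent.Ega1.GlobGenPt.exists_mem_genLocus hL hg x
  obtain ⟨t, ht⟩ := isCompact_univ.elim_finite_subcover (fun x : X => (CohB1.genLocus L (s x) : Set X))
    (fun x => (CohB1.genLocus L (s x)).2) (fun x _ => Set.mem_iUnion.2 ⟨x, hs x⟩)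
  have hne : t.Nonempty := by
    rw [Finset.nonempty_iff_ne_empty]
    rintro rfl
    obtain ⟨x⟩ := (inferInstance : Nonempty X)
    have h := ht (Set.mem_univ x)
    simp at h
  obtain ⟨r, hr⟩ : ∃ r, t.card = r + 1 := ⟨t.card - 1, by have := hne.card_pos; omega⟩
  let e : t ≃ Fin (r + 1) := t.equivFinOfCardEq hr
  refine ⟨r, fun i => s (e.symm i).1, ?_⟩
  rw [eq_top_iff]
  intro x _
  have hx := ht (Set.mem_univ x)
  simp only [Set.mem_iUnion] at hx
  obtain ⟨y, hy, hxy⟩ := hx
  refine Opens.mem_iSup.2 ⟨e ⟨y, hy⟩, ?_⟩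
  change x ∈ CohB1.genLocus L (s (e.symm (e ⟨y, hy⟩)).1)
  rw [Equiv.symm_apply_apply]
  exact hxy

/-- A globally generated invertible module is the class of a morphism to projective space. -/
theorem exists_hyp (q : X ⟶ Spec (CommRingCat.of k)) [CompactSpace X] [Nonempty X] {L : X.Modules} (hL : PicF.IsInvertible L)
    (hg : Curv2.IsGloballyGenerated L) :
    ∃ (m : ℕ) (g : X ⟶ CohB1.ProjSpace m k), g ≫ CohB1.ProjSpace.toSpec m k = q ∧ hyp g = mk L hL := by
  obtain ⟨m, s, hs⟩ := exists_sections hL hg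
  have h1 : ∀ i, Fdesc.LocGen.homOf (M := L) (Fdesc.LocGen.sec (s i) ⊤) = s i := fun i => by
    rw [Fdesc.LocGen.homOf_sec]
  obtain ⟨g, hg, τ, -⟩ := Ega2.H18.PnExist.exists_map m q L (fun i => Fdesc.LocGen.sec (s i) ⊤) (by
    simp only [h1]
    exact hs)
  exact ⟨m, g, hg, mk_congr τ⟩

end Gen

end Reg

section Main

open Groth.Agent.Grpsch.PicGrp Groth.Agent.Lefpen.H21.PicTwist K700.PicVan K700.BlVan K700.BlSetup

variable {k : Type u} [Field k] [IsAlgClosed k] {r s : ℕ} {P : Fin s → ↥(CohB1.ProjSpace (r + 1) k)}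
  (hP : Function.Injective P) (hPc : ∀ i, IsClosed ({P i} : Set ↥(CohB1.ProjSpace (r + 1) k)))
  (hZ : IsClosed (Set.range P)) {X : Scheme.{u}} (π : X ⟶ CohB1.ProjSpace (r + 1) k)
  (hπ : BlowUp.IsBlowUp π (vanishingIdeal ⟨Set.range P, hZ⟩))

omit [IsAlgClosed k] in
include hπ in
theorem isProper : IsProper π := by
  refine Flat2C.BlowProper.isProper_of_isBlowUp hπ fun U => ?_
  have : IsNoetherianRing Γ(CohB1.ProjSpace (r + 1) k, U.1) := IsLocallyNoetherian.component_noetherian U
  exact IsNoetherian.noetherian _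

include hP hPc hπ in
/-- `π^*O(1) ⊗ I_t` is the pullback of `O(1)` for a morphism to projective space. -/
theorem exists_setup' : ∃ B : Setup k r s X, B.π = π ∧
    (∀ t, B.I t = (vanishingIdeal (⟨{P t}, hPc t⟩ : Closeds _)).comap π) ∧
    (∀ t, IsPullback (B.j t) (CohB1.ProjSpace.toSpec r k) π (sec hPc t)) ∧
    ∀ t, ∃ (m : ℕ) (q : X ⟶ CohB1.ProjSpace m k),
      q ≫ CohB1.ProjSpace.toSpec m k = π ≫ CohB1.ProjSpace.toSpec (r + 1) k ∧ hyp q = B.h * B.e t := by
  obtain ⟨B, rfl, hI, hj⟩ := exists_setup hP hPc hZ π hπ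
  refine ⟨B, rfl, hI, hj, fun t => ?_⟩
  have hint := isIntegral hPc hZ B.π hπ
  have hpr := isProper hZ B.π hπ
  have hc0 : CompactSpace (CohB1.ProjSpace (r + 1) k) :=
    QuasiCompact.compactSpace_of_compactSpace (CohB1.ProjSpace.toSpec (r + 1) k)
  have hc : CompactSpace X := QuasiCompact.compactSpace_of_compactSpace B.π
  obtain ⟨κ, hκ, p, hp⟩ : ∃ (κ : Type u) (_ : Finite κ)
      (p : (∐ fun _ : κ => (Scheme.Modules.pullback B.π).obj (Twist.twistProjSpace (r + 1) k (-1))) ⟶
        ClSub.idealMod (B.I t)), Epi p := by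
    have h := exists_epi_comap (sec hPc t) (sec_comp hPc t) B.π
    rwa [ker_sec, ← hI] at h
  have h1 : PicF.IsInvertible ((Scheme.Modules.pullback B.π).obj (Twist.twistProjSpace (r + 1) k 1)) :=
    isInvertible_pullback_twist B.π 1
  obtain ⟨e⟩ : Nonempty (CohB1.tensorMod ((Scheme.Modules.pullback B.π).obj (Twist.twistProjSpace (r + 1) k (-1)))
      ((Scheme.Modules.pullback B.π).obj (Twist.twistProjSpace (r + 1) k 1)) ≅ Coh.structureModule X) := by
    rw [← mk_eq_one_iff (Fdesc.LocGen.isInvertible_tensorMod (isInvertible_pullback_twist B.π (-1)) h1),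
      ← mk_mul_mk (isInvertible_pullback_twist B.π (-1)) h1, mk_pullback_twist, mk_pullback_twist, ← zpow_add]
    simp
  have hg := isGloballyGenerated_tensor e p
  obtain ⟨m, q, hq, hh⟩ := exists_hyp (B.π ≫ CohB1.ProjSpace.toSpec (r + 1) k)
    (Fdesc.LocGen.isInvertible_tensorMod (B.inv t) h1) hg
  refine ⟨m, q, hq, ?_⟩
  rw [hh, ← mk_mul_mk (B.inv t) h1, mk_pullback_twist, zpow_one, mul_comm]
  rfl

end Main

end K700.BlQ
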