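import Groth.Agent.VBPn.K700.BlKer
import Groth.Agent.VBPn.K700.HDim
import Groth.Agent.Surf.K458.Ip
import Groth.Agent.Surf.K456.Base
import Groth.Agent.Ribbon.K932.P1Deg
import Groth.Agent.CycB.ClosSheaf

/-!
# Euler characteristics on the blow-up of the plane in finitely many points

* `eu`: the Euler characteristic of `F ⊗ L` as a function of the class of `L`.
* `eu_step`: restriction to an exceptional curve.
* `third_diff`: on a proper scheme of dimension at most two the third differences vanish.
* `eu_cls_zero`, `eu_cls_one`, `eu_cls_neg_one`: the values on `c h - d ∑ E_i` for `d = 0, 1, -1`.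
-/

set_option autoImplicit false
universe u

open CategoryTheory CategoryTheory.Limits AlgebraicGeometry Opposite TopologicalSpace

namespace K700.DPDim

open Groth.Agent Groth.Agent.Grpsch.PicGrp Groth.Agent.Lefpen.H21.PicTwist
open K700.PicVan K700.BlVan K700.BlVan.Setup K700.HDim K700.BlOne

section Basic

variable (k : Type u) [Field k] {X : Scheme.{u}} [X.Over (Spec (CommRingCat.of k))]

/-- The Euler characteristic of `F ⊗ L` for `L` of class `c`. -/
noncomputable def eu (F : X.Modules) (c : Pic X) : ℤ :=
  Curv2.euler k X (CohB1.tensorMod F (exists_mk c).choose)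

theorem euler_iso {F G : X.Modules} (e : F ≅ G) : Curv2.euler k X F = Curv2.euler k X G :=
  VarietyA.EulerAdd.euler_congr (k := k) e

theorem eu_mk (F : X.Modules) {L : X.Modules} (hL : PicF.IsInvertible L) :
    eu k F (Grpsch.PicGrp.mk L hL) = Curv2.euler k X (CohB1.tensorMod F L) := by
  obtain ⟨h, e⟩ := (exists_mk (Grpsch.PicGrp.mk L hL)).choose_spec
  obtain ⟨e⟩ := (mk_eq_iff hL h).1 e
  exact euler_iso k (Ega2.Tens.mapTIso (Iso.refl F) e.symm)

theorem eu_one (F : X.Modules) : eu k F 1 = Curv2.euler k X F := by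
  rw [one_def, eu_mk]
  exact euler_iso k (Ega2.Tens.runit F)

theorem eu_unit_mk {L : X.Modules} (hL : PicF.IsInvertible L) :
    eu k (Coh.structureModule X) (Grpsch.PicGrp.mk L hL) = Curv2.euler k X L := by
  rw [eu_mk]
  exact euler_iso k (Ega2.Tens.lunit L)

theorem eu_inv {L : X.Modules} (hL : PicF.IsInvertible L) (c : Pic X) :
    eu k L c = eu k (Coh.structureModule X) (Grpsch.PicGrp.mk L hL * c) := by
  induction c using ind with | _ M hM => ?_
  rw [eu_mk, mk_mul_mk, eu_unit_mk]

theorem eu_iso {F G : X.Modules} (e : F ≅ G) (c : Pic X) : eu k F c = eu k G c := by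
  induction c using ind with | _ M hM => ?_
  rw [eu_mk, eu_mk]
  exact euler_iso k (Ega2.Tens.mapTIso e (Iso.refl M))

theorem dm_of_van {F : X.Modules} {c : Pic X} {i : ℕ} (h : Van F c i) : dm k F c i = 0 := by
  induction c using ind with | _ M hM => ?_
  rw [dm_mk]
  have := (van_mk_iff hM).1 h
  exact Module.finrank_zero_of_subsingleton

theorem eu_eq {F : X.Modules} {c : Pic X} (h : ∀ i, 3 ≤ i → Van F c i) :
    eu k F c = dm k F c 0 - dm k F c 1 + dm k F c 2 := by
  induction c using ind with | _ M hM => ?_
  rw [eu_mk, dm_mk, dm_mk, dm_mk, Curv2.euler, finsum_eq_sum_of_support_subset (s := Finset.range 3)]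
  · simp only [Finset.sum_range_succ, Finset.sum_range_zero, zero_add, pow_zero, one_mul, pow_one]
    ring
  · intro i hi
    simp only [Function.mem_support] at hi
    by_contra hi'
    simp only [Finset.coe_range, Set.mem_Iio, not_lt] at hi'
    have := (van_mk_iff hM).1 (h i hi')
    apply hi
    rw [Module.finrank_zero_of_subsingleton]
    simp

theorem eu_zero {F : X.Modules} {c : Pic X} (h : ∀ i, Van F c i) : eu k F c = 0 := by
  rw [eu_eq k fun i _ => h i, dm_of_van k (h 0), dm_of_van k (h 1), dm_of_van k (h 2)]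
  simp

variable [IsProper (X ↘ Spec (CommRingCat.of k))]

omit [X.Over (Spec (CommRingCat.of k))] [IsProper (X ↘ Spec (CommRingCat.of k))] in
theorem isCoh_tensor {X : Scheme.{u}} {F L : X.Modules} (hF : Coh.IsCoh F) (hL : PicF.IsInvertible L) :
    Coh.IsCoh (CohB1.tensorMod F L) := Ega2.GlobGenCrit.isCoh_tensor hF hL

theorem fin_of_isCoh {F : X.Modules} (hF : Coh.IsCoh F) (c : Pic X) (i : ℕ) : Fin' k F c i :=
  fun L hL _ => S0002.result k X _ (isCoh_tensor hF hL) i

theorem eu_add {S : ShortComplex X.Modules} (hS : S.ShortExact) (h1 : Coh.IsCoh S.X₁) (h2 : Coh.IsCoh S.X₂)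
    (h3 : Coh.IsCoh S.X₃) (c : Pic X) : eu k S.X₂ c = eu k S.X₁ c + eu k S.X₃ c := by
  induction c using ind with | _ M hM => ?_
  have h := S1524.result k X (S.map (DCoh.tensorRightMod M)) (shortExact_tensor hS hM) (isCoh_tensor h1 hM)
    (isCoh_tensor h2 hM) (isCoh_tensor h3 hM)
  have e1 := eu_mk k S.X₁ hM
  have e2 := eu_mk k S.X₂ hM
  have e3 := eu_mk k S.X₃ hM
  exact e2.trans (h.trans (congrArg₂ (· + ·) e1.symm e3.symm))

theorem dm_sigma_const {n : ℕ} {F L : X.Modules} (e : F ≅ ∐ fun _ : Fin n => L) (hL : Coh.IsCoh L) (c : Pic X)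
    (i : ℕ) : dm k F c i = n * dm k L c i := by
  induction c using ind with | _ M hM => ?_
  rw [dm_mk, dm_mk]
  have hf : Module.Finite k (Coh.HH X ((DCoh.tensorRightMod M).obj L) i) := S0002.result k X _ (isCoh_tensor hL hM) i
  have h1 : PreservesFiniteCoproducts (DCoh.tensorRightMod M) := inferInstance
  exact fr_sigma_const k ((DCoh.tensorRightMod M).mapIso e ≪≫
    (PreservesCoproduct.iso (DCoh.tensorRightMod M) fun _ : Fin n => L)) i

theorem eu_sigma_const {n : ℕ} {F L : X.Modules} (e : F ≅ ∐ fun _ : Fin n => L) (hL : Coh.IsCoh L) {c : Pic X}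
    (h : ∀ i, 3 ≤ i → Van L c i) : eu k F c = n * eu k L c := by
  rw [eu_eq k h, eu_eq k fun i hi => van_sigma_const e (h i hi), dm_sigma_const k e hL, dm_sigma_const k e hL,
    dm_sigma_const k e hL]
  push_cast
  ring

/-- The third difference of the Euler characteristic vanishes in dimension two. -/
theorem third_diff (hd : topologicalKrullDim X ≤ (2 : ℕ)) (a b c : Pic X) :
    eu k (Coh.structureModule X) (a * b * c) = eu k (Coh.structureModule X) (a * b) +
      eu k (Coh.structureModule X) (a * c) + eu k (Coh.structureModule X) (b * c) -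
      eu k (Coh.structureModule X) a - eu k (Coh.structureModule X) b - eu k (Coh.structureModule X) c +
      eu k (Coh.structureModule X) 1 := by
  induction a using ind with | _ A hA => ?_
  induction b using ind with | _ B hB => ?_
  induction c using ind with | _ C hC => ?_
  have h := K458.Ip.ip_mul_left k X hd hA hB hC
  rw [K458.Ip.ip_eq k X hd, K458.Ip.ip_eq k X hd, K458.Ip.ip_eq k X hd] at h
  rw [mk_mul_mk, mk_mul_mk, mk_mul_mk, mk_mul_mk, eu_unit_mk, eu_unit_mk, eu_unit_mk, eu_unit_mk, eu_unit_mk,
    eu_unit_mk, eu_unit_mk, eu_one]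
  linarith

end Basic

section Step

variable {k : Type u} [Field k] {s : ℕ} {X : Scheme.{u}} [X.Over (Spec (CommRingCat.of k))]
  [IsProper (X ↘ Spec (CommRingCat.of k))] (B : Setup k 1 s X)
  (hj : ∀ t, B.j t ≫ (X ↘ Spec (CommRingCat.of k)) = CohB1.ProjSpace.toSpec 1 k)

include hj in
theorem eu_push (t : Fin s) (c : ℤ) (d : Fin s → ℤ) :
    eu k ((Scheme.Modules.pushforward (B.j t)).obj (Coh.structureModule _)) (B.cls c d) = d t + 1 := by
  have := B.cl t
  obtain ⟨L, hL, he⟩ := exists_mk (B.cls c d)
  have h1 : Grpsch.PicGrp.mk _ (Fdesc.LocGen.isInvertible_pullback (B.j t) hL) =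
      Grpsch.PicGrp.mk _ (K932.P1Deg.isInvertible_twist k (d t)) := by
    rw [← pull_mk (B.j t) hL, ← he, B.pull_cls]
    rfl
  obtain ⟨e⟩ := (mk_eq_iff _ _).1 h1
  rw [he, eu_mk, K456.Base.euler_push_tensor' k (B.j t) (hj t) hL, euler_iso k e]
  exact K932.P1Deg.euler_twist k (d t)

include hj in
theorem eu_step (t : Fin s) {c : ℤ} {d d' : Fin s → ℤ} (hd : d' = d + Pi.single t 1) :
    eu k (Coh.structureModule X) (B.cls c d) = eu k (Coh.structureModule X) (B.cls c d') + (d t + 1) := by
  have := B.cl t
  have hln : IsLocallyNoetherian X := LocallyOfFiniteType.isLocallyNoetherian (X ↘ Spec (CommRingCat.of k))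
  have h3 := eu_push B hj t c d
  obtain ⟨I, hI, hk⟩ : ∃ I, ∃ hI : PicF.IsInvertible (ClSub.idealMod I), I = (B.j t).ker ∧ Grpsch.PicGrp.mk _ hI = B.e t :=
    ⟨B.I t, B.inv t, (B.ker t).symm, rfl⟩
  obtain ⟨rfl, he⟩ := hk
  rw [← B.e_mul t hd, ← he, ← eu_inv, ← h3]
  exact eu_add k (shortExact_seq (B.j t)) (VarietyA.CurveFin.isCoh_of_isInvertible hI)
    (CurvesB.UnitCoh.isCoh_structureModule X) (CycB.ClosSheaf.isCoh_push_structureModule (B.j t)) (B.cls c d)

include hj in
theorem eu_cls_one_aux (c : ℤ) (T : Finset (Fin s)) :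
    eu k (Coh.structureModule X) (B.cls c fun t => if t ∈ T then 1 else 0) =
      eu k (Coh.structureModule X) (B.cls c 0) - T.card := by
  classical
  induction T using Finset.induction_on with
  | empty => simp; rfl
  | insert a T ha ih =>
    have h1 := eu_step B hj a (c := c) (d := fun t => if t ∈ T then 1 else 0)
      (d' := fun t => if t ∈ insert a T then 1 else 0) (by
        funext t
        by_cases h : t = a
        · subst h
          simp [ha]
        · simp [h])
    rw [ih] at h1
    simp only [ha, if_false] at h1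
    rw [Finset.card_insert_of_notMem ha]
    push_cast
    linarith

include hj in
theorem eu_cls_one (c : ℤ) : eu k (Coh.structureModule X) (cc B c 1) =
    eu k (Coh.structureModule X) (cc B c 0) - s := by
  have h := eu_cls_one_aux B hj c Finset.univ
  simp only [Finset.mem_univ, if_true, Finset.card_univ, Fintype.card_fin] at h
  exact h

include hj in
theorem eu_cls_neg_one_aux (c : ℤ) (T : Finset (Fin s)) :
    eu k (Coh.structureModule X) (B.cls c fun t => if t ∈ T then -1 else 0) =
      eu k (Coh.structureModule X) (B.cls c 0) := by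
  classical
  induction T using Finset.induction_on with
  | empty => simp; rfl
  | insert a T ha ih =>
    have h1 := eu_step B hj a (c := c) (d := fun t => if t ∈ insert a T then -1 else 0)
      (d' := fun t => if t ∈ T then -1 else 0) (by
        funext t
        by_cases h : t = a
        · subst h
          simp [ha]
        · simp [h])
    rw [ih] at h1
    simpa using h1

include hj in
theorem eu_cls_neg_one (c : ℤ) : eu k (Coh.structureModule X) (cc B c (-1)) =
    eu k (Coh.structureModule X) (cc B c 0) := by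
  have h := eu_cls_neg_one_aux B hj c Finset.univ
  simp only [Finset.mem_univ, if_true] at h
  exact h

omit [X.Over (Spec (CommRingCat.of k))] [IsProper (X ↘ Spec (CommRingCat.of k))] in
theorem van_neg_one (c : ℤ) (q : ℕ) (h : Van (Coh.structureModule X) (cc B c 0) q) :
    Van (Coh.structureModule X) (cc B c (-1)) q := by
  classical
  have key : ∀ T : Finset (Fin s), Van (Coh.structureModule X) (B.cls c fun t => if t ∈ T then -1 else 0) q := by
    intro T
    induction T using Finset.induction_on with
    | empty => simpa using h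
    | insert a T ha ih =>
      refine B.van_e₂ a (d' := fun t => if t ∈ T then -1 else 0) (by
        funext t
        by_cases h : t = a
        · subst h
          simp [ha]
        · simp [h]) q ih ?_
      simp only [Finset.mem_insert, true_or, if_true]
      exact van_o k 1 (-1) q (by omega) (by omega)
  have h1 := key Finset.univ
  simp only [Finset.mem_univ, if_true] at h1
  exact h1

end Step

section Values

variable {k : Type u} [Field k] [IsAlgClosed k] {s : ℕ} {X : Scheme.{u}} [X.Over (Spec (CommRingCat.of k))]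
  [IsProper (X ↘ Spec (CommRingCat.of k))] [IsIntegral X] (B : Setup k 1 s X)
  (hd : topologicalKrullDim X ≤ (2 : ℕ))

/-- The Euler characteristic of `π^*O(c)`. -/
noncomputable abbrev g (c : ℤ) : ℤ := eu k (Coh.structureModule X) (cc B c 0)

theorem g_zero : g B 0 = 1 := by
  have h : ∀ i, 1 ≤ i → Van (Coh.structureModule X) (cc B 0 0) i := fun i hi => base B 0 i (by omega) (by omega)
  rw [g, eu_eq k fun i hi => h i (by omega), dm_of_van k (h 1 le_rfl), dm_of_van k (h 2 (by omega)), cc_zero,
    dm_one]
  have h1 := VarietyA.CurveFin.finrank_h0_structure k X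
  simp only [fr]
  rw [h1]
  simp

omit [IsAlgClosed k] [IsProper (X ↘ Spec (CommRingCat.of k))] [IsIntegral X] in
theorem g_neg_one : g B (-1) = 0 := eu_zero k fun i => base B (-1) i (by omega) (by omega)

omit [IsAlgClosed k] [IsProper (X ↘ Spec (CommRingCat.of k))] [IsIntegral X] in
theorem g_neg_two : g B (-2) = 0 := eu_zero k fun i => base B (-2) i (by omega) (by omega)

include hd in
theorem g_rec (a b c : ℤ) : g B (a + b + c) = g B (a + b) + g B (a + c) + g B (b + c) - g B a - g B b - g B c + 1 := by
  have h := third_diff k hd (cc B a 0) (cc B b 0) (cc B c 0)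
  have h0 := g_zero B
  rw [g, cc_zero] at h0
  simp only [cc_mul, add_zero] at h
  rw [h0] at h
  exact h

include hd in
theorem g_neg_three : g B (-3) = 1 := by
  have h := g_rec B hd (-1) (-1) (-1)
  have h1 := g_neg_one B
  have h2 := g_neg_two B
  norm_num at h
  rw [h1, h2] at h
  linarith

include hd in
theorem g_neg_four : g B (-4) = 3 := by
  have h := g_rec B hd (-1) (-1) (-2)
  have h1 := g_neg_one B
  have h2 := g_neg_two B
  have h3 := g_neg_three B hd
  norm_num at h
  rw [h1, h2, h3] at h
  linarith

include hd in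
theorem g_neg_five : g B (-5) = 6 := by
  have h := g_rec B hd (-1) (-1) (-3)
  have h1 := g_neg_one B
  have h2 := g_neg_two B
  have h3 := g_neg_three B hd
  have h4 := g_neg_four B hd
  norm_num at h
  rw [h1, h2, h3, h4] at h
  linarith

include hd in
theorem g_one : g B 1 = 3 := by
  have h := g_rec B hd 1 (-1) (-1)
  have h0 := g_zero B
  have h1 := g_neg_one B
  have h2 := g_neg_two B
  norm_num at h
  rw [h0, h1, h2] at h
  linarith

include hd in
theorem g_two : g B 2 = 6 := by
  have h := g_rec B hd 1 1 (-1)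
  have h0 := g_zero B
  have h1 := g_neg_one B
  have h2 := g_one B hd
  norm_num at h
  rw [h0, h1, h2] at h
  linarith

end Values

end K700.DPDim
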