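import Groth.Agent.VBPn.K700.HDim

/-!
# Generation of sections by two commuting operators

For `g : X ⟶ P¹` and the operators `x_k : E ⊗ g^*O(a) ⟶ E ⊗ g^*O(a + 1)`:

* `fam_jointly_epi`: they are jointly epimorphic;
* `fam_exists_sum`: they generate `H⁰` if `H¹(E ⊗ g^*O(a - 1)) = 0`.
-/

set_option autoImplicit false
universe u

open CategoryTheory CategoryTheory.Limits AlgebraicGeometry Opposite TopologicalSpace

namespace K700.KosGen

open Groth.Agent.VarietyA.EulerLES Groth.Agent.Fga.HShift Groth.Agent.PerfB.KoszulMod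
open Groth.Agent.PerfB.KoszulSigns
open K700.KosVan K700.HDim

variable {X : Scheme.{u}}

/-- `f ↦ f(w)` as an additive map. -/
noncomputable def mapAt {M : X.Modules} (N : X.Modules) {i : ℕ} (w : Coh.HH X M i) :
    (M ⟶ N) →+ Coh.HH X N i where
  toFun f := mapΓ f i w
  map_zero' := by rw [mapΓ_zero]; rfl
  map_add' f g := by rw [mapΓ_add]; rfl

theorem mapAt_apply {M N : X.Modules} (f : M ⟶ N) {i : ℕ} (w : Coh.HH X M i) : mapAt N w f = mapΓ f i w := rfl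

section Complex

variable (K : CochainComplex X.Modules ℤ) (hK : ∀ i, K.ExactAt i)

include hK in
theorem h0_surj (hneg : IsZero (K.X (-1))) (hpos : IsZero (K.X 3))
    (h1 : Subsingleton (Coh.HH X (K.X 0) 1)) :
    Epi (K.d 1 (1 + 1)) ∧ Function.Surjective (mapΓ (K.d 1 (1 + 1)) 0) := by
  have hS := cycSeq_shortExact K hK 1
  have hS0 := cycSeq_shortExact K hK 0
  have hz : IsZero (kernel (K.d (0 : ℤ) (0 + 1))) := by
    have h1 := cycSeq_shortExact K hK (-1)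
    have : Epi (cycSeq K (-1)).g := h1.epi_g
    exact hneg.of_epi (cycSeq K (-1)).g
  have : Mono (cycSeq K 0).g := by
    refine (hS0.exact.mono_g_iff).2 ?_
    exact hz.eq_zero_of_src _
  have : Epi (cycSeq K 0).g := hS0.epi_g
  have : IsIso (cycSeq K 0).g := isIso_of_mono_of_epi _
  have hd : K.d (1 + 1 : ℤ) (1 + 1 + 1) = 0 := hpos.eq_zero_of_tgt _
  have h4 : IsIso (kernel.ι (K.d (1 + 1 : ℤ) (1 + 1 + 1))) := by
    rw [hd]; infer_instance
  have h5 : Subsingleton (Coh.HH X (cycSeq K 1).X₁ 1) := subsingleton_of_iso (asIso (cycSeq K 0).g) 1 h1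
  have h6 : (cycSeq K 1).g ≫ kernel.ι (K.d (1 + 1 : ℤ) (1 + 1 + 1)) = K.d 1 (1 + 1) := kernel.lift_ι _ _ _
  have h7 : Epi (cycSeq K 1).g := hS.epi_g
  refine ⟨h6 ▸ epi_comp _ _, ?_⟩
  have h8 : Function.Surjective (mapΓ (cycSeq K 1).g 0) := by
    intro x
    exact (exact₃ (cycSeq K 1) hS 0 1 rfl x).1 (h5.elim _ _)
  rw [← h6, mapΓ_comp]
  exact (equivΓ (asIso (kernel.ι (K.d (1 + 1 : ℤ) (1 + 1 + 1)))) 0).surjective.comp h8

end Complex

section Two

variable (M : ℤ → X.Modules) (T : Fin 2 → ∀ i : ℤ, M i ⟶ M (i + 1))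
  (hT : ∀ (k l : Fin 2) (i : ℤ), T k i ≫ T l (i + 1) = T l i ≫ T k (i + 1))
  (hloc : ∀ x : X, ∃ (V : X.Opens) (_ : x ∈ V) (j : Fin 2), ∀ (U : X.Opens), U ≤ V →
      ∀ i, Function.Bijective ((T j i).app U))

theorem koszulCx_d (i : ℤ) : (koszulCx M T hT).d i (i + 1) = diff M T i := by
  exact CochainComplex.of_d _ _ _

theorem diff_π (S : Idx 2 (1 + 1)) : diff M T 1 ≫ biproduct.π _ S = ∑ k : {k // k ∈ S.1},
    sgn k.1 S.1 • (biproduct.π (fun _ : Idx 2 1 => M 1) ⟨S.1.erase k.1, card_erase S.2 k.2⟩ ≫ T k.1 1) := by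
  rw [diff, biproduct.lift_π]

/-- The top index. -/
abbrev topIdx : Idx 2 (1 + 1) := ⟨Finset.univ, by simp⟩

include hT hloc in
theorem jointly_epi {Z : X.Modules} (h1 : Subsingleton (Coh.HH X (M 0) 1)) (h : M (1 + 1) ⟶ Z)
    (hh : ∀ k, T k 1 ≫ h = 0) : h = 0 := by
  obtain ⟨he, -⟩ := h0_surj (koszulCx M T hT) (koszulCx_exactAt M T hT hloc)
    (isZero_kTerm M 2 (-1) (Or.inl (by norm_num))) (isZero_kTerm M 2 3 (Or.inr (by norm_num)))
    (subsingleton_kTerm M 0 1 h1)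
  have hd : (koszulCx M T hT).d 1 (1 + 1) = diff M T 1 := koszulCx_d M T hT 1
  rw [hd] at he
  have h2 : (biproduct.π (fun _ : Idx 2 (1 + 1) => M (1 + 1)) topIdx) ≫ h = 0 := by
    have he' : Epi (diff M T 1) := he
    rw [← cancel_epi (diff M T 1), comp_zero, ← Category.assoc, diff_π, Preadditive.sum_comp]
    refine Finset.sum_eq_zero fun k _ => ?_
    rw [Preadditive.zsmul_comp, Category.assoc, hh, comp_zero, smul_zero]
  have h3 : biproduct.ι (fun _ : Idx 2 (1 + 1) => M (1 + 1)) topIdx ≫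
      (biproduct.π (fun _ : Idx 2 (1 + 1) => M (1 + 1)) topIdx) ≫ h = 0 := by rw [h2, comp_zero]
  rwa [biproduct.ι_π_self_assoc] at h3

theorem topComp (w' : Coh.HH X (kTerm (N := 2) M 1) 0) (z : Coh.HH X (M (1 + 1)) 0)
    (h : mapΓ (diff M T 1) 0 w' = mapΓ (biproduct.ι (fun _ : Idx 2 (1 + 1) => M (1 + 1)) topIdx) 0 z) :
    z = mapΓ (diff M T 1 ≫ biproduct.π (fun _ : Idx 2 (1 + 1) => M (1 + 1)) topIdx) 0 w' := by
  have e3 : mapΓ (biproduct.π (fun _ : Idx 2 (1 + 1) => M (1 + 1)) topIdx) 0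
      (mapΓ (biproduct.ι (fun _ : Idx 2 (1 + 1) => M (1 + 1)) topIdx) 0 z) = z := by
    rw [← LinearMap.comp_apply, ← mapΓ_comp, biproduct.ι_π_self, mapΓ_id]
    rfl
  rw [mapΓ_comp, LinearMap.comp_apply, h, e3]

theorem exists_sum_aux (w' : Coh.HH X (kTerm (N := 2) M 1) 0) (z : Coh.HH X (M (1 + 1)) 0)
    (h : mapΓ (diff M T 1) 0 w' = mapΓ (biproduct.ι (fun _ : Idx 2 (1 + 1) => M (1 + 1)) topIdx) 0 z) :
    ∃ w : Fin 2 → Coh.HH X (M 1) 0, z = ∑ k, mapΓ (T k 1) 0 (w k) := by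
  have e1 := topComp M T w' z h
  rw [diff_π, ← mapAt_apply, map_sum] at e1
  refine ⟨fun k => sgn k (topIdx).1 • mapΓ (biproduct.π (fun _ : Idx 2 1 => M 1)
    ⟨(topIdx).1.erase k, card_erase (topIdx).2 (Finset.mem_univ k)⟩) 0 w', ?_⟩
  rw [e1]
  refine Finset.sum_bij (fun k _ => k.1) (fun _ _ => Finset.mem_univ _) (fun _ _ _ _ h => Subtype.ext h)
    (fun k _ => ⟨⟨k, Finset.mem_univ k⟩, Finset.mem_univ _, rfl⟩) fun k _ => ?_
  rw [map_zsmul, mapAt_apply, mapΓ_comp, map_zsmul]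
  rfl

include hT hloc in
theorem exists_sum (h1 : Subsingleton (Coh.HH X (M 0) 1)) (z : Coh.HH X (M (1 + 1)) 0) :
    ∃ w : Fin 2 → Coh.HH X (M 1) 0, z = ∑ k, mapΓ (T k 1) 0 (w k) := by
  obtain ⟨-, he⟩ := h0_surj (koszulCx M T hT) (koszulCx_exactAt M T hT hloc)
    (isZero_kTerm M 2 (-1) (Or.inl (by norm_num))) (isZero_kTerm M 2 3 (Or.inr (by norm_num)))
    (subsingleton_kTerm M 0 1 h1)
  have hd : (koszulCx M T hT).d 1 (1 + 1) = diff M T 1 := koszulCx_d M T hT 1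
  rw [hd] at he
  obtain ⟨w', hw'⟩ := he (mapΓ (biproduct.ι (fun _ : Idx 2 (1 + 1) => M (1 + 1)) topIdx) 0 z)
  exact exists_sum_aux M T w' z hw'

end Two

end K700.KosGen
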