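import Mathlib.CategoryTheory.Linear.Basic
import Mathlib.CategoryTheory.Preadditive.Biproducts
import Mathlib.Data.Matrix.Mul
import Mathlib.Data.Matrix.Diagonal
import Mathlib.Logic.Equiv.Fin.Rotate
import Mathlib.Tactic.NoncommRing
import Mathlib.Tactic.FinCases
import Mathlib.Tactic.Abel
import Mathlib.Algebra.Module.BigOperators
import Mathlib.Algebra.CharZero.Defs

/-!
# Matrices of morphisms and the commutator trick

`exists_lift`: a matrix `(y₀ + y₁ A | x₀ + x₁ B)` with `AB - BA` invertible hits all `x_i y_j`.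
-/

set_option autoImplicit false

open CategoryTheory CategoryTheory.Limits

namespace K700.MatEpi

section Mat

variable {k : Type*} [Field k]

/-- Two matrices with invertible commutator. -/
theorem exists_mat [CharZero k] {r : ℕ} (hr : 2 ≤ r) :
    ∃ A B K : Matrix (Fin r) (Fin r) k, K * (A * B - B * A) = 1 := by
  obtain ⟨n, rfl⟩ : ∃ n, r = n + 1 := ⟨r - 1, by omega⟩
  let σ : Equiv.Perm (Fin (n + 1)) := finRotate (n + 1)
  let d : Fin (n + 1) → k := fun i => (i.1 : k)
  have hσ : ∀ i, d (σ i) - d i ≠ 0 := by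
    intro i
    rw [sub_ne_zero]
    intro h
    have h1 : (σ i).1 = i.1 := Nat.cast_injective h
    have h2 : σ i = i + 1 := finRotate_apply i
    have h3 : σ i = i := Fin.ext h1
    rw [h3] at h2
    have h4 : (1 : Fin (n + 1)) = 0 := by
      have := h2.symm
      rwa [add_eq_left] at this
    have h5 := congrArg Fin.val h4
    rw [Fin.val_one', Fin.val_zero, Nat.mod_eq_of_lt (by omega)] at h5
    omega
  let A : Matrix (Fin (n + 1)) (Fin (n + 1)) k := fun i j => if σ i = j then 1 else 0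
  let B : Matrix (Fin (n + 1)) (Fin (n + 1)) k := fun i j => if σ j = i then d i else 0
  have hAB : A * B = Matrix.diagonal fun i => d (σ i) := by
    ext i l
    rw [Matrix.mul_apply, Finset.sum_eq_single (σ i)]
    · simp only [A, B, if_true, one_mul, Matrix.diagonal_apply]
      by_cases h : i = l
      · subst h; simp
      · rw [if_neg (fun h' => h (σ.injective h').symm), if_neg h]
    · intro j _ hj
      simp only [A, if_neg (Ne.symm hj), zero_mul]
    · intro h; exact absurd (Finset.mem_univ _) h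
  have hBA : B * A = Matrix.diagonal d := by
    ext i l
    rw [Matrix.mul_apply, Finset.sum_eq_single (σ.symm i)]
    · simp only [A, B, Equiv.apply_symm_apply, if_true, Matrix.diagonal_apply, mul_ite, mul_one, mul_zero]
    · intro j _ hj
      have : σ j ≠ i := fun h => hj (by rw [← h, Equiv.symm_apply_apply])
      simp only [B, if_neg this, zero_mul]
    · intro h; exact absurd (Finset.mem_univ _) h
  refine ⟨A, B, Matrix.diagonal fun i => (d (σ i) - d i)⁻¹, ?_⟩
  rw [hAB, hBA, Matrix.diagonal_sub, Matrix.diagonal_mul_diagonal, ← Matrix.diagonal_one]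
  congr 1
  ext i
  exact inv_mul_cancel₀ (hσ i)

end Mat

variable {k : Type*} [Field k] {C : Type*} [Category C] [Preadditive C] [Linear k C]
  [HasFiniteBiproducts C] [HasBinaryBiproducts C] {r : ℕ}

/-- The morphism given by a matrix and a morphism. -/
noncomputable def mat {L L' : C} (A : Matrix (Fin r) (Fin r) k) (f : L ⟶ L') :
    (⨁ fun _ : Fin r => L) ⟶ (⨁ fun _ : Fin r => L') :=
  biproduct.matrix fun i j => A i j • f

theorem mat_comp {L L' L'' : C} (A B : Matrix (Fin r) (Fin r) k) (f : L ⟶ L') (g : L' ⟶ L'') :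
    mat A f ≫ mat B g = mat (A * B) (f ≫ g) := by
  refine biproduct.hom_ext' _ _ fun i => biproduct.hom_ext _ _ fun l => ?_
  rw [mat, mat, mat, Category.assoc, Category.assoc, Category.assoc, biproduct.matrix_π,
    biproduct.ι_matrix_assoc, biproduct.lift_desc,
    biproduct.matrix_π, biproduct.ι_desc, Matrix.mul_apply, Finset.sum_smul]
  refine Finset.sum_congr rfl fun j _ => ?_
  rw [Linear.smul_comp, Linear.comp_smul, smul_smul]

theorem mat_add {L L' : C} (A B : Matrix (Fin r) (Fin r) k) (f : L ⟶ L') :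
    mat (A + B) f = mat A f + mat B f := by
  refine biproduct.hom_ext' _ _ fun i => biproduct.hom_ext _ _ fun l => ?_
  simp only [mat, biproduct.matrix_π, biproduct.ι_desc, Preadditive.comp_add, Preadditive.add_comp,
    Category.assoc, Matrix.add_apply, add_smul]

theorem mat_zero {L L' : C} (f : L ⟶ L') : mat (0 : Matrix (Fin r) (Fin r) k) f = 0 := by
  have h := mat_add (0 : Matrix (Fin r) (Fin r) k) 0 f
  rw [add_zero] at h
  exact left_eq_add.1 h

theorem ι_mat_one {L L' : C} (f : L ⟶ L') (i : Fin r) :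
    biproduct.ι (fun _ : Fin r => L) i ≫ mat (1 : Matrix (Fin r) (Fin r) k) f = f ≫ biproduct.ι (fun _ : Fin r => L') i := by
  refine biproduct.hom_ext _ _ fun l => ?_
  simp only [mat, Category.assoc, biproduct.matrix_π, biproduct.ι_desc, Matrix.one_apply]
  by_cases h : i = l
  · subst h; simp
  · rw [if_neg h, zero_smul, biproduct.ι_π_ne _ h, comp_zero]

variable {O M10 M01 M11 : C} (x : Fin 2 → (O ⟶ M10)) (y : Fin 2 → (O ⟶ M01))
  (x' : Fin 2 → (M01 ⟶ M11)) (y' : Fin 2 → (M10 ⟶ M11)) (hxy : ∀ i j, x i ≫ y' j = y j ≫ x' i)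
  (A B : Matrix (Fin r) (Fin r) k)

/-- The block matrix `(y₀ + y₁ A | x₀ + x₁ B)`. -/
noncomputable def big : ((⨁ fun _ : Fin r => M10) ⊞ (⨁ fun _ : Fin r => M01)) ⟶ (⨁ fun _ : Fin r => M11) :=
  biprod.desc (mat (1 : Matrix (Fin r) (Fin r) k) (y' 0) + mat A (y' 1))
    (mat (1 : Matrix (Fin r) (Fin r) k) (x' 0) + mat B (x' 1))

include hxy in
theorem lift_big (a0 a1 b0 b1 : Matrix (Fin r) (Fin r) k) :
    biprod.lift (mat a0 (x 0) + mat a1 (x 1)) (mat b0 (y 0) + mat b1 (y 1)) ≫ big x' y' A B =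
      mat (a0 + b0) (x 0 ≫ y' 0) + mat (a1 + b0 * B) (x 1 ≫ y' 0) +
        mat (a0 * A + b1) (x 0 ≫ y' 1) + mat (a1 * A + b1 * B) (x 1 ≫ y' 1) := by
  rw [big, biprod.lift_desc]
  simp only [Preadditive.add_comp, Preadditive.comp_add, mat_comp, mat_add, mul_one, ← hxy]
  abel

include hxy in
theorem exists_lift (K : Matrix (Fin r) (Fin r) k) (hK : K * (A * B - B * A) = 1)
    (c00 c10 c01 c11 : Matrix (Fin r) (Fin r) k) :
    ∃ s : (⨁ fun _ : Fin r => O) ⟶ ((⨁ fun _ : Fin r => M10) ⊞ (⨁ fun _ : Fin r => M01)),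
      s ≫ big x' y' A B = mat c00 (x 0 ≫ y' 0) + mat c10 (x 1 ≫ y' 0) +
        mat c01 (x 0 ≫ y' 1) + mat c11 (x 1 ≫ y' 1) := by
  let b0 : Matrix (Fin r) (Fin r) k := (c11 - c10 * A - c01 * B + c00 * (A * B)) * K
  have hb0 : b0 * (A * B) - b0 * (B * A) = c11 - c10 * A - c01 * B + c00 * (A * B) := by
    rw [← mul_sub]
    change (c11 - c10 * A - c01 * B + c00 * (A * B)) * K * (A * B - B * A) = _
    rw [mul_assoc, hK, mul_one]
  refine ⟨biprod.lift (mat (c00 - b0) (x 0) + mat (c10 - b0 * B) (x 1))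
    (mat b0 (y 0) + mat (c01 - (c00 - b0) * A) (y 1)), ?_⟩
  rw [lift_big x y x' y' hxy]
  have e1 : c00 - b0 + b0 = c00 := sub_add_cancel _ _
  have e2 : c10 - b0 * B + b0 * B = c10 := sub_add_cancel _ _
  have e3 : (c00 - b0) * A + (c01 - (c00 - b0) * A) = c01 := add_sub_cancel _ _
  have e4 : (c10 - b0 * B) * A + (c01 - (c00 - b0) * A) * B = c11 := by
    have : (c10 - b0 * B) * A + (c01 - (c00 - b0) * A) * B =
        c10 * A + c01 * B - c00 * (A * B) + (b0 * (A * B) - b0 * (B * A)) := by noncomm_ring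
    rw [this, hb0]
    abel
  rw [e1, e2, e3, e4]

include hxy in
/-- Every `x_i y_j` (times the identity matrix) factors through the block matrix. -/
theorem exists_lift_one (K : Matrix (Fin r) (Fin r) k) (hK : K * (A * B - B * A) = 1) (i j : Fin 2) :
    ∃ s : (⨁ fun _ : Fin r => O) ⟶ ((⨁ fun _ : Fin r => M10) ⊞ (⨁ fun _ : Fin r => M01)),
      s ≫ big x' y' A B = mat (1 : Matrix (Fin r) (Fin r) k) (x i ≫ y' j) := by
  fin_cases i <;> fin_cases j
  · obtain ⟨s, hs⟩ := exists_lift x y x' y' hxy A B K hK 1 0 0 0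
    simp only [mat_zero, add_zero, zero_add] at hs
    exact ⟨s, hs⟩
  · obtain ⟨s, hs⟩ := exists_lift x y x' y' hxy A B K hK 0 0 1 0
    simp only [mat_zero, add_zero, zero_add] at hs
    exact ⟨s, hs⟩
  · obtain ⟨s, hs⟩ := exists_lift x y x' y' hxy A B K hK 0 1 0 0
    simp only [mat_zero, add_zero, zero_add] at hs
    exact ⟨s, hs⟩
  · obtain ⟨s, hs⟩ := exists_lift x y x' y' hxy A B K hK 0 0 0 1
    simp only [mat_zero, add_zero, zero_add] at hs
    exact ⟨s, hs⟩

include hxy in
/-- The block matrix is an epimorphism if the `x_i y_j` are jointly epimorphic. -/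
theorem epi_big (K : Matrix (Fin r) (Fin r) k) (hK : K * (A * B - B * A) = 1)
    (hepi : ∀ (Z : C) (h : M11 ⟶ Z), (∀ i j, (x i ≫ y' j) ≫ h = 0) → h = 0) : Epi (big x' y' A B) := by
  refine Preadditive.epi_of_cancel_zero _ fun {Z} h hh => ?_
  refine biproduct.hom_ext' _ _ fun l => ?_
  rw [comp_zero]
  refine hepi Z _ fun i j => ?_
  obtain ⟨s, hs⟩ := exists_lift_one x y x' y' hxy A B K hK i j
  rw [← Category.assoc, ← ι_mat_one (k := k), ← hs, Category.assoc, Category.assoc, hh, comp_zero, comp_zero]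

end K700.MatEpi
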