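import Groth.Agent.VBPn.K700.KosGen
import Groth.Agent.VBPn.K700.MatEpi
import Groth.Agent.VBPn.K700.QuadDim
import Groth.Prelude.Def_KLin

/-!
# The sections `x_i y_j` of `O(1,1)` on `P¹ × P¹`

* `mulV_jointly_epi`, `mulV_exists_sum` for a morphism to `P¹`;
* `exists_epi`: an epimorphism `O(1,0)^r ⊞ O(0,1)^r ⟶ O(1,1)^r` onto on global sections.
-/

set_option autoImplicit false
universe u

open CategoryTheory CategoryTheory.Limits AlgebraicGeometry Opposite TopologicalSpace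

namespace K700.QuadGen

open Groth.Agent.Grpsch.PicGrp Groth.Agent.Lefpen.H21.PicTwist Groth.Agent.VarietyA.EulerLES
open Groth.Agent.Ega2.Tens Groth.Agent.PerfB.TwistMul Groth.Agent.Ega3B.ProjTwist
open K700.PicVan K700.HDim K700.Quad K700.QuadDim K700.KosGen K700.MatEpi

theorem swap_mapT {X : Scheme.{u}} {M M' N N' : X.Modules} (f : M ⟶ M') (g : N ⟶ N') :
    (swap M N).hom ≫ mapT g f = mapT f g ≫ (swap M' N').hom := by
  refine hom_ext _ _ fun U m n => ?_
  change (mapT g f).app U ((swapHom M N).app U (tmul m n)) = (swapHom M' N').app U ((mapT f g).app U (tmul m n))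
  rw [mapT_tmul, swapHom_tmul, mapT_tmul, swapHom_tmul]

section Gen

variable {X : Scheme.{u}} {R : Type u} [CommRing R] (g : X ⟶ CohB1.ProjSpace 1 R) (E : X.Modules)

/-- Multiplication by the pulled back variable `j`. -/
noncomputable def mulV (j : Fin 2) (a b : ℤ) (h : b = a + (1 : ℕ)) :
    CohB1.tensorMod E ((Scheme.Modules.pullback g).obj (Twist.twistProjSpace 1 R a)) ⟶
      CohB1.tensorMod E ((Scheme.Modules.pullback g).obj (Twist.twistProjSpace 1 R b)) :=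
  mapT (𝟙 E) ((Scheme.Modules.pullback g).map (mulT (var 1 R j) a b h))

theorem mulV_jointly_epi (a b : ℤ) (h : b = a + (1 : ℕ)) (h1 : Van E (hyp g ^ (a - 1)) 1) {Z : X.Modules}
    (φ : CohB1.tensorMod E ((Scheme.Modules.pullback g).obj (Twist.twistProjSpace 1 R b)) ⟶ Z)
    (hφ : ∀ j, mulV g E j a b h ≫ φ = 0) : φ = 0 := by
  obtain ⟨a', rfl⟩ : ∃ a', a = a' + 1 := ⟨a - 1, by ring⟩
  obtain rfl : b = a' + (1 + 1) := by rw [h]; push_cast; ring
  refine jointly_epi (fam g E a') (op g E a') (op_comm g _ _) (op_bijective g _ _) ?_ φ hφ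
  rw [← van_mk_iff (isInvertible_pullback_twist g _), mk_pullback_twist]
  simpa using h1

theorem mulV_exists_sum (a b : ℤ) (h : b = a + (1 : ℕ)) (h1 : Van E (hyp g ^ (a - 1)) 1)
    (z : Coh.HH X (CohB1.tensorMod E ((Scheme.Modules.pullback g).obj (Twist.twistProjSpace 1 R b))) 0) :
    ∃ w : Fin 2 → Coh.HH X (CohB1.tensorMod E ((Scheme.Modules.pullback g).obj (Twist.twistProjSpace 1 R a))) 0,
      z = ∑ j, mapΓ (mulV g E j a b h) 0 (w j) := by
  obtain ⟨a', rfl⟩ : ∃ a', a = a' + 1 := ⟨a - 1, by ring⟩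
  obtain rfl : b = a' + (1 + 1) := by rw [h]; push_cast; ring
  refine exists_sum (fam g E a') (op g E a') (op_comm g _ _) (op_bijective g _ _) ?_ z
  rw [← van_mk_iff (isInvertible_pullback_twist g _), mk_pullback_twist]
  simpa using h1

end Gen

variable (k : Type u) [Field k]

/-- `x_j : O(a, b) ⟶ O(a', b)`. -/
noncomputable def xm (j : Fin 2) (a a' b : ℤ) (h : a' = a + (1 : ℕ)) : OO k a b ⟶ OO k a' b :=
  mapT ((Scheme.Modules.pullback (p₁ k)).map (mulT (var 1 k j) a a' h)) (𝟙 _)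

/-- `y_j : O(a, b) ⟶ O(a, b')`. -/
noncomputable def ym (j : Fin 2) (a b b' : ℤ) (h : b' = b + (1 : ℕ)) : OO k a b ⟶ OO k a b' :=
  mapT (𝟙 _) ((Scheme.Modules.pullback (p₂ k)).map (mulT (var 1 k j) b b' h))

theorem xm_ym (i j : Fin 2) (a a' b b' : ℤ) (h : a' = a + (1 : ℕ)) (h' : b' = b + (1 : ℕ)) :
    xm k i a a' b h ≫ ym k j a' b b' h' = ym k j a b b' h' ≫ xm k i a a' b' h := by
  simp only [xm, ym, ← mapT_comp, Category.comp_id, Category.id_comp]

theorem xm_swap (j : Fin 2) (a a' b : ℤ) (h : a' = a + (1 : ℕ)) :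
    (swap _ _).hom ≫ mulV (p₁ k) ((Scheme.Modules.pullback (p₂ k)).obj (Twist.twistProjSpace 1 k b)) j a a' h =
      xm k j a a' b h ≫ (swap _ _).hom := by
  exact swap_mapT _ _

theorem ym_jointly_epi (a b b' : ℤ) (h : b' = b + (1 : ℕ))
    (h1 : Van (Coh.structureModule (QQ k)) (qc k a (b - 1)) 1) {Z : (QQ k).Modules}
    (φ : OO k a b' ⟶ Z) (hφ : ∀ j, ym k j a b b' h ≫ φ = 0) : φ = 0 := by
  refine mulV_jointly_epi (p₂ k) _ b b' h ?_ φ hφ
  rw [van_inv_iff (isInvertible_pullback_twist _ _), mk_pullback_twist]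
  exact h1

theorem ym_exists_sum (a b b' : ℤ) (h : b' = b + (1 : ℕ))
    (h1 : Van (Coh.structureModule (QQ k)) (qc k a (b - 1)) 1) (z : Coh.HH (QQ k) (OO k a b') 0) :
    ∃ w : Fin 2 → Coh.HH (QQ k) (OO k a b) 0, z = ∑ j, mapΓ (ym k j a b b' h) 0 (w j) := by
  refine mulV_exists_sum (p₂ k) _ b b' h ?_ z
  rw [van_inv_iff (isInvertible_pullback_twist _ _), mk_pullback_twist]
  exact h1

theorem xm_jointly_epi (a a' b : ℤ) (h : a' = a + (1 : ℕ))
    (h1 : Van (Coh.structureModule (QQ k)) (qc k (a - 1) b) 1) {Z : (QQ k).Modules}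
    (φ : OO k a' b ⟶ Z) (hφ : ∀ j, xm k j a a' b h ≫ φ = 0) : φ = 0 := by
  have := mulV_jointly_epi (p₁ k) ((Scheme.Modules.pullback (p₂ k)).obj (Twist.twistProjSpace 1 k b))
    a a' h ?_ ((swap _ _).inv ≫ φ) ?_
  · rw [← cancel_epi (swap _ _).inv, this, comp_zero]
  · rw [van_inv_iff (isInvertible_pullback_twist _ _), mk_pullback_twist, mul_comm]
    exact h1
  · intro j
    rw [← cancel_epi (swap _ _).hom, comp_zero, ← Category.assoc, xm_swap, Category.assoc,
      Iso.hom_inv_id_assoc]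
    exact hφ j

theorem xm_exists_sum (a a' b : ℤ) (h : a' = a + (1 : ℕ))
    (h1 : Van (Coh.structureModule (QQ k)) (qc k (a - 1) b) 1) (z : Coh.HH (QQ k) (OO k a' b) 0) :
    ∃ w : Fin 2 → Coh.HH (QQ k) (OO k a b) 0, z = ∑ j, mapΓ (xm k j a a' b h) 0 (w j) := by
  obtain ⟨w, hw⟩ := mulV_exists_sum (p₁ k) ((Scheme.Modules.pullback (p₂ k)).obj (Twist.twistProjSpace 1 k b))
    a a' h (by
      rw [van_inv_iff (isInvertible_pullback_twist _ _), mk_pullback_twist, mul_comm]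
      exact h1) (mapΓ (swap _ _).hom 0 z)
  refine ⟨fun j => mapΓ (swap _ _).inv 0 (w j), ?_⟩
  apply (equivΓ (swap ((Scheme.Modules.pullback (p₁ k)).obj (Twist.twistProjSpace 1 k a'))
    ((Scheme.Modules.pullback (p₂ k)).obj (Twist.twistProjSpace 1 k b))) 0).injective
  change mapΓ (swap _ _).hom 0 z = mapΓ (swap _ _).hom 0 _
  rw [hw, map_sum]
  refine Finset.sum_congr rfl fun j _ => ?_
  rw [← LinearMap.comp_apply, ← LinearMap.comp_apply, ← mapΓ_comp, ← mapΓ_comp, ← xm_swap,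
    Iso.inv_hom_id_assoc]

end K700.QuadGen
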