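import Groth.Agent.VBPn.K697.Triv
import Groth.Agent.BlowUp.K484.ProjNum
import Groth.Agent.VBPn.K700.HDim
import Groth.Agent.ProjDual.K272.Horrocks

/-!
# Uniform bundles of rank two on the plane: cohomology along lines

* `Uni E a`: the restriction of `E` to every (linearly parametrised) line is `O(a 0) ⊕ O(a 1)`;
* `ker_dim`: the dimension of the kernel of `H¹(E(d)) → H¹(E(d + 1))`;

-/

set_option autoImplicit false
universe u

open CategoryTheory CategoryTheory.Limits AlgebraicGeometry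

namespace K700.VenA

open K697.Lin K697.LinSeq K697.Lift K697.Chain K697.NegVan K697.IsoCrit K697.ProjNat K697.Pencil K697.Triv
open Groth.Agent Groth.Agent.VarietyB.HHLes Groth.Agent.Divis.ProjPic

attribute [local instance] Abelian.hasFiniteBiproducts

variable {k : Type u} [Field k]

/-- The restriction of `E` to every line is `O(a 0) ⊕ O(a 1)`. -/
def Uni (E : (CohB1.ProjSpace (1 + 1) k).Modules) (a : Fin 2 → ℤ) : Prop :=
  ∀ (A : (Fin (1 + 1 + 1) → k) →ₗ[k] (Fin (1 + 1) → k)) (hA : Function.Surjective A),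
    Nonempty (restE A hA E ≅ ∐ fun j => Twist.twistProjSpace 1 k (a j))

section Exact

variable {X : Scheme.{u}} [X.Over (Spec (CommRingCat.of k))] {S : ShortComplex X.Modules}

theorem Hmap_injective (hS : S.ShortExact) : Function.Injective (Hmap k S.f 0) := by
  have := hS.mono_f
  exact K700.HDim.injective_mapΓ S.f

/-- The dimension of the kernel of `H¹(S₁) → H¹(S₂)`. -/
theorem fr_ker (hS : S.ShortExact) [Module.Finite k (Hn k X S.X₂ 0)] [Module.Finite k (Hn k X S.X₃ 0)] :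
    Module.finrank k (LinearMap.ker (Hmap k S.f 1)) + Module.finrank k (Hn k X S.X₂ 0) =
      Module.finrank k (Hn k X S.X₁ 0) + Module.finrank k (Hn k X S.X₃ 0) := by
  have e1 := (Hδ k hS 0).finrank_range_add_finrank_ker
  have e2 := (Hmap k S.g 0).finrank_range_add_finrank_ker
  have e3 := LinearMap.finrank_range_of_inj (Hmap_injective (k := k) hS)
  have h1 : LinearMap.range (Hδ k hS 0) = LinearMap.ker (Hmap k S.f 1) := by
    ext x
    constructor
    · rintro ⟨y, rfl⟩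
      exact Hmap_Hδ k hS 0 y
    · exact fun hx => exact₁ k hS 0 x hx
  have h2 : LinearMap.range (Hmap k S.g 0) = LinearMap.ker (Hδ k hS 0) := by
    ext x
    constructor
    · rintro ⟨y, rfl⟩
      exact Hδ_Hmap k hS 0 y
    · exact fun hx => exact₃ k hS 0 x hx
  have h3 : LinearMap.range (Hmap k S.f 0) = LinearMap.ker (Hmap k S.g 0) := by
    ext x
    constructor
    · rintro ⟨y, rfl⟩
      exact Hmap_f_g k 0 y
    · exact fun hx => exact₂ k hS 0 x hx
  have e1' : Module.finrank k (LinearMap.ker (Hmap k S.f 1)) + Module.finrank k (LinearMap.range (Hmap k S.g 0)) =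
      Module.finrank k (Hn k X S.X₃ 0) := by
    rw [h2, ← e1]
    exact congrArg (· + _) (congrArg (fun p : Submodule k (Hn k X S.X₁ (0 + 1)) => Module.finrank k p) h1).symm
  rw [← h3, e3] at e2
  omega

noncomputable def prodEquiv {F A B : X.Modules} (i0 : A ⟶ F) (i1 : B ⟶ F) (p0 : F ⟶ A) (p1 : F ⟶ B) (h00 : i0 ≫ p0 = 𝟙 A)
    (h11 : i1 ≫ p1 = 𝟙 B) (h01 : i0 ≫ p1 = 0) (h10 : i1 ≫ p0 = 0) (ht : p0 ≫ i0 + p1 ≫ i1 = 𝟙 F) (q : ℕ) :
    Hn k X F q ≃ₗ[k] Hn k X A q × Hn k X B q :=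
  LinearEquiv.ofLinearMap ((Hmap k p0 q).prod (Hmap k p1 q)) ((Hmap k i0 q).coprod (Hmap k i1 q)) (by
    apply LinearMap.ext
    rintro ⟨x, y⟩
    have e1 : Hmap k p0 q (Hmap k i0 q x) = x := by
      rw [← LinearMap.comp_apply, ← Hmap_comp, h00, Hmap_id]; rfl
    have e2 : Hmap k p1 q (Hmap k i1 q y) = y := by
      rw [← LinearMap.comp_apply, ← Hmap_comp, h11, Hmap_id]; rfl
    have e3 : Hmap k p1 q (Hmap k i0 q x) = 0 := by
      rw [← LinearMap.comp_apply, ← Hmap_comp, h01, Hmap_zero]; rfl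
    have e4 : Hmap k p0 q (Hmap k i1 q y) = 0 := by
      rw [← LinearMap.comp_apply, ← Hmap_comp, h10, Hmap_zero]; rfl
    refine Prod.ext ?_ ?_
    · change Hmap k p0 q (Hmap k i0 q x + Hmap k i1 q y) = x
      rw [map_add, e1, e4, add_zero]
    · change Hmap k p1 q (Hmap k i0 q x + Hmap k i1 q y) = y
      rw [map_add, e2, e3, zero_add]) (by
    apply LinearMap.ext
    intro x
    have e1 := K697.Pencil.Hmap_add' (k := k) (p0 ≫ i0) (p1 ≫ i1) q x
    rw [ht, Hmap_id, Hmap_comp, Hmap_comp] at e1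
    exact e1.symm)

theorem finrank_prodEquiv {F A B : X.Modules} (i0 : A ⟶ F) (i1 : B ⟶ F) (p0 : F ⟶ A) (p1 : F ⟶ B) (h00 : i0 ≫ p0 = 𝟙 A)
    (h11 : i1 ≫ p1 = 𝟙 B) (h01 : i0 ≫ p1 = 0) (h10 : i1 ≫ p0 = 0) (ht : p0 ≫ i0 + p1 ≫ i1 = 𝟙 F) (q : ℕ)
    [Module.Finite k (Hn k X A q)] [Module.Finite k (Hn k X B q)] :
    Module.finrank k (Hn k X F q) = Module.finrank k (Hn k X A q) + Module.finrank k (Hn k X B q) := by
  rw [(prodEquiv i0 i1 p0 p1 h00 h11 h01 h10 ht q).finrank_eq, Module.finrank_prod]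

theorem finrank_two (M : Fin 2 → X.Modules) (F : X.Modules) (e : F ≅ ∐ M) (q : ℕ)
    (hf : ∀ j, Module.Finite k (Hn k X (M j) q)) :
    Module.finrank k (Hn k X F q) = Module.finrank k (Hn k X (M 0) q) + Module.finrank k (Hn k X (M 1) q) := by
  let e' : F ≅ ⨁ M := e ≪≫ (biproduct.isoCoproduct _).symm
  have := hf 0
  have := hf 1
  refine finrank_prodEquiv (biproduct.ι M 0 ≫ e'.inv) (biproduct.ι M 1 ≫ e'.inv) (e'.hom ≫ biproduct.π M 0)
    (e'.hom ≫ biproduct.π M 1) ?_ ?_ ?_ ?_ ?_ q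
  · rw [Category.assoc, e'.inv_hom_id_assoc, biproduct.ι_π_self]
  · rw [Category.assoc, e'.inv_hom_id_assoc, biproduct.ι_π_self]
  · rw [Category.assoc, e'.inv_hom_id_assoc, biproduct.ι_π_ne _ (by decide)]
  · rw [Category.assoc, e'.inv_hom_id_assoc, biproduct.ι_π_ne _ (by decide)]
  · have h := biproduct.total (f := M)
    rw [Fin.sum_univ_two] at h
    simp only [Category.assoc]
    rw [← Preadditive.comp_add]
    simp only [← Category.assoc (biproduct.π M _)]
    rw [← Preadditive.add_comp, h, Category.id_comp, e'.hom_inv_id]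

end Exact

/-- `dim H⁰(P¹, O(m))` -/
theorem p1 (m : ℤ) : Module.finrank k (Hn k (CohB1.ProjSpace 1 k) (Twist.twistProjSpace 1 k m) 0) = (m + 1).toNat := by
  refine (K484.ProjNum.h_zero k 1 le_rfl m).trans ?_
  rw [Nat.choose_one_right]
  norm_num

theorem finite_tw' (n : ℕ) (m : ℤ) (q : ℕ) :
    Module.Finite k (Hn k (CohB1.ProjSpace n k) (Twist.twistProjSpace n k m) q) :=
  Groth.Agent.S0038.result n k _ (isCoh_of_isFinLocFree (Groth.Agent.Sga2.PnCoprod.isFinLocFree_tw n k m)) q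

variable {E : (CohB1.ProjSpace (1 + 1) k).Modules} {a : Fin 2 → ℤ}

/-- The sections on a line. -/
theorem line_h0 (hu : Uni E a) (C : (Fin (1 + 1 + 1) → k) →ₗ[k] (Fin (1 + 1) → k)) (hC : Function.Surjective C) (d : ℤ) :
    Module.finrank k (Hn k (CohB1.ProjSpace 1 k) (tw (restE C hC E) d) 0) =
      (a 0 + d + 1).toNat + (a 1 + d + 1).toNat := by
  obtain ⟨e⟩ := hu C hC
  rw [finrank_two (k := k) (fun j => Twist.twistProjSpace 1 k (a j + d)) (tw (restE C hC E) d) (twIso e d ≪≫ sumTw a d) 0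
    (fun j => finite_tw' (k := k) 1 (a j + d) 0), p1, p1]

theorem line_h0_zero (hu : Uni E a) (C : (Fin (1 + 1 + 1) → k) →ₗ[k] (Fin (1 + 1) → k)) (hC : Function.Surjective C) (d : ℤ)
    (h : ∀ j, a j + d < 0) : Subsingleton (Coh.HH (CohB1.ProjSpace 1 k) (tw (restE C hC E) d) 0) := by
  obtain ⟨e⟩ := hu C hC
  exact Groth.Agent.Fga.HShift.subsingleton_of_iso (twIso e d).symm 0 (subsingleton_HH_sum _ d 0 fun j =>
    Groth.Agent.S0844.result k 1 (a j + d) 0 (by have := h j; omega) (by omega))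

theorem line_h1_zero (hu : Uni E a) (C : (Fin (1 + 1 + 1) → k) →ₗ[k] (Fin (1 + 1) → k)) (hC : Function.Surjective C) (d : ℤ)
    (h : ∀ j, -1 ≤ a j + d) : Subsingleton (Coh.HH (CohB1.ProjSpace 1 k) (tw (restE C hC E) d) 1) := by
  obtain ⟨e⟩ := hu C hC
  exact Groth.Agent.Fga.HShift.subsingleton_of_iso (twIso e d).symm 1 (subsingleton_HH_sum _ d 1 fun j =>
    Groth.Agent.S0844.result k 1 (a j + d) 1 (by omega) (by have := h j; omega))

theorem finite_E (hE : FlatMod.IsFinLocFree E) (d : ℤ) (q : ℕ) :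
    Module.Finite k (Hn k (CohB1.ProjSpace (1 + 1) k) (tw E d) q) :=
  Groth.Agent.S0038.result (1 + 1) k (tw E d) (isCoh_tw hE d) q

theorem finite_line (hE : FlatMod.IsFinLocFree E) (C : (Fin (1 + 1 + 1) → k) →ₗ[k] (Fin (1 + 1) → k))
    (hC : Function.Surjective C) (d : ℤ) (q : ℕ) :
    Module.Finite k (Hn k (CohB1.ProjSpace 1 k) (tw (restE C hC E) d) q) :=
  Groth.Agent.S0038.result 1 k (tw (restE C hC E) d) (isCoh_tw (isFinLocFree_restE hC hE) d) q

theorem push_equiv (hE : FlatMod.IsFinLocFree E) (C : (Fin (1 + 1 + 1) → k) →ₗ[k] (Fin (1 + 1) → k))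
    (hC : Function.Surjective C) (d : ℤ) (q : ℕ) :
    Nonempty (Hn k (CohB1.ProjSpace (1 + 1) k) ((Scheme.Modules.pushforward (emb C hC)).obj (tw (restE C hC E) d)) q ≃ₗ[k]
      Hn k (CohB1.ProjSpace 1 k) (tw (restE C hC E) d) q) :=
  Groth.Agent.VarietyB.HHPush.exists_linearEquiv (emb C hC) k (emb_toSpec C hC) (tw (restE C hC E) d)
    (isQCoh_tw (hasBases_restE hC (hasBases hE)) d) q

/-- The dimension of the kernel of the multiplication by a linear form. -/
theorem ker_dim (hE : FlatMod.IsFinLocFree E) (hu : Uni E a) {s : Fin (1 + 1 + 1) → k} (hs0 : s ≠ 0) {d d' : ℤ}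
    (h : d + 1 = d') :
    Module.finrank k (LinearMap.ker (Hmap k (mulE E s h) 1)) +
      Module.finrank k (Hn k (CohB1.ProjSpace (1 + 1) k) (tw E d') 0) =
      Module.finrank k (Hn k (CohB1.ProjSpace (1 + 1) k) (tw E d) 0) +
        ((a 0 + d' + 1).toNat + (a 1 + d' + 1).toNat) := by
  obtain ⟨C, hC, hker⟩ := exists_quot s hs0
  have hS := shortExact_hypSeq hC (hasBases hE) (mem_of_ker hker) hs0 hker h
  obtain ⟨e⟩ := push_equiv hE C hC d' 0
  have f1 : Module.Finite k (Hn k (CohB1.ProjSpace (1 + 1) k)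
      (hypSeq hC (hasBases hE) (mem_of_ker hker) h).X₂ 0) := finite_E hE d' 0
  have f2 : Module.Finite k (Hn k (CohB1.ProjSpace (1 + 1) k)
      (hypSeq hC (hasBases hE) (mem_of_ker hker) h).X₃ 0) := by
    have := finite_line hE C hC d' 0
    exact Module.Finite.equiv e.symm
  have h1 := fr_ker (k := k) hS
  have h2 := line_h0 hu C hC d'
  have h3 := e.finrank_eq
  rw [← h2, ← h3]
  exact h1

end K700.VenA
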